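import Cfsg.Agent.H90.DickInf
import Cfsg.Agent.S0801

/-! Generation of `SL₂(k(z))` by `x(k)` and `y(kz)`. -/

set_option autoImplicit false

namespace Cfsg.Agent.H90
open Cfsg Polynomial

local notation "SL2" => Matrix.SpecialLinearGroup (Fin 2)

variable {k K : Type*} [Field k] [Field K] [Algebra k K]

theorem exists_sq_ne_one (h2 : (2 : k) ≠ 0) (h3 : Nat.card k ≠ 3) : ∃ c : k, c ≠ 0 ∧ c ^ 2 ≠ 1 := by
  by_contra hc
  push Not at hc
  apply h3
  rw [← Set.ncard_univ, Set.ncard_eq_three]
  refine ⟨0, 1, -1, zero_ne_one, by simp, fun h => h2 (by linear_combination h), ?_⟩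
  symm
  rw [Set.eq_univ_iff_forall]
  intro c
  by_cases h0 : c = 0
  · simp [h0]
  · rcases mul_self_eq_one_iff.1 ((pow_two c).symm.trans (hc c h0)) with h | h <;> simp [h]

/-- twisted embedding -/
def swapFun {F : Type*} [Field F] (f : F →+* K) (c : K) (hc : c ≠ 0) (g : SL2 F) : SL2 K :=
  ⟨!![f (g.1 1 1), c * f (g.1 1 0); f (g.1 0 1) / c, f (g.1 0 0)], by
    have := congrArg f (sl2_det g)
    simp only [map_sub, map_mul, map_one] at this
    rw [Matrix.det_fin_two_of]; field_simp; linear_combination this⟩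

theorem swapFun_coe {F : Type*} [Field F] (f : F →+* K) (c : K) (hc : c ≠ 0) (g : SL2 F) :
    (swapFun f c hc g).1 = !![f (g.1 1 1), c * f (g.1 1 0); f (g.1 0 1) / c, f (g.1 0 0)] := rfl

/-- twisted embedding -/
def swapHom {F : Type*} [Field F] (f : F →+* K) (c : K) (hc : c ≠ 0) : SL2 F →* SL2 K where
  toFun := swapFun f c hc
  map_one' := by apply sl2_ext <;> simp [swapFun_coe]
  map_mul' g h := by
    apply sl2_ext <;> simp only [sl2_mul_apply, swapFun_coe] <;> simp <;> field_simp <;> ring

theorem gen_finite [Finite K] (h2 : (2 : k) ≠ 0) (h3 : Nat.card k ≠ 3) {Γ : Subgroup (SL2 K)} {z : K}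
    (hz0 : z ≠ 0) (hgen : Algebra.adjoin k {z} = ⊤) (hx : ∀ c : k, xu (algebraMap k K c) ∈ Γ)
    (hy : ∀ c : k, xl (algebraMap k K c * z) ∈ Γ) : Γ = ⊤ := by
  have h2' : (2 : K) ≠ 0 := by
    have : algebraMap k K 2 ≠ 0 := by simpa using h2
    rwa [map_ofNat] at this
  obtain ⟨d, hd0, hd⟩ : ∃ d : k, d ≠ 0 ∧ (algebraMap k K d * z) ^ 2 ≠ -1 := by
    by_cases hz : z ^ 2 = -1
    · obtain ⟨c, hc0, hc⟩ := exists_sq_ne_one h2 h3
      refine ⟨c, hc0, fun h => hc ((algebraMap k K).injective ?_)⟩
      rw [mul_pow, hz] at h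
      rw [map_pow, map_one]; linear_combination -h
    · exact ⟨1, one_ne_zero, by simpa using hz⟩
  set l := algebraMap k K d * z with hl
  have hd0' : algebraMap k K d ≠ 0 := by simpa using hd0
  let F := Subfield.closure ({l} : Set K)
  let lam : F := ⟨l, Subfield.subset_closure rfl⟩
  have hFgen : Subfield.closure ({lam} : Set F) = ⊤ := by
    have h1 : (Subfield.closure ({lam} : Set F)).map F.subtype = F := by
      rw [RingHom.map_field_closure]; simp [lam, F]
    rw [eq_top_iff]
    intro t _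
    have ht : (t : K) ∈ (Subfield.closure ({lam} : Set F)).map F.subtype := by rw [h1]; exact t.2
    obtain ⟨s, hs, e⟩ := ht
    rwa [← Subtype.ext e]
  have := Fintype.ofFinite F
  have htop := ((S0801.result (F := F) (fun h => h2' (by
      have := congrArg F.subtype h; rwa [map_ofNat, map_zero] at this)) lam
    (fun h => mul_ne_zero hd0' hz0 (congrArg Subtype.val h)) hFgen).resolve_right
      (fun h => hd (by simpa using congrArg Subtype.val h.2.1))).1
  have key : ∀ c : k, ∀ j : ℕ, xu (algebraMap k K c * l ^ j) ∈ Γ := by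
    intro c j
    by_cases hc : c = 0
    · rw [hc, map_zero, zero_mul, xu_zero]; exact Γ.one_mem
    have hc' : algebraMap k K c ≠ 0 := by simpa using hc
    let ψ := swapHom F.subtype _ hc'
    have h1 : ∀ t : F, ψ (xl t) = xu (algebraMap k K c * t) := by
      intro t; apply sl2_ext <;> simp [ψ, swapHom, swapFun_coe]
    have h2 : ∀ t : F, ψ (xu t) = xl (t / algebraMap k K c) := by
      intro t; apply sl2_ext <;> simp [ψ, swapHom, swapFun_coe]
    have hle : (⊤ : Subgroup (SL2 F)) ≤ Γ.comap ψ := by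
      rw [← htop, Subgroup.closure_le]
      rintro g (hg | hg)
      · have : g = xl 1 := Subtype.ext hg
        rw [this, SetLike.mem_coe, Subgroup.mem_comap, h1]; simpa using hx c
      · have : g = xu lam := Subtype.ext hg
        rw [this, SetLike.mem_coe, Subgroup.mem_comap, h2]
        convert hy (d / c) using 2
        simp only [lam, hl, map_div₀]; ring
    have := hle (Subgroup.mem_top (xl (lam ^ j)))
    rw [Subgroup.mem_comap, h1] at this
    simpa [lam] using this
  refine sl2_eq_top_of_upper (fun t => ?_) hz0 (by simpa using hy 1)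
  have ht : t ∈ Algebra.adjoin k {z} := hgen ▸ Algebra.mem_top
  rw [Algebra.adjoin_singleton_eq_range_aeval] at ht
  obtain ⟨p, rfl⟩ := ht
  show xu (aeval z p) ∈ Γ
  induction p using Polynomial.induction_on' with
  | add p q hp hq => rw [map_add, xu_add]; exact Γ.mul_mem hp hq
  | monomial n a =>
    convert key (a / d ^ n) n using 2
    rw [aeval_monomial, hl, map_div₀, map_pow, mul_pow]; field_simp

theorem gen_field (h2 : (2 : k) ≠ 0) (h3 : Nat.card k ≠ 3) {Γ : Subgroup (SL2 K)} {z : K}
    (hz0 : z ≠ 0) (hz : IsIntegral k z) (hgen : Algebra.adjoin k {z} = ⊤)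
    (hx : ∀ c : k, xu (algebraMap k K c) ∈ Γ) (hy : ∀ c : k, xl (algebraMap k K c * z) ∈ Γ) : Γ = ⊤ := by
  rcases finite_or_infinite k with hk | hk
  · have h1 : Module.Finite k (⊤ : Subalgebra k K) := hgen ▸ Algebra.finite_adjoin_simple_of_isIntegral hz
    have : Module.Finite k K := Module.Finite.equiv (Subalgebra.topEquiv (R := k) (A := K)).toLinearEquiv
    have : Finite K := Module.finite_of_finite k
    exact gen_finite h2 h3 hz0 hgen hx hy
  · exact gen_infinite h2 hz0 hz hgen hx hy

theorem two_ne_zero_of_ringChar (h : ringChar k ≠ 2) : (2 : k) ≠ 0 := Ring.two_ne_zero h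

end Cfsg.Agent.H90
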