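import Cfsg.Agent.H90.SL2

/-! Generation of `SL₂(k(z))` by `x(k)` and `y(kz)`, `k` infinite. -/

set_option autoImplicit false

namespace Cfsg.Agent.H90
open Cfsg Polynomial

local notation "SL2" => Matrix.SpecialLinearGroup (Fin 2)

/-- fraction-free Euclidean algorithm: product of the pivots -/
noncomputable def disc {R : Type*} [CommRing R] : ℕ → R[X] → R[X] → R
  | 0, A, _ => A.coeff 0
  | (m + 1), A, B =>
    B.coeff m * (C (B.coeff m) * A - C (A.coeff (m + 1)) * (X * B)).coeff m *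
      disc m (C ((C (B.coeff m) * A - C (A.coeff (m + 1)) * (X * B)).coeff m) *
          (C (B.coeff m) * A - C (A.coeff (m + 1)) * (X * B)))
        (C ((C (B.coeff m) * A - C (A.coeff (m + 1)) * (X * B)).coeff m) * (C (B.coeff m) * B) -
          C (B.coeff m * B.coeff m) * (C (B.coeff m) * A - C (A.coeff (m + 1)) * (X * B)))

theorem disc_map {R S : Type*} [CommRing R] [CommRing S] (φ : R →+* S) (m : ℕ) :
    ∀ A B : R[X], disc m (A.map φ) (B.map φ) = φ (disc m A B) := by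
  induction m with
  | zero => intro A B; simp [disc]
  | succ m ih =>
    intro A B
    have e : C (φ (B.coeff m)) * A.map φ - C (φ (A.coeff (m + 1))) * (X * B.map φ) =
        (C (B.coeff m) * A - C (A.coeff (m + 1)) * (X * B)).map φ := by
      simp [Polynomial.map_sub, Polynomial.map_mul]
    simp only [disc, coeff_map, e, map_mul φ]
    rw [← ih]
    congr 2
    · simp only [Polynomial.map_mul, map_C]
    · simp only [Polynomial.map_mul, map_C, Polynomial.map_sub (p := _ * _) (q := C (_ * _) * _), map_mul φ]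

theorem exists_disc (R : Type*) [CommRing R] (m : ℕ) : ∃ A B : R[X], A.coeff m = 1 ∧ (∀ i, m < i → A.coeff i = 0) ∧
    (∀ i, m ≤ i → B.coeff i = 0) ∧ disc m A B = 1 := by
  induction m with
  | zero => exact ⟨1, 0, by simp, fun i hi => by rw [coeff_one, if_neg hi.ne'], by simp, by simp [disc]⟩
  | succ m ih =>
    obtain ⟨A, B, h1, h2, h3, h4⟩ := ih
    have e1 : (B + A).coeff m = 1 := by rw [coeff_add, h1, h3 m le_rfl, zero_add]
    have e2 : (A + X * (B + A)).coeff (m + 1) = 1 := by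
      rw [coeff_add, coeff_X_mul, e1, h2 _ (Nat.lt_succ_self m), zero_add]
    refine ⟨A + X * (B + A), B + A, e2, ?_, ?_, ?_⟩
    · intro i hi
      obtain ⟨j, rfl⟩ : ∃ j, i = j + 1 := ⟨i - 1, by omega⟩
      rw [coeff_add, coeff_X_mul, coeff_add, h2 _ (by omega), h2 _ (by omega), h3 _ (by omega)]; simp
    · intro i hi
      rw [coeff_add, h2 _ (by omega), h3 _ (by omega), add_zero]
    · simp only [disc, e1, e2, map_one, one_mul, add_sub_cancel_right, h1, h4]

variable {k K : Type*} [Field k] [Field K] [Algebra k K]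

/-- vectors which can be moved to `k^× (1,0)` -/
def Reach (k : Type*) [Field k] [Algebra k K] (Γ : Subgroup (SL2 K)) (u v : K) : Prop :=
  ∃ g ∈ Γ, ∃ s : k, s ≠ 0 ∧ g.1 0 0 * u + g.1 0 1 * v = algebraMap k K s ∧ g.1 1 0 * u + g.1 1 1 * v = 0

theorem Reach.of_smul {Γ : Subgroup (SL2 K)} {u v : K} {c : k} (hc : c ≠ 0)
    (h : Reach k Γ (algebraMap k K c * u) (algebraMap k K c * v)) : Reach k Γ u v := by
  obtain ⟨g, hg, s, hs, h1, h2⟩ := h
  have hc' : algebraMap k K c ≠ 0 := by simpa using hc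
  refine ⟨g, hg, s / c, div_ne_zero hs hc, ?_, ?_⟩
  · rw [map_div₀, eq_div_iff hc', ← h1]; ring
  · apply mul_left_cancel₀ hc'; rw [mul_zero, ← h2]; ring

theorem Reach.of_xu {Γ : Subgroup (SL2 K)} {u v t : K} (ht : xu t ∈ Γ) (h : Reach k Γ (u + t * v) v) :
    Reach k Γ u v := by
  obtain ⟨g, hg, s, hs, h1, h2⟩ := h
  refine ⟨g * xu t, Γ.mul_mem hg ht, s, hs, ?_, ?_⟩
  · rw [← h1]; simp only [sl2_mul_apply]; simp; ring
  · rw [← h2]; simp only [sl2_mul_apply]; simp; ring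

theorem Reach.of_xl {Γ : Subgroup (SL2 K)} {u v t : K} (ht : xl t ∈ Γ) (h : Reach k Γ u (v + t * u)) :
    Reach k Γ u v := by
  obtain ⟨g, hg, s, hs, h1, h2⟩ := h
  refine ⟨g * xl t, Γ.mul_mem hg ht, s, hs, ?_, ?_⟩
  · rw [← h1]; simp only [sl2_mul_apply]; simp; ring
  · rw [← h2]; simp only [sl2_mul_apply]; simp; ring

theorem reach_of_disc {Γ : Subgroup (SL2 K)} {z : K} (hx : ∀ c : k, xu (algebraMap k K c) ∈ Γ)
    (hy : ∀ c : k, xl (algebraMap k K c * z) ∈ Γ) (m : ℕ) : ∀ A B : k[X], (∀ i, m < i → A.coeff i = 0) →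
    (∀ i, m ≤ i → B.coeff i = 0) → disc m A B ≠ 0 → Reach k Γ (aeval z A) (z * aeval z B) := by
  induction m with
  | zero =>
    intro A B hA hB h
    have hA' : A = C (A.coeff 0) := by
      ext i; rcases i with _ | i
      · simp
      · rw [hA _ (Nat.succ_pos i)]; simp
    have hB' : B = 0 := by ext i; simp [hB i (Nat.zero_le i)]
    refine ⟨1, Γ.one_mem, A.coeff 0, h, ?_, ?_⟩
    · conv_lhs => rw [hA']
      simp
    · simp [hB']
  | succ m ih =>
    intro A B hA hB h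
    simp only [disc] at h
    set γ := B.coeff m
    set A' := C γ * A - C (A.coeff (m + 1)) * (X * B) with hA'
    set α := A'.coeff m
    have hγ : γ ≠ 0 := left_ne_zero_of_mul (left_ne_zero_of_mul h)
    have hα : α ≠ 0 := right_ne_zero_of_mul (left_ne_zero_of_mul h)
    have hA1 : ∀ i, m < i → A'.coeff i = 0 := by
      intro i hi
      obtain ⟨j, rfl⟩ : ∃ j, i = j + 1 := ⟨i - 1, by omega⟩
      rw [hA', coeff_sub, coeff_C_mul, coeff_C_mul, coeff_X_mul]
      rcases (by omega : j = m ∨ m < j) with rfl | hj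
      · ring
      · rw [hA _ (by omega), hB _ (by omega)]; ring
    have h1 := ih _ _ (fun i hi => by rw [coeff_C_mul, hA1 i hi, mul_zero]) (fun i hi => by
      rw [coeff_sub, coeff_C_mul, coeff_C_mul, coeff_C_mul]
      rcases (by omega : i = m ∨ m < i) with rfl | hj
      · ring
      · rw [hA1 _ hj, hB _ (by omega)]; ring) (right_ne_zero_of_mul h)
    have hγ' : algebraMap k K γ ≠ 0 := by simpa using hγ
    have hα' : algebraMap k K α ≠ 0 := by simpa using hα
    apply Reach.of_smul hγ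
    apply Reach.of_xu (hx (-A.coeff (m + 1) / γ))
    apply Reach.of_smul hα
    apply Reach.of_xl (hy (-(γ * γ) / α))
    convert h1 using 1
    · simp only [hA', map_mul, map_sub, aeval_C, aeval_X, map_div₀, map_neg]; field_simp; ring
    · simp only [hA', map_mul, map_sub, aeval_C, aeval_X, map_div₀, map_neg]; field_simp; ring

theorem exists_poly_rep {z : K} (hz : IsIntegral k z) (hgen : Algebra.adjoin k {z} = ⊤) (u : K) :
    ∃ A : k[X], aeval z A = u ∧ ∀ i, (minpoly k z).natDegree ≤ i → A.coeff i = 0 := by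
  have : u ∈ Algebra.adjoin k {z} := hgen ▸ Algebra.mem_top
  rw [Algebra.adjoin_singleton_eq_range_aeval] at this
  obtain ⟨p, rfl⟩ := this
  refine ⟨p %ₘ minpoly k z, by simp [minpoly.aeval_modByMonic_minpoly], fun i hi => ?_⟩
  apply coeff_eq_zero_of_degree_lt
  refine (degree_modByMonic_lt p (minpoly.monic hz)).trans_le ?_
  rw [degree_eq_natDegree (minpoly.ne_zero hz)]
  exact_mod_cast hi

theorem line_disc (n : ℕ) (A₀ B₀ A₁ B₁ : k[X]) : ∃ P : k[X], ∀ t : k,
    P.eval t = disc n (A₀ + C t * (A₁ - A₀)) (B₀ + C t * (B₁ - B₀)) := by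
  refine ⟨disc n (A₀.map C + C X * (A₁ - A₀).map C) (B₀.map C + C X * (B₁ - B₀).map C), fun t => ?_⟩
  have := disc_map (evalRingHom t) n (A₀.map C + C X * (A₁ - A₀).map C) (B₀.map C + C X * (B₁ - B₀).map C)
  rw [coe_evalRingHom] at this
  rw [← this]
  have e : (evalRingHom t).comp (C : k →+* k[X]) = RingHom.id k := by ext; simp
  simp only [Polynomial.map_add, Polynomial.map_mul, map_C, Polynomial.map_map, e, Polynomial.map_id,
    coe_evalRingHom, eval_X]

theorem sl2_conj_xu {g : SL2 K} (h : g.1 1 0 = 0) (t : K) : g * xu t * g⁻¹ = xu (g.1 0 0 ^ 2 * t) := by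
  rw [mul_inv_eq_iff_eq_mul]
  have hd := sl2_det g
  rw [h] at hd
  apply sl2_ext <;> simp only [sl2_mul_apply] <;> simp [h]
  linear_combination (-(g.1 0 0) * t) * hd

theorem xu_sq_mem [Infinite k] {Γ : Subgroup (SL2 K)} {z : K} (hz0 : z ≠ 0) (hz : IsIntegral k z)
    (hgen : Algebra.adjoin k {z} = ⊤) (hx : ∀ c : k, xu (algebraMap k K c) ∈ Γ)
    (hy : ∀ c : k, xl (algebraMap k K c * z) ∈ Γ) (u : K) : xu (u ^ 2) ∈ Γ := by
  by_cases hu : u = 0
  · rw [hu, zero_pow two_ne_zero, xu_zero]; exact Γ.one_mem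
  set n := (minpoly k z).natDegree
  obtain ⟨A₀, B₀, -, hA₀, hB₀, h₀⟩ := exists_disc k n
  obtain ⟨A₁, eA₁, hA₁⟩ := exists_poly_rep hz hgen (u * aeval z A₀)
  obtain ⟨B₁, eB₁, hB₁⟩ := exists_poly_rep hz hgen (u * aeval z B₀)
  obtain ⟨A₂, eA₂, hA₂⟩ := exists_poly_rep hz hgen (u⁻¹ * aeval z A₀)
  obtain ⟨B₂, eB₂, hB₂⟩ := exists_poly_rep hz hgen (u⁻¹ * aeval z B₀)
  obtain ⟨P, hP⟩ := line_disc n A₀ B₀ A₁ B₁
  obtain ⟨Q, hQ⟩ := line_disc n A₂ B₂ A₀ B₀
  have hP0 : P ≠ 0 := by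
    intro e; have := hP 0; rw [e] at this; simp [h₀] at this
  have hQ0 : Q ≠ 0 := by
    intro e; have := hQ 1; rw [e] at this; simp [h₀] at this
  obtain ⟨t, ht⟩ : ∃ t, (P * Q).eval t ≠ 0 := by
    by_contra hc
    push Not at hc
    exact mul_ne_zero hP0 hQ0 (Polynomial.funext fun t => by rw [hc, eval_zero])
  rw [eval_mul, hP, hQ] at ht
  obtain ⟨g, hg, s, hs, h1, h2⟩ := reach_of_disc hx hy n _ _ (fun i hi => by
      simp [hA₀ i hi, hA₁ i hi.le]) (fun i hi => by simp [hB₀ i hi, hB₁ i hi]) (left_ne_zero_of_mul ht)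
  obtain ⟨g', hg', s', hs', h1', h2'⟩ := reach_of_disc hx hy n _ _ (fun i hi => by
      simp [hA₀ i hi, hA₂ i hi.le]) (fun i hi => by simp [hB₀ i hi, hB₂ i hi]) (right_ne_zero_of_mul ht)
  simp only [map_add, map_mul, map_sub, aeval_C, eA₁, eB₁, eA₂, eB₂] at h1 h2 h1' h2'
  have hS : algebraMap k K s ≠ 0 := by simpa using hs
  have hS' : algebraMap k K s' ≠ 0 := by simpa using hs'
  have hd := sl2_det g
  have i00 : (g⁻¹).1 0 0 = g.1 1 1 := by simp [Matrix.adjugate_fin_two]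
  have i10 : (g⁻¹).1 1 0 = -g.1 1 0 := by simp [Matrix.adjugate_fin_two]
  set a := aeval z A₀
  set b := aeval z B₀
  set τ := algebraMap k K t
  have hu' : u * u⁻¹ = 1 := mul_inv_cancel₀ hu
  have ea : algebraMap k K s * g.1 1 1 = a + τ * (u * a - a) := by
    rw [← h1]; linear_combination (a + τ * (u * a - a)) * hd + g.1 0 1 * h2
  have eb : algebraMap k K s * -g.1 1 0 = z * (b + τ * (u * b - b)) := by
    rw [← h1]; linear_combination (z * (b + τ * (u * b - b))) * hd - g.1 0 0 * h2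
  have e10 : (g' * g⁻¹).1 1 0 = 0 := by
    rw [sl2_mul_apply, i00, i10]
    apply mul_left_cancel₀ hS
    linear_combination g'.1 1 0 * ea + g'.1 1 1 * eb + u * h2' -
      (g'.1 1 0 * a * (1 - τ) + g'.1 1 1 * z * b * (1 - τ)) * hu'
  have e00 : algebraMap k K s * (g' * g⁻¹).1 0 0 = u * algebraMap k K s' := by
    rw [sl2_mul_apply, i00, i10]
    linear_combination g'.1 0 0 * ea + g'.1 0 1 * eb + u * h1' -
      (g'.1 0 0 * a * (1 - τ) + g'.1 0 1 * z * b * (1 - τ)) * hu'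
  have hm := Γ.mul_mem hg' (Γ.inv_mem hg)
  have := Γ.mul_mem (Γ.mul_mem hm (hx ((s / s') ^ 2))) (Γ.inv_mem hm)
  rw [sl2_conj_xu e10] at this
  convert this using 2
  have e : (g' * g⁻¹).1 0 0 = u * algebraMap k K s' / algebraMap k K s := by
    rw [eq_div_iff hS, ← e00]; ring
  rw [e, map_pow, map_div₀]; field_simp

theorem sl2_eq_top_of_upper {Γ : Subgroup (SL2 K)} (hx : ∀ t, xu t ∈ Γ) {z : K} (hz : z ≠ 0) (hy : xl z ∈ Γ) :
    Γ = ⊤ := by
  apply sl2_eq_top hx
  intro v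
  have ht : -z⁻¹ ≠ 0 := by simpa using hz
  have h1 := sl2_w_xu ht (-v * (-z⁻¹) ^ 2)
  have e1 : -(-v * (-z⁻¹) ^ 2) / (-z⁻¹) ^ 2 = v := by field_simp
  have e2 : -(-z⁻¹)⁻¹ = z := by simp
  rw [e1, e2, ← mul_inv_eq_iff_eq_mul] at h1
  rw [← h1]
  have hw := Γ.mul_mem (Γ.mul_mem (hx (-z⁻¹)) hy) (hx (-z⁻¹))
  exact Γ.mul_mem (Γ.mul_mem hw (hx _)) (Γ.inv_mem hw)

theorem gen_infinite [Infinite k] (h2 : (2 : k) ≠ 0) {Γ : Subgroup (SL2 K)} {z : K} (hz0 : z ≠ 0)
    (hz : IsIntegral k z) (hgen : Algebra.adjoin k {z} = ⊤) (hx : ∀ c : k, xu (algebraMap k K c) ∈ Γ)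
    (hy : ∀ c : k, xl (algebraMap k K c * z) ∈ Γ) : Γ = ⊤ := by
  refine sl2_eq_top_of_upper (fun t => ?_) hz0 (by simpa using hy 1)
  have h2' : (2 : K) ≠ 0 := by
    have : algebraMap k K 2 ≠ 0 := by simpa using h2
    rwa [map_ofNat] at this
  have e : t = ((t + 1) / 2) ^ 2 + -((t - 1) / 2) ^ 2 := by field_simp; ring
  rw [e, xu_add, xu_neg]
  exact Γ.mul_mem (xu_sq_mem hz0 hz hgen hx hy _) (Γ.inv_mem (xu_sq_mem hz0 hz hgen hx hy _))

end Cfsg.Agent.H90
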