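/-
Prime graphs: a normal subgroup of even order centralised by an involution (for S3526).
-/
import Cfsg.Agent.H90.GkA
import Cfsg.Agent.BG.L3_4
import Cfsg.Agent.BG.L3_9
import Cfsg.Agent.H22.Core
import Cfsg.Agent.H42.SylIn
import Cfsg.Agent.H49.Prod
import Cfsg.Agent.S0205

set_option autoImplicit false

namespace Cfsg.Agent.H90.Gk

open Subgroup Cfsg

universe u

theorem tr1 {X : Type*} [Group X] [Finite X] {q : ℕ} [hq : Fact q.Prime] (Q : Sylow q X)
    (hQ : ∀ a ∈ Q, ∀ b ∈ Q, a * b = b * a) {S : Set X} (hS : closure S = ⊤) (hc : ∀ s ∈ S, (orderOf s).Coprime q)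
    {z : X} (hz : z ∈ center X) (ho : orderOf z = q) : False := by
  letI : CommGroup (Q : Subgroup X) :=
    { (inferInstance : Group (Q : Subgroup X)) with mul_comm := fun a b => Subtype.ext (hQ a a.2 b b.2) }
  let φ : X →* (Q : Subgroup X) := MonoidHom.transfer (MonoidHom.id (Q : Subgroup X))
  have h1 : φ = 1 := MonoidHom.eq_of_eqOn_dense hS fun s hs => by
    obtain ⟨k, hk⟩ := Q.2 (φ s)
    have := Nat.dvd_gcd (orderOf_map_dvd φ s) (orderOf_dvd_of_pow_eq_one hk)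
    rw [(hc s hs).pow_right k, Nat.dvd_one] at this
    exact orderOf_eq_one_iff.1 this
  have h2 := MonoidHom.transfer_eq_pow (MonoidHom.id (Q : Subgroup X)) z fun k g _ => by
    rw [mul_assoc, ← mem_center_iff.1 (pow_mem hz k) g, inv_mul_cancel_left]
  have h3 : φ z = 1 := by rw [h1]; rfl
  have h4 : z ^ (Q : Subgroup X).index = 1 := congrArg Subtype.val (h2.symm.trans h3)
  exact Q.not_dvd_index (ho.symm.dvd.trans (orderOf_dvd_of_pow_eq_one h4))

theorem tr2 {Λ A Y : Type*} [Group Λ] [Finite Λ] [Group A] [Group Y] (α : Λ →* A) (β : Λ →* Y) {S : Set Λ}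
    (hS : closure S = ⊤) (hc : ∀ s ∈ S, ∀ z, β z = 1 → α s * α z = α z * α s)
    (ho : ∀ s ∈ S, ∀ z, β z = 1 → (orderOf s).Coprime (orderOf z))
    (hy : ∀ q : ℕ, q.Prime → ∀ z, β z = 1 → q ∣ orderOf z → ∀ Q : Subgroup Y, IsPGroup q Q → IsCyclic Q)
    {z : Λ} (hz : β z = 1) : α z = 1 := by
  let f := α.rangeRestrict
  have hf : Function.Surjective f := α.rangeRestrict_surjective
  haveI : Finite α.range := Finite.of_surjective f hf
  have hS' : closure (f '' S) = ⊤ := by rw [← MonoidHom.map_closure, hS, map_top_of_surjective f hf]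
  have cen : ∀ w, β w = 1 → f w ∈ center α.range := fun w hw => by
    have : closure (f '' S) ≤ centralizer {f w} := (closure_le _).2 (by
      rintro _ ⟨s, hs, rfl⟩
      exact mem_centralizer_singleton_iff.2 (Subtype.ext (hc s hs w hw)))
    rw [hS'] at this
    exact mem_center_iff.2 fun g => mem_centralizer_singleton_iff.1 (this (mem_top g))
  by_contra hn
  have h1 : orderOf (f z) ≠ 1 := fun h => hn (congrArg Subtype.val (orderOf_eq_one_iff.1 h))
  obtain ⟨q, hq, hd⟩ := Nat.exists_prime_and_dvd h1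
  haveI := Fact.mk hq
  have hd' := hd.trans (orderOf_map_dvd f z)
  obtain ⟨Q⟩ : Nonempty (Sylow q Λ) := inferInstance
  refine tr1 (Q.mapSurjective hf) ?_ hS' ?_ (pow_mem (cen z hz) _) (orderOf_pow_orderOf_div (orderOf_pos _).ne' hd)
  · obtain ⟨⟨⟨_, y, hy1, rfl⟩, hy2⟩⟩ := hy q hq z hz hd' _ (Q.2.map β)
    have dec : ∀ a ∈ (Q : Subgroup Λ), ∃ k : ℤ, ∃ c ∈ center α.range, f a = f y ^ k * c := fun a ha => by
      obtain ⟨k, hk⟩ := hy2 ⟨β a, a, ha, rfl⟩
      have hk' : β y ^ k = β a := congrArg Subtype.val hk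
      exact ⟨k, _, cen ((y ^ k)⁻¹ * a) (by rw [map_mul, map_inv, map_zpow, hk', inv_mul_cancel]), by simp⟩
    rintro _ ⟨a, ha, rfl⟩ _ ⟨b, hb, rfl⟩
    obtain ⟨k, c, hc1, e1⟩ := dec a ha
    obtain ⟨l, d, hd1, e2⟩ := dec b hb
    rw [e1, e2]
    have c1 : Commute (f y ^ k) d := mem_center_iff.1 hd1 _
    have c2 : Commute c (f y ^ l * d) := (mem_center_iff.1 hc1 _).symm
    exact ((Commute.zpow_zpow_self _ k l).mul_right c1).mul_left c2
  · rintro _ ⟨s, hs, rfl⟩
    exact ((ho s hs z hz).coprime_dvd_left (orderOf_map_dvd f s)).coprime_dvd_right hd'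

variable {G : Type u} [Group G] [Finite G]

theorem exV (T : Subgroup G) [T.Normal] {p : ℕ} (hp : p.Prime) (h : p ∣ Nat.card T) :
    ∃ V ≤ T, V ≠ ⊥ ∧ IsElementaryAbelian p V ∧ normalizer (V : Set G) ⊔ T = ⊤ := by
  haveI := Fact.mk hp
  obtain ⟨P⟩ : Nonempty (Sylow p T) := inferInstance
  let P' := (P : Subgroup T).map T.subtype
  have hP : IsPGroup p P' := P.2.map _
  have h0 : P' ≠ ⊥ := fun e => P.ne_bot_of_dvd_card h ((map_eq_bot_iff_of_injective _ T.subtype_injective).1 e)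
  let N := normalizer (P' : Set G)
  have h1 : IsPGroup p (P'.subgroupOf N) := hP.comap_of_injective _ N.subtype_injective
  haveI := h1.isNilpotent
  obtain ⟨M, r, hr, hM, h2, h3, h4, -, h5, -⟩ := H2.exists_minimal_normal_le_of_solvable (P'.subgroupOf N)
    inferInstance inferInstance (fun e => h0 (by
      rw [subgroupOf_eq_bot, disjoint_iff, inf_eq_left.2 le_normalizer] at e; exact e))
  have hrp : r = p := by
    obtain ⟨⟨x, hx⟩, hx1⟩ := ne_bot_iff_exists_ne_one.1 h2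
    haveI := Fact.mk hr
    have o := orderOf_eq_prime (h5 x hx) fun e => hx1 (Subtype.ext e)
    obtain ⟨k, hk⟩ := h1 ⟨x, h3 hx⟩
    have hk' : x ^ p ^ k = 1 := congrArg Subtype.val hk
    exact (Nat.prime_dvd_prime_iff_eq hr hp).1 (hr.dvd_of_dvd_pow (o ▸ orderOf_dvd_of_pow_eq_one hk'))
  subst hrp
  refine ⟨M.map N.subtype, ?_, fun e => h2 ((map_eq_bot_iff_of_injective _ N.subtype_injective).1 e),
    ⟨H2.isMulCommutative_of_forall ?_, ?_⟩, top_le_iff.1 ?_⟩
  · rintro _ ⟨x, hx, rfl⟩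
    exact map_subtype_le _ (h3 hx)
  · rintro _ ⟨x, hx, rfl⟩ _ ⟨y, hy, rfl⟩
    exact congrArg Subtype.val (H2.mul_comm_of_mem h4 hx hy)
  · rintro _ ⟨x, hx, rfl⟩
    exact congrArg Subtype.val (h5 x hx)
  · rw [← P.normalizer_sup_eq_top]
    refine sup_le_sup_right (fun n hn => H42.mem_normalizer_of_conj_mem ?_) _
    rintro _ ⟨x, hx, rfl⟩
    exact ⟨_, hM.conj_mem x hx ⟨n, hn⟩, rfl⟩

omit [Finite G] in
theorem surj_of_sup {T L : Subgroup G} [T.Normal] (h : L ⊔ T = ⊤) :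
    Function.Surjective ((QuotientGroup.mk' T).comp L.subtype) := by
  intro y
  obtain ⟨g, rfl⟩ := QuotientGroup.mk'_surjective T y
  obtain ⟨l, hl, t, ht, rfl⟩ := mem_sup_of_normal_right.1 (h.ge (mem_top g))
  exact ⟨⟨l, hl⟩, by simp [ht]⟩

omit [Finite G] in
theorem ord_ea {p : ℕ} (hp : p.Prime) {V : Subgroup G} (h : IsElementaryAbelian p V) {v : G} (hv : v ∈ V) (h1 : v ≠ 1) :
    orderOf v = p := by
  haveI := Fact.mk hp
  exact orderOf_eq_prime (h.2 v hv) h1

theorem cyc (T : Subgroup G) [T.Normal] {p q : ℕ} (hp : p.Prime) (hq : q.Prime) (hn : p ≠ q) (h2 : q ≠ 2)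
    (h : p ∣ Nat.card T) (ha : ¬ Ad G p q) (Q : Subgroup (G ⧸ T)) (hQ : IsPGroup q Q) : IsCyclic Q := by
  haveI := Fact.mk hq
  obtain ⟨V, -, h0, h1, h3⟩ := exV T hp h
  obtain ⟨Q', hQ'⟩ := hQ.exists_le_sylow
  obtain ⟨R, rfl⟩ := Sylow.mapSurjective_surjective (surj_of_sup h3) q Q'
  have hR : IsPGroup q ((R : Subgroup (normalizer (V : Set G))).map (Subgroup.subtype _)) := R.2.map _
  haveI := BG.l3_9 h2 hR h0 (map_subtype_le _) fun x hx hx1 => (eq_bot_iff_forall _).2 fun v hv => by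
    by_contra hv1
    obtain ⟨k, hk⟩ := IsPGroup.iff_orderOf.1 hR ⟨x, hx⟩
    rw [← orderOf_coe] at hk
    have hk0 : k ≠ 0 := fun e => hx1 (orderOf_eq_one_iff.1 (by rw [e] at hk; exact hk))
    have o := ord_ea hp h1 hv.1 hv1
    refine ha (ad_of_comm (a := v) (b := x) (mem_centralizer_singleton_iff.1 hv.2) ?_ o.symm.dvd ?_)
    · rw [o, show orderOf x = q ^ k from hk]; exact ((Nat.coprime_primes hp hq).2 hn).pow_right k
    · rw [show orderOf x = q ^ k from hk]; exact dvd_pow_self q hk0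
  haveI : IsCyclic (R : Subgroup (normalizer (V : Set G))) :=
    isCyclic_of_surjective _ ((R : Subgroup (normalizer (V : Set G))).equivMapOfInjective _
      (Subgroup.subtype_injective _)).symm.surjective
  haveI : IsCyclic (R.mapSurjective (surj_of_sup h3) : Subgroup (G ⧸ T)) :=
    isCyclic_of_surjective _ (MonoidHom.subgroupMap_surjective _ (R : Subgroup (normalizer (V : Set G))))
  exact isCyclic_of_le hQ'

theorem caseA {T L : Subgroup G} [T.Normal] (hL : L ⊔ T = ⊤) (hm : ∀ H ≤ L, H ⊔ T = ⊤ → L ≤ H) {q : ℕ}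
    (hq : q.Prime) (hg : ∀ p : ℕ, p.Prime → p ∣ Nat.card T → p ≠ q → Ad G p q) {z : G} (hz : z ∈ L ⊓ T)
    (hd : q ∣ orderOf z) : ∃ (K : Type u) (_ : Group K) (_ : Finite K), SG G K ∧ CN K := by
  let D := pPrimeCore q L ⊓ T.subgroupOf L
  haveI : D.Normal := inferInstance
  let f := (QuotientGroup.mk' T).comp L.subtype
  have hf : ∀ l : L, f l = 1 ↔ (l : G) ∈ T := fun l => QuotientGroup.eq_one_iff _
  let ψ : L ⧸ D →* G ⧸ T := QuotientGroup.lift D f fun l hl => (hf l).2 hl.2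
  have key : ∀ b, ψ b = 1 → (orderOf b).Prime → orderOf b = q := by
    intro b hb hs
    obtain ⟨l, rfl⟩ := QuotientGroup.mk'_surjective D b
    by_contra hn
    generalize hs' : orderOf (QuotientGroup.mk' D l) = s at hs hn
    haveI := Fact.mk hs
    obtain ⟨k, m, h1, h2⟩ := Nat.exists_eq_pow_mul_and_not_dvd (orderOf_pos l).ne' s hs.ne_one
    have hl : l ^ m ∈ T.subgroupOf L := pow_mem (show l ∈ T.subgroupOf L from (hf l).1 hb) m
    have h3 : IsPGroup s (zpowers (⟨l ^ m, hl⟩ : T.subgroupOf L)) := by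
      have : orderOf (⟨l ^ m, hl⟩ : T.subgroupOf L) ∣ s ^ k := orderOf_dvd_of_pow_eq_one (Subtype.ext (by
        show (l ^ m) ^ s ^ k = 1
        rw [← pow_mul, mul_comm, ← h2, pow_orderOf_eq_one]))
      obtain ⟨j, -, hj⟩ := (Nat.dvd_prime_pow hs).1 this
      exact IsPGroup.of_card (by rw [Nat.card_zpowers, hj])
    obtain ⟨S, hS⟩ := h3.exists_le_sylow
    have h4 := congrArg (map L.subtype) S.normalizer_sup_eq_top
    rw [Subgroup.map_sup, ← MonoidHom.range_eq_map, range_subtype, subgroupOf_map_subtype] at h4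
    have h5 := hm _ (map_subtype_le _) (top_le_iff.1 (hL.ge.trans (sup_le (h4.ge.trans
      (sup_le_sup_left inf_le_left _)) le_sup_right)))
    have h6 : ((S : Subgroup (T.subgroupOf L)).map (T.subgroupOf L).subtype).Normal :=
      normalizer_eq_top_iff.1 (top_le_iff.1 fun x _ => by
        obtain ⟨y, hy, e⟩ := h5 x.2
        rwa [← Subtype.ext e])
    obtain ⟨j, hj⟩ := IsPGroup.iff_card.1 (S.2.map (T.subgroupOf L).subtype)
    have h7 := H22.le_pPrimeCore h6 (hj ▸ ((Nat.coprime_primes hs hq).2 hn).pow_left j)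
    have h8 : l ^ m ∈ D := ⟨h7 ⟨_, hS (mem_zpowers _), rfl⟩, hl⟩
    refine h1 (hs' ▸ orderOf_dvd_of_pow_eq_one ?_)
    rw [← map_pow]
    exact (QuotientGroup.eq_one_iff _).2 h8
  refine (fun ⟨K, _, _, h3, h4, _⟩ => ⟨K, inferInstance, inferInstance, h3, h4⟩)
    (fp (QuotientGroup.mk' T) ψ (fun g => ?_) (fun p _ h => ?_) (fun p r _ _ _ h => ?_)
      (fun a b ha hb pa pb hn => ?_) (fun a b ha hb pa pb hn => ?_) ?_)
  · obtain ⟨l, hl⟩ := surj_of_sup hL (QuotientGroup.mk' T g)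
    exact ⟨QuotientGroup.mk' D l, hl⟩
  · exact (h.trans (card_quotient_dvd_card D)).trans (card_subgroup_dvd_card L)
  · exact (h.of_surj (QuotientGroup.mk'_surjective D)).of_inj L.subtype_injective
  · rw [key b hb pb] at hn ⊢
    exact hg _ pa (T.orderOf_dvd_natCard ((QuotientGroup.eq_one_iff a).1 ha)) hn
  · exact absurd ((key a ha pa).trans (key b hb pb).symm) hn
  · refine ⟨QuotientGroup.mk' D ⟨z, hz.1⟩, fun h => ?_, (hf ⟨z, hz.1⟩).2 hz.2⟩
    have h1 := (pPrimeCore q L).orderOf_dvd_natCard ((QuotientGroup.eq_one_iff (N := D) _).1 h).1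
    rw [← orderOf_coe] at h1
    exact hq.ne_one (H22.coprime_card_pPrimeCore.symm.eq_one_of_dvd (hd.trans h1))

theorem main (T : Subgroup G) [T.Normal] (hT : 2 ∣ Nat.card T) {t : G} (ht : orderOf t = 2)
    (hc : t ∈ centralizer (T : Set G)) : ∃ (K : Type u) (_ : Group K) (_ : Finite K), SG G K ∧ CN K := by
  have g2 : ∀ p : ℕ, p.Prime → p ∣ Nat.card T → p ≠ 2 → Ad G p 2 := fun p hp h hn => by
    haveI := Fact.mk hp
    obtain ⟨a, ha⟩ := exists_prime_orderOf_dvd_card' p h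
    rw [← orderOf_coe] at ha
    exact ad_of_comm (hc a a.2) (by rw [ha, ht]; exact (Nat.coprime_primes hp Nat.prime_two).2 hn)
      ha.symm.dvd ht.symm.dvd
  obtain ⟨V, hVT, hV0, hV, hN⟩ := exV T Nat.prime_two hT
  obtain ⟨L, ⟨hLN, hL⟩, hmin⟩ := exists_minimal_of_wellFoundedLT
    (fun L : Subgroup G => L ≤ normalizer (V : Set G) ∧ L ⊔ T = ⊤) ⟨_, le_rfl, hN⟩
  have hm : ∀ H ≤ L, H ⊔ T = ⊤ → L ≤ H := fun H h1 h2 => hmin ⟨h1.trans hLN, h2⟩ h1
  by_cases hA : ∃ q : ℕ, q.Prime ∧ (∀ p : ℕ, p.Prime → p ∣ Nat.card T → p ≠ q → Ad G p q) ∧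
      ∃ z ∈ L ⊓ T, q ∣ orderOf z
  · obtain ⟨q, hq, hg, z, hz, hd⟩ := hA
    exact caseA hL hm hq hg hz hd
  have hodd : Odd (Nat.card ↥(L ⊓ T)) := Nat.not_even_iff_odd.1 fun h => by
    obtain ⟨a, ha⟩ := exists_prime_orderOf_dvd_card' 2 (even_iff_two_dvd.1 h)
    rw [← orderOf_coe] at ha
    exact hA ⟨2, Nat.prime_two, g2, a, a.2, ha.symm.dvd⟩
  let S : Set G := {x | x ∈ L ∧ (orderOf x).Prime ∧ orderOf x ≠ 2 ∧ ¬ Ad G (orderOf x) 2}
  have hSL : closure S ≤ L := (closure_le _).2 fun x hx => hx.1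
  let α : closure S →* MulAut V := V.normalizerMonoidHom.comp (inclusion (hSL.trans hLN))
  let β : closure S →* G ⧸ T := (QuotientGroup.mk' T).comp (closure S).subtype
  have hα : ∀ (l : closure S) (v : V), (α l v : G) = l * v * (l : G)⁻¹ := fun _ _ => rfl
  have hβ : ∀ l : closure S, β l = 1 ↔ (l : G) ∈ T := fun l => QuotientGroup.eq_one_iff _
  have hcop : ∀ x ∈ S, (Nat.card T).Coprime (orderOf x) := fun x hx =>
    ((Nat.Prime.coprime_iff_not_dvd hx.2.1).2 fun h => hx.2.2.2 (g2 _ hx.2.1 h hx.2.2.1)).symm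
  have hfix : ∀ x ∈ S, ∀ v ∈ V, v * x = x * v → v = 1 := fun x hx v hv c => by
    by_contra h1
    have o := ord_ea Nat.prime_two hV hv h1
    exact hx.2.2.2 (ad_of_comm c.symm (by rw [o]; exact (Nat.coprime_primes hx.2.1 Nat.prime_two).2 hx.2.2.1)
      dvd_rfl o.symm.dvd)
  have hk : ∀ z, β z = 1 → α z = 1 := fun z hz => by
    refine tr2 α β closure_closure_coe_preimage (fun s hs w hw => ?_) (fun s hs w hw => ?_)
      (fun q hq w hw hd Q hQ => ?_) hz
    · have hs' : (s : G) ∈ S := hs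
      have hR : zpowers (s : G) ≤ L := zpowers_le.2 hs'.1
      have hn : zpowers (s : G) ≤ normalizer ((L ⊓ T : Subgroup G) : Set G) := fun x hx =>
        H42.mem_normalizer_of_conj_mem fun y hy =>
          mem_inf.2 ⟨L.mul_mem (L.mul_mem (hR hx) hy.1) (L.inv_mem (hR hx)), Normal.conj_mem inferInstance y hy.2 x⟩
      have ho : Odd (Nat.card ↥(L ⊓ T ⊔ zpowers (s : G))) :=
        Odd.of_dvd_nat (hodd.mul (by rw [Nat.card_zpowers]; exact hs'.2.1.odd_of_ne_two hs'.2.2.1))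
          (H49.card_sup_dvd (Or.inr hn))
      have h34 := BG.l3_4 Nat.prime_two (S0205.result hodd) ho hn
        (by rw [Nat.card_zpowers]; exact (hcop _ hs').coprime_dvd_left (card_dvd_of_le inf_le_right))
        (by rw [Nat.card_zpowers]; exact hs'.2.1) hV ((sup_le inf_le_left hR).trans hLN)
        (fun h => Nat.not_even_iff_odd.2 ho (even_iff_two_dvd.2 h))
        ((eq_bot_iff_forall _).2 fun v hv => hfix _ hs' v hv.1 (hv.2 _ (mem_zpowers _)).symm)
      have h1 := (h34 (commutator_mem_commutator (mem_zpowers (s : G)) ⟨hSL w.2, (hβ w).1 hw⟩)).2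
      rw [← commutatorElement_eq_one_iff_mul_comm, ← map_commutatorElement]
      refine MulEquiv.ext fun v => Subtype.ext ?_
      rw [hα, mul_inv_eq_iff_eq_mul]
      exact (h1 v v.2).symm
    · rw [← orderOf_coe s, ← orderOf_coe w]
      exact ((hcop _ hs).coprime_dvd_left (T.orderOf_dvd_natCard ((hβ w).1 hw))).symm
    · rw [← orderOf_coe w] at hd
      have hw' : (w : G) ∈ L ⊓ T := ⟨hSL w.2, (hβ w).1 hw⟩
      have h1 : ¬ ∀ p : ℕ, p.Prime → p ∣ Nat.card T → p ≠ q → Ad G p q := fun h => hA ⟨q, hq, h, w, hw', hd⟩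
      push Not at h1
      obtain ⟨p, hp, h2, h3, h4⟩ := h1
      exact cyc T hp hq h3 (fun e => hA ⟨2, Nat.prime_two, g2, w, hw', e ▸ hd⟩) h2 h4 Q hQ
  obtain ⟨v, hv⟩ := ne_bot_iff_exists_ne_one.1 hV0
  refine coind (QuotientGroup.mk' T) (QuotientGroup.mk'_surjective T) β α hk (fun v => Subtype.ext (hV.2 v v.2))
    (fun v w => Subtype.ext (H2.mul_comm_of_mem hV.1 v.2 w.2)) ⟨v, hv⟩ (hT.trans (card_subgroup_dvd_card T))
    fun g p hp h2 ho ha => ?_
  haveI := Fact.mk hp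
  have hpT : ¬ p ∣ Nat.card T := fun h => ha (g2 p hp h h2)
  obtain ⟨l, hl⟩ := surj_of_sup hL (QuotientGroup.mk' T g)
  have hl' : QuotientGroup.mk' T l = QuotientGroup.mk' T g := hl
  have h3 : QuotientGroup.mk' T g ^ p = 1 := by rw [← map_pow, ← ho, pow_orderOf_eq_one, map_one]
  have h4 : (l : G) ^ p ∈ T := (QuotientGroup.eq_one_iff _).1 (by
    show QuotientGroup.mk' T _ = 1
    rw [map_pow, hl', h3])
  obtain ⟨k, -, hk1⟩ := Nat.exists_mul_mod_eq_one_of_coprime ((hp.coprime_iff_not_dvd.2 hpT).symm) hp.one_lt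
  have h5 : QuotientGroup.mk' T ((l : G) ^ (Nat.card T * k)) = QuotientGroup.mk' T g := by
    rw [map_pow, hl', pow_eq_pow_mod _ h3, hk1, pow_one]
  have h6 : orderOf ((l : G) ^ (Nat.card T * k)) = p := by
    refine orderOf_eq_prime ?_ fun e => hpT ?_
    · rw [← pow_mul, mul_comm, pow_mul, pow_mul, orderOf_dvd_iff_pow_eq_one.1 (T.orderOf_dvd_natCard h4), one_pow]
    · rw [e, map_one] at h5
      exact ho ▸ T.orderOf_dvd_natCard ((QuotientGroup.eq_one_iff g).1 h5.symm)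
  have h7 : (l : G) ^ (Nat.card T * k) ∈ S := ⟨pow_mem l.2 _, h6.symm ▸ hp, h6.symm ▸ h2, h6.symm ▸ ha⟩
  refine ⟨⟨_, subset_closure h7⟩, h5, fun v e => Subtype.ext (hfix _ h7 v v.2 ?_)⟩
  have h8 := congrArg Subtype.val e
  rw [hα, mul_inv_eq_iff_eq_mul] at h8
  exact h8.symm

theorem cn_of_exp {M : Subgroup G} (hM : M.Normal) (h0 : M ≠ ⊥) {p : ℕ} (hp : p.Prime) (h : ∀ x ∈ M, x ^ p = 1) :
    CN G := ⟨M, hM, h0, fun a ha b hb pa pb hn => absurd
      (((Nat.prime_dvd_prime_iff_eq pa hp).1 (orderOf_dvd_of_pow_eq_one (h a ha))).trans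
        ((Nat.prime_dvd_prime_iff_eq pb hp).1 (orderOf_dvd_of_pow_eq_one (h b hb))).symm) hn⟩

theorem even_of (hc : ¬ CN G) {N : Subgroup G} (hN : N.Normal) (h0 : N ≠ ⊥) : 2 ∣ Nat.card N := by
  by_contra h
  obtain ⟨M, p, hp, h1, h2, -, -, -, h3, -⟩ := H2.exists_minimal_normal_le_of_solvable N hN
    (S0205.result (Nat.not_even_iff_odd.1 fun e => h (even_iff_two_dvd.1 e))) h0
  exact hc (cn_of_exp h1 h2 hp h3)

theorem simple_of (hc : ¬ CN G) {T : Subgroup G} (hT : T.Normal) (h0 : T ≠ ⊥)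
    (hm : ∀ L : Subgroup G, L.Normal → L ≤ T → L = ⊥ ∨ L = T) : IsSimpleGroup T := by
  haveI : Nontrivial T := (nontrivial_iff_ne_bot T).2 h0
  obtain ⟨S, hS, hS0, hSm⟩ := H2.exists_minimal_normal (G := T)
  by_cases e : S = ⊤
  · exact ⟨fun H hH => (hSm H hH (e ▸ le_top)).imp_right fun h => h.trans e⟩
  exfalso
  have h1 : ∃ g : G, Disjoint S (S.comap (MulAut.conjNormal g : MulAut T).toMonoidHom) := by
    by_contra h
    push Not at h
    have h2 : (S.map T.subtype).Normal := ⟨by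
      rintro _ ⟨x, hx, rfl⟩ g
      have := (hSm (S ⊓ S.comap (MulAut.conjNormal g : MulAut T).toMonoidHom) inferInstance inf_le_left).resolve_left
        fun e => h g (disjoint_iff.2 e)
      exact ⟨_, (this.ge hx).2, rfl⟩⟩
    rcases hm _ h2 (map_subtype_le _) with h3 | h3
    · exact hS0 ((map_eq_bot_iff_of_injective _ T.subtype_injective).1 h3)
    · refine e (top_le_iff.1 fun x _ => ?_)
      obtain ⟨y, hy, e⟩ := h3.ge x.2
      rwa [← Subtype.ext e]
  obtain ⟨g, hg⟩ := h1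
  have h2 : ∀ p : ℕ, p.Prime → p ∣ Nat.card T → ∃ a ∈ S, orderOf a = p := fun p hp h => by
    haveI := Fact.mk hp
    have h3 : p ∣ Nat.card S := by
      by_contra h3
      have h4 := H22.le_pPrimeCore hS (hp.coprime_iff_not_dvd.2 h3).symm
      rcases hm ((pPrimeCore p T).map T.subtype) inferInstance (map_subtype_le _) with h5 | h5
      · rw [(map_eq_bot_iff_of_injective _ T.subtype_injective).1 h5] at h4
        exact hS0 (le_bot_iff.1 h4)
      · have h6 := H22.coprime_card_map T.subtype (H22.coprime_card_pPrimeCore (p := p) (G := T))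
        rw [h5] at h6
        exact hp.ne_one (h6.symm.eq_one_of_dvd h)
    obtain ⟨a, ha⟩ := exists_prime_orderOf_dvd_card' p h3
    exact ⟨a, a.2, by rw [orderOf_coe, ha]⟩
  refine hc ⟨T, hT, h0, fun a ha b hb pa pb hn => ?_⟩
  obtain ⟨x, hx, ox⟩ := h2 _ pa (T.orderOf_dvd_natCard ha)
  obtain ⟨y, hy, oy⟩ := h2 _ pb (T.orderOf_dvd_natCard hb)
  have oy' : orderOf ((MulAut.conjNormal g : MulAut T).symm y) = orderOf b := by rw [MulEquiv.orderOf_eq, oy]
  refine Ad.of_inj T.subtype_injective (ad_of_comm (commute_of_normal_of_disjoint _ _ hS inferInstance hg x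
    ((MulAut.conjNormal g : MulAut T).symm y) hx (by simpa using hy)) ?_ ox.symm.dvd oy'.symm.dvd)
  rw [ox, oy']
  exact (Nat.coprime_primes pa pb).2 hn

theorem almost [Nontrivial G] (h : Bd G) : ∃ N : Subgroup G, N.Normal ∧ IsSimpleGroup ↥N ∧ ¬ IsMulCommutative ↥N ∧
    Subgroup.centralizer (N : Set G) = ⊥ := by
  have hc : ¬ CN G := fun c => not_bd SG.refl c h
  obtain ⟨T, hT, h0, hm⟩ := H2.exists_minimal_normal (G := G)
  refine ⟨T, hT, simple_of hc hT h0 hm, fun c => ?_, by_contra fun c => ?_⟩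
  · obtain ⟨p, hp, h1⟩ := H2.minimal_normal_exponent_of_comm T c h0 hm
    exact hc (cn_of_exp hT h0 hp h1)
  · obtain ⟨t, ht⟩ := exists_prime_orderOf_dvd_card' 2 (even_of hc inferInstance c)
    obtain ⟨K, _, _, h1, h2⟩ := main T (even_of hc hT h0) (by rw [orderOf_coe, ht]) t.2
    exact not_bd h1 h2 h

end Cfsg.Agent.H90.Gk
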