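import Cfsg.Agent.H90.Unip

/-! Quadratic pairs: basic calculus with quadratic elements. -/

set_option autoImplicit false

namespace Cfsg.Agent.H90
open Cfsg

section Ring
variable (k : Type*) [Field k] {R : Type*} [Ring R] [Algebra k R]

/-- `x` is (the value of) an element of `G` -/
def InG (G : Subgroup Rˣ) (x : R) : Prop := ∃ g ∈ G, (g : R) = x

/-- `a² = 0` and `1 + k a ⊆ G` -/
structure QE (G : Subgroup Rˣ) (a : R) : Prop where
  sq : a * a = 0
  mem : ∀ c : k, InG G (1 + c • a)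

/-- the unit `1 + a` -/
def un (a : R) (h : a * a = 0) : Rˣ :=
  ⟨1 + a, 1 - a, by linear_combination (norm := noncomm_ring) -h, by linear_combination (norm := noncomm_ring) -h⟩

variable {k} {G : Subgroup Rˣ} {a b x y : R}

@[simp] theorem un_val (h : a * a = 0) : (un a h : R) = 1 + a := rfl
@[simp] theorem un_inv (h : a * a = 0) : ((un a h)⁻¹ : Rˣ) = 1 - a := rfl

theorem z3 (h : a * b = 0) (c : R) : a * (b * c) = 0 := by rw [← mul_assoc, h, zero_mul]
theorem e3 {c : R} (h : a * b = c) (d : R) : a * (b * d) = c * d := by rw [← mul_assoc, h]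
theorem z4 {c : R} (h : a * b * c = 0) (d : R) : a * (b * (c * d)) = 0 := by
  rw [← mul_assoc, ← mul_assoc, h, zero_mul]
theorem z4' {c : R} (h : a * b * c = 0) : a * (b * c) = 0 := by rw [← mul_assoc, h]
theorem e4 {c e : R} (h : a * b * c = e) (d : R) : a * (b * (c * d)) = e * d := by
  rw [← mul_assoc, ← mul_assoc, h]
theorem e4' {c e : R} (h : a * b * c = e) : a * (b * c) = e := by rw [← mul_assoc, h]

theorem InG.mul (hx : InG G x) (hy : InG G y) : InG G (x * y) := by
  obtain ⟨g, hg, rfl⟩ := hx; obtain ⟨h, hh, rfl⟩ := hy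
  exact ⟨g * h, G.mul_mem hg hh, rfl⟩

theorem InG.one : InG G 1 := ⟨1, G.one_mem, rfl⟩

theorem InG.of_mem {g : Rˣ} (hg : g ∈ G) : InG G g := ⟨g, hg, rfl⟩

theorem InG.mem {g : Rˣ} (hg : InG G g) : g ∈ G := by
  obtain ⟨h, hh, e⟩ := hg; rwa [← Units.ext e]

theorem InG.inv (hx : InG G x) (h : x * y = 1) : InG G y := by
  obtain ⟨g, hg, rfl⟩ := hx
  exact ⟨g⁻¹, G.inv_mem hg, Units.inv_eq_of_mul_eq_one_right h⟩

theorem InG.mono {H : Subgroup Rˣ} (hx : InG G x) (h : G ≤ H) : InG H x := by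
  obtain ⟨g, hg, e⟩ := hx; exact ⟨g, h hg, e⟩

theorem QE.mono {H : Subgroup Rˣ} (ha : QE k G a) (h : G ≤ H) : QE k H a := ⟨ha.sq, fun c => (ha.mem c).mono h⟩

theorem QE.one_add (ha : QE k G a) : InG G (1 + a) := by simpa using ha.mem 1
theorem QE.one_sub (ha : QE k G a) : InG G (1 - a) := by simpa [sub_eq_add_neg] using ha.mem (-1)

theorem QE.un_mem (ha : QE k G a) : un a ha.sq ∈ G := InG.mem ha.one_add

theorem QE.zero : QE k G (0 : R) := ⟨mul_zero _, fun c => by simpa using InG.one⟩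

theorem QE.smul (ha : QE k G a) (c : k) : QE k G (c • a) :=
  ⟨by simp [ha.sq], fun d => by rw [smul_smul]; exact ha.mem _⟩

theorem QE.neg (ha : QE k G a) : QE k G (-a) := by simpa using ha.smul (-1)

theorem QE.of_smul {c : k} (ha : QE k G (c • a)) (hc : c ≠ 0) : QE k G a := by
  simpa [smul_smul, hc] using ha.smul c⁻¹

theorem QE.conj' (ha : QE k G a) (hx : InG G x) (h : x * y = 1) : QE k G (x * a * y) := by
  have hy := hx.inv h
  have h' : y * x = 1 := by
    obtain ⟨g, -, rfl⟩ := hx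
    rw [← Units.inv_eq_of_mul_eq_one_right h, Units.inv_mul]
  refine ⟨by simp only [mul_assoc, e3 h', one_mul, z3 ha.sq, mul_zero], fun c => ?_⟩
  convert (hx.mul (ha.mem c)).mul hy using 1
  simp only [mul_add, add_mul, mul_one, h, mul_smul_comm, smul_mul_assoc]

theorem QE.conj (ha : QE k G a) {g : Rˣ} (hg : g ∈ G) : QE k G (g * a * (g⁻¹ : Rˣ)) :=
  ha.conj' (InG.of_mem hg) (Units.mul_inv g)

theorem QE.conj1 (ha : QE k G a) (hb : QE k G b) : QE k G ((1 + b) * a * (1 - b)) :=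
  ha.conj' hb.one_add (un b hb.sq).mul_inv

theorem QE.add (ha : QE k G a) (hb : QE k G b) (h1 : a * b = 0) (h2 : b * a = 0) : QE k G (a + b) := by
  refine ⟨by simp [mul_add, add_mul, ha.sq, hb.sq, h1, h2], fun c => ?_⟩
  convert (ha.mem c).mul (hb.mem c) using 1
  simp [mul_add, add_mul, h1, add_assoc]

theorem QE.sub (ha : QE k G a) (hb : QE k G b) (h1 : a * b = 0) (h2 : b * a = 0) : QE k G (a - b) := by
  rw [sub_eq_add_neg]; exact ha.add hb.neg (by simp [h1]) (by simp [h2])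

theorem QE.of_sq (h2 : (2 : k) ≠ 0) (h : a * a = 0) (hs : ∀ s : k, InG G (1 + s ^ 2 • a)) : QE k G a := by
  refine ⟨h, fun c => ?_⟩
  have h1 : InG G (1 - ((c - 1) / 2) ^ 2 • a) := (hs ((c - 1) / 2)).inv (by simp [mul_sub, add_mul, h])
  convert (hs ((c + 1) / 2)).mul h1 using 1
  have : c = ((c + 1) / 2) ^ 2 - ((c - 1) / 2) ^ 2 := by field_simp; ring
  conv_lhs => rw [this]
  simp [mul_sub, add_mul, h, sub_smul]; abel

theorem QE.nil (h2 : (2 : k) ≠ 0) (ha : QE k G a) (hb : QE k G b) (h : b * a * b = 0) :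
    QE k G (a * b * a) ∧ QE k G (a * b - b * a) := by
  have g : ∀ s : k, InG G (1 + s • (a * b - b * a) - s ^ 2 • (a * b * a)) := by
    intro s
    convert (((ha.mem s).mul hb.one_add).mul (ha.mem (-s))).mul hb.one_sub using 1
    simp only [mul_add, add_mul, mul_sub, mul_one, one_mul, mul_smul_comm, smul_mul_assoc, mul_assoc, ha.sq, hb.sq,
      z3 ha.sq, z4' h, mul_zero, smul_zero, zero_mul]
    module
  have hq : QE k G (a * b * a) := by
    apply QE.of_smul (c := -2) _ (neg_ne_zero.2 h2)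
    apply QE.of_sq h2 (by simp [mul_assoc, z3 ha.sq])
    intro s
    convert (g s).mul (g (-s)) using 1
    simp only [mul_add, add_mul, mul_sub, sub_mul, mul_one, one_mul, mul_smul_comm, smul_mul_assoc, mul_assoc, ha.sq,
      hb.sq, z3 ha.sq, z3 hb.sq, z4' h, z4 h, mul_zero, smul_zero]
    module
  refine ⟨hq, by simp [mul_sub, sub_mul, mul_assoc, z3 ha.sq, z3 hb.sq, z4' h, z4 h], fun s => ?_⟩
  convert (g s).mul (hq.mem (s ^ 2)) using 1
  simp only [mul_add, add_mul, mul_sub, sub_mul, mul_one, one_mul, mul_smul_comm, smul_mul_assoc, mul_assoc, ha.sq,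
    hb.sq, z3 ha.sq, z3 hb.sq, z4' h, z4 h, mul_zero, smul_zero]
  module

end Ring

section End
variable {k : Type*} [Field k] {M : Type*} [AddCommGroup M] [Module k M]
open LinearMap

/-- rank -/
noncomputable def rk (a : M →ₗ[k] M) : ℕ := Module.finrank k (range a)

/-- quadratic of minimal rank -/
structure QD (G : Subgroup (M →ₗ[k] M)ˣ) (a : M →ₗ[k] M) : Prop where
  qe : QE k G a
  ne : a ≠ 0
  min : ∀ b, QE k G b → b ≠ 0 → rk a ≤ rk b

variable {G : Subgroup (M →ₗ[k] M)ˣ} {a b c x y : M →ₗ[k] M}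

theorem mem_quadraticElements {σ : GeneralLinearGroup k M} :
    σ ∈ quadraticElements G ↔ QE k G ((σ : M →ₗ[k] M) - 1) ∧ (σ : M →ₗ[k] M) - 1 ≠ 0 := by
  constructor
  · rintro ⟨-, ⟨h1, h2⟩, h3⟩
    refine ⟨⟨h1, fun c => ?_⟩, h2⟩
    have : (c • ((σ : M →ₗ[k] M) - 1)) * (c • ((σ : M →ₗ[k] M) - 1)) = 0 := by
      rw [smul_mul_smul_comm, h1, smul_zero]
    exact ⟨un _ this, h3 ⟨c, rfl⟩, rfl⟩
  · rintro ⟨h1, h2⟩
    refine ⟨InG.mem (by simpa using h1.one_add), ⟨h1.sq, h2⟩, ?_⟩
    rintro τ ⟨c, hc⟩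
    exact InG.mem (hc ▸ h1.mem c)

theorem un_mem_quadraticElements (ha : QE k G a) (h0 : a ≠ 0) : un a ha.sq ∈ quadraticElements G :=
  mem_quadraticElements.2 (by simpa using ⟨ha, h0⟩)

theorem mem_minimal {σ : GeneralLinearGroup k M} :
    σ ∈ minimalQuadraticElements G ↔ QD G ((σ : M →ₗ[k] M) - 1) := by
  constructor
  · rintro ⟨h1, h2⟩
    rw [mem_quadraticElements] at h1
    refine ⟨h1.1, h1.2, fun b hb hb0 => ?_⟩
    have := h2 _ (un_mem_quadraticElements hb hb0)
    rw [commutatorRank, commutatorRank, un_val, add_sub_cancel_left] at this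
    exact this
  · intro h
    exact ⟨mem_quadraticElements.2 ⟨h.qe, h.ne⟩, fun τ hτ =>
      h.min _ (mem_quadraticElements.1 hτ).1 (mem_quadraticElements.1 hτ).2⟩

theorem mul_eq_zero_iff_le : a * b = 0 ↔ range b ≤ ker a := by
  rw [range_le_ker_iff]; rfl

theorem ker_le_ker_mul (a b : M →ₗ[k] M) : ker b ≤ ker (a * b) := ker_le_ker_comp b a
theorem range_mul_le (a b : M →ₗ[k] M) : range (a * b) ≤ range a := range_comp_le_range b a

theorem QD.sq (ha : QD G a) : a * a = 0 := ha.qe.sq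

theorem QD.of_le (ha : QD G a) (hb : QE k G b) (h0 : b ≠ 0) (h : rk b ≤ rk a) : QD G b :=
  ⟨hb, h0, fun c hc hc0 => h.trans (ha.min c hc hc0)⟩

theorem QD.rk_eq (ha : QD G a) (hb : QD G b) : rk a = rk b :=
  le_antisymm (ha.min b hb.qe hb.ne) (hb.min a ha.qe ha.ne)

variable [FiniteDimensional k M]

theorem rk_add_ker (a : M →ₗ[k] M) : rk a + Module.finrank k (ker a) = Module.finrank k M :=
  finrank_range_add_finrank_ker a

theorem rk_le_of_range (h : range a ≤ range b) : rk a ≤ rk b := Submodule.finrank_mono h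

theorem rk_le_of_ker (h : ker b ≤ ker a) : rk a ≤ rk b := by
  have := Submodule.finrank_mono h
  have h1 := rk_add_ker a
  have h2 := rk_add_ker b
  omega

theorem rk_mul_le_left (a b : M →ₗ[k] M) : rk (a * b) ≤ rk a := rk_le_of_range (range_mul_le a b)
theorem rk_mul_le_right (a b : M →ₗ[k] M) : rk (a * b) ≤ rk b := rk_le_of_ker (ker_le_ker_mul a b)

theorem ker_eq_of_rk (h : ker a ≤ ker b) (h' : rk a ≤ rk b) : ker a = ker b := by
  apply Submodule.eq_of_le_of_finrank_le h
  have h1 := rk_add_ker a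
  have h2 := rk_add_ker b
  omega

theorem range_eq_of_rk (h : range b ≤ range a) (h' : rk a ≤ rk b) : range b = range a :=
  Submodule.eq_of_le_of_finrank_le h h'

theorem rk_mul_add (a b : M →ₗ[k] M) : rk (a * b) + Module.finrank k ↥(range b ⊓ ker a) = rk b := by
  have h1 := finrank_range_add_finrank_ker (a.domRestrict (range b))
  rw [range_domRestrict, ker_domRestrict, ← Submodule.finrank_map_subtype_eq, Submodule.map_comap_subtype,
    ← range_comp] at h1
  exact h1

theorem QD.ker_eq (ha : QD G a) (hb : QE k G b) (h0 : b ≠ 0) (h : ker a ≤ ker b) : ker a = ker b :=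
  ker_eq_of_rk h (ha.min b hb h0)

theorem QD.range_eq (ha : QD G a) (hb : QE k G b) (h0 : b ≠ 0) (h : range b ≤ range a) : range b = range a :=
  range_eq_of_rk h (ha.min b hb h0)

theorem QD.smul (ha : QD G a) {c : k} (hc : c ≠ 0) : QD G (c • a) :=
  ha.of_le (ha.qe.smul c) (smul_ne_zero hc ha.ne) (rk_le_of_range (range_smul a c hc).le)

theorem QD.neg (ha : QD G a) : QD G (-a) := by simpa using ha.smul (c := -1) (by simp)

theorem QD.conj' (ha : QD G a) (hx : InG G x) (h : x * y = 1) : QD G (x * a * y) := by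
  refine ha.of_le (ha.qe.conj' hx h) (fun e => ha.ne ?_) ((rk_mul_le_left _ _).trans (rk_mul_le_right _ _))
  have h' : y * x = 1 := mul_eq_one_comm.1 h
  calc a = (y * x) * a * (y * x) := by simp [h']
    _ = y * (x * a * y) * x := by noncomm_ring
    _ = 0 := by simp [e]

theorem QD.conj (ha : QD G a) {g : (M →ₗ[k] M)ˣ} (hg : g ∈ G) : QD G (g * a * (g⁻¹ : (M →ₗ[k] M)ˣ)) :=
  ha.conj' (InG.of_mem hg) (Units.mul_inv g)

theorem QD.conj1 (ha : QD G a) (hb : QE k G b) : QD G ((1 + b) * a * (1 - b)) :=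
  ha.conj' hb.one_add (un b hb.sq).mul_inv

/-- a quadratic left multiple of a minimal element has the same kernel -/
theorem QD.cancel (ha : QD G a) (hb : QE k G (x * a)) (h : x * a * y = 0) : x * a = 0 ∨ a * y = 0 := by
  by_cases h0 : x * a = 0
  · exact Or.inl h0
  · right
    rw [mul_eq_zero_iff_le] at h ⊢
    rwa [ha.ker_eq hb h0 (ker_le_ker_mul _ _)]

theorem QD.cancel' (ha : QD G a) (hb : QE k G (a * x)) (h : y * (a * x) = 0) : a * x = 0 ∨ y * a = 0 := by
  by_cases h0 : a * x = 0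
  · exact Or.inl h0
  · right
    rw [mul_eq_zero_iff_le] at h ⊢
    rwa [← ha.range_eq hb h0 (range_mul_le _ _)]

theorem QD.L1 (h2 : (2 : k) ≠ 0) (ha : QD G a) (hb : QE k G b) (h : b * a * b = 0) : a * b * a = 0 := by
  rcases ha.cancel (QE.nil h2 ha.qe hb h).1 (y := b) (by simp [mul_assoc, z4' h]) with h1 | h1
  · exact h1
  · rw [h1, zero_mul]

theorem QD.L2 (h2 : (2 : k) ≠ 0) (ha : QD G a) (m : ℕ) : ∀ b, QE k G b → (a * b) ^ m * a = 0 → a * b * a = 0 := by
  induction m using Nat.strong_induction_on with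
  | _ m ih =>
  intro b hb h
  rcases m with _ | _ | m
  · exact absurd (by simpa using h) ha.ne
  · simpa using h
  have haa := ha.sq
  have hbb := hb.sq
  have e1 : ∀ j : ℕ, (a * ((1 + b) * a * (1 - b))) ^ j * a = (-1 : k) ^ j • ((a * b) ^ (2 * j) * a) := by
    intro j
    induction j with
    | zero => simp
    | succ j ihj =>
      have : a * ((1 + b) * a * (1 - b)) * a = -((a * b) ^ 2 * a) := by
        simp only [pow_two, mul_add, add_mul, mul_sub, sub_mul, mul_one, one_mul, mul_assoc, haa, z3 haa, mul_zero]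
        abel
      rw [pow_succ', mul_assoc, ihj, mul_smul_comm, (by ring : 2 * (j + 1) = 2 * j + 2), mul_pow_mul,
        ← mul_assoc _ a, this, pow_succ (-1 : k), neg_mul, mul_assoc _ a, ← mul_pow_mul, ← mul_assoc, ← pow_add,
        add_comm 2]
      simp
  have h5 : a * b * a * b * a = 0 := by
    have := ih ((m + 3) / 2) (by omega) _ (ha.qe.conj1 hb) (by
      rw [e1]
      obtain ⟨i, hi⟩ : ∃ i, 2 * ((m + 3) / 2) = i + (m + 1 + 1) := ⟨2 * ((m + 3) / 2) - (m + 2), by omega⟩
      rw [hi, pow_add, mul_assoc, h, mul_zero, smul_zero])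
    simp only [mul_add, add_mul, mul_sub, sub_mul, mul_one, one_mul, mul_assoc, haa, z3 haa, mul_zero] at this
    simpa [mul_assoc] using this
  have h5' : a * (b * (a * (b * a))) = 0 := by simpa [mul_assoc] using h5
  have h5'' : ∀ w, a * (b * (a * (b * (a * w)))) = 0 := fun w => by simpa [mul_assoc] using congrArg (· * w) h5
  have c1 := (QE.nil h2 (ha.qe.conj1 hb) ha.qe (by
    simp only [mul_add, add_mul, mul_sub, sub_mul, mul_one, one_mul, mul_assoc, haa, z3 haa, mul_zero, h5']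
    simp)).2
  have c2 := (QE.nil h2 (ha.qe.conj1 hb.neg) ha.qe (by
    simp only [mul_add, add_mul, mul_sub, sub_mul, mul_one, one_mul, mul_assoc, haa, z3 haa, mul_zero, h5', mul_neg,
      neg_mul]
    simp)).2
  have c3 := c2.sub c1 (by
    simp only [mul_add, add_mul, mul_sub, sub_mul, mul_one, one_mul, mul_assoc, haa, z3 haa, mul_zero, h5', mul_neg,
      neg_mul, z3 hbb, h5'']
    simp) (by
    simp only [mul_add, add_mul, mul_sub, sub_mul, mul_one, one_mul, mul_assoc, haa, z3 haa, mul_zero, h5', mul_neg,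
      neg_mul, z3 hbb, h5'']
    simp)
  have c4 : QE k G (a * b * a) := by
    apply QE.of_smul (c := 4) _ (by rw [(by norm_num : (4 : k) = 2 * 2)]; exact mul_ne_zero h2 h2)
    convert c3 using 1
    simp only [mul_add, add_mul, mul_sub, sub_mul, mul_one, one_mul, mul_assoc, haa, z3 haa, mul_zero, mul_neg,
      neg_mul]
    module
  rcases ha.cancel c4 (y := b * a) (by simpa [mul_assoc] using h5) with h6 | h6
  · exact h6
  · rw [mul_assoc, h6]

end End

end Cfsg.Agent.H90
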