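import Cfsg.Agent.H90.DickGen

/-! Generation of `E₂(Λ)` by `x(k)` and `y(kz)` for a finite-dimensional `k`-algebra `Λ = k[z]`, `z` a unit. -/

set_option autoImplicit false

namespace Cfsg.Agent.H90
open Cfsg Polynomial

local notation "SL2" => Matrix.SpecialLinearGroup (Fin 2)

section Ring
variable {L : Type*} [CommRing L]

/-- upper unitriangular matrix -/
def ru (t : L) : SL2 L := ⟨!![1, t; 0, 1], by simp [Matrix.det_fin_two]⟩
/-- lower unitriangular matrix -/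
def rl (t : L) : SL2 L := ⟨!![1, 0; t, 1], by simp [Matrix.det_fin_two]⟩

@[simp] theorem ru_coe (t : L) : ((ru t : SL2 L) : Matrix (Fin 2) (Fin 2) L) = !![1, t; 0, 1] := rfl
@[simp] theorem rl_coe (t : L) : ((rl t : SL2 L) : Matrix (Fin 2) (Fin 2) L) = !![1, 0; t, 1] := rfl

theorem r_ext {g h : SL2 L} (h00 : g.1 0 0 = h.1 0 0) (h01 : g.1 0 1 = h.1 0 1) (h10 : g.1 1 0 = h.1 1 0)
    (h11 : g.1 1 1 = h.1 1 1) : g = h := by
  apply Subtype.ext
  ext i j
  fin_cases i <;> fin_cases j <;> assumption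

theorem r_det (g : SL2 L) : g.1 0 0 * g.1 1 1 - g.1 0 1 * g.1 1 0 = 1 := by
  have := g.2; rwa [Matrix.det_fin_two] at this

theorem r_mul (g h : SL2 L) (i j : Fin 2) :
    (g * h).1 i j = g.1 i 0 * h.1 0 j + g.1 i 1 * h.1 1 j := by
  show (g.1 * h.1) i j = _
  rw [Matrix.mul_apply, Fin.sum_univ_two]

theorem r_inv (g : SL2 L) : (g⁻¹).1 = !![g.1 1 1, -g.1 0 1; -g.1 1 0, g.1 0 0] := by
  simp [Matrix.adjugate_fin_two]

theorem ent00 (a b c d : L) : !![a, b; c, d] 0 0 = a := rfl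
theorem ent01 (a b c d : L) : !![a, b; c, d] 0 1 = b := rfl
theorem ent10 (a b c d : L) : !![a, b; c, d] 1 0 = c := rfl
theorem ent11 (a b c d : L) : !![a, b; c, d] 1 1 = d := rfl

theorem ru_add (s t : L) : ru (s + t) = ru s * ru t := by apply r_ext <;> simp only [r_mul, r_inv, ru_coe, rl_coe, ent00, ent01, ent10, ent11] <;> ring
theorem rl_add (s t : L) : rl (s + t) = rl s * rl t := by apply r_ext <;> simp only [r_mul, r_inv, ru_coe, rl_coe, ent00, ent01, ent10, ent11] <;> ring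
theorem ru_zero : ru (0 : L) = 1 := by apply r_ext <;> simp
theorem rl_zero : rl (0 : L) = 1 := by apply r_ext <;> simp
theorem ru_neg (t : L) : ru (-t) = (ru t)⁻¹ := by apply r_ext <;> simp only [r_mul, r_inv, ru_coe, rl_coe, ent00, ent01, ent10, ent11] <;> ring
theorem rl_neg (t : L) : rl (-t) = (rl t)⁻¹ := by apply r_ext <;> simp only [r_mul, r_inv, ru_coe, rl_coe, ent00, ent01, ent10, ent11] <;> ring

theorem r_w_ru {t t' : L} (ht : t * t' = 1) (u : L) :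
    ru t * rl (-t') * ru t * ru u * (ru t * rl (-t') * ru t)⁻¹ = rl (-u * t' ^ 2) := by
  rw [mul_inv_eq_iff_eq_mul]
  apply r_ext <;> simp only [r_mul, r_inv, ru_coe, rl_coe, ent00, ent01, ent10, ent11]
  · ring
  · linear_combination (-u) * ht
  · linear_combination (-u * t' ^ 2) * ht
  · linear_combination (-u * t' + u * t' - u * t' ^ 2 * t + u * t') * ht

theorem r_w_rl {t t' : L} (ht : t * t' = 1) (u : L) :
    ru t * rl (-t') * ru t * rl u * (ru t * rl (-t') * ru t)⁻¹ = ru (-u * t ^ 2) := by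
  rw [mul_inv_eq_iff_eq_mul]
  apply r_ext <;> simp only [r_mul, r_inv, ru_coe, rl_coe, ent00, ent01, ent10, ent11]
  · linear_combination (-2 * u * t) * ht
  · linear_combination (-u * t ^ 2) * ht
  · linear_combination (-u) * ht
  · ring

theorem rl_mem_of_ru {Γ : Subgroup (SL2 L)} (hx : ∀ t, ru t ∈ Γ) {z z' : L} (hz : z * z' = 1) (hy : rl z ∈ Γ)
    (v : L) : rl v ∈ Γ := by
  have h1 := r_w_ru (t := -z') (t' := -z) (by linear_combination hz) (-v * z' ^ 2)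
  have e1 : -(-v * z' ^ 2) * (-z) ^ 2 = v := by linear_combination v * (z * z' + 1) * hz
  rw [e1, neg_neg] at h1
  rw [← h1]
  have hw := Γ.mul_mem (Γ.mul_mem (hx (-z')) hy) (hx (-z'))
  exact Γ.mul_mem (Γ.mul_mem hw (hx _)) (Γ.inv_mem hw)

theorem r_trace_conj (g a : SL2 L) : (g * a * g⁻¹).1 0 0 + (g * a * g⁻¹).1 1 1 = a.1 0 0 + a.1 1 1 := by
  simp only [r_mul, r_inv, Matrix.of_apply, Matrix.cons_val', Matrix.cons_val_zero, Matrix.cons_val_one,
    Matrix.cons_val_fin_one]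
  linear_combination (a.1 0 0 + a.1 1 1) * r_det g

variable {k : Type*} [Field k] [Algebra k L]

theorem ru_mem_of_pow {Γ : Subgroup (SL2 L)} {z : L} (hgen : Algebra.adjoin k {z} = ⊤)
    (h : ∀ (c : k) (n : ℕ), ru (algebraMap k L c * z ^ n) ∈ Γ) (t : L) : ru t ∈ Γ := by
  have ht : t ∈ Algebra.adjoin k {z} := hgen ▸ Algebra.mem_top
  rw [Algebra.adjoin_singleton_eq_range_aeval] at ht
  obtain ⟨p, rfl⟩ := ht
  show ru (aeval z p) ∈ Γ
  induction p using Polynomial.induction_on' with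
  | add p q hp hq => rw [map_add, ru_add]; exact Γ.mul_mem hp hq
  | monomial n a => rw [aeval_monomial]; exact h a n

/-- the case where `Γ` meets the congruence subgroup in scalars -/
theorem step_scalar {H : Type*} [Group H] (ψ : SL2 L →* H) {hf : L} (h2 : 2 * hf = 1) {Γ : Subgroup (SL2 L)}
    {z z' : L} (hz : z * z' = 1) (hgen : Algebra.adjoin k {z} = ⊤) (hx : ∀ c : k, ru (algebraMap k L c) ∈ Γ)
    (hy : ∀ c : k, rl (algebraMap k L c * z) ∈ Γ) (hU : ∀ t, ∃ g ∈ Γ, ψ g = ψ (ru t))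
    (hL : ∀ t, ∃ g ∈ Γ, ψ g = ψ (rl t))
    (hS : ∀ g ∈ Γ, ψ g = 1 → g.1 0 1 = 0 ∧ g.1 1 0 = 0 ∧ g.1 0 0 = g.1 1 1) (t : L) : ru t ∈ Γ := by
  have hx1 : ru 1 ∈ Γ := by simpa using hx 1
  have hy1 : rl z ∈ Γ := by simpa using hy 1
  have A1 : ∀ a ∈ Γ, ∀ b ∈ Γ, ψ a = ψ b → a.1 0 0 + a.1 1 1 = 2 → b.1 0 0 + b.1 1 1 = 2 → a = b := by
    intro a ha b hb e ta tb
    obtain ⟨h1, h3, h4⟩ := hS _ (Γ.mul_mem ha (Γ.inv_mem hb)) (by rw [map_mul, map_inv, e, mul_inv_cancel])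
    set g := a * b⁻¹ with hg
    have ea : a = g * b := by rw [hg]; group
    have e1 : g.1 1 1 = 1 := by
      rw [ea, r_mul g b, r_mul g b, h1, h3, h4] at ta
      linear_combination hf * ta - hf * g.1 1 1 * tb + (1 - g.1 1 1) * h2
    have : g = 1 := by apply r_ext <;> simp [h1, h3, h4, e1]
    rw [ea, this, one_mul]
  have A3 : ∀ t, ∃ t', rl t' ∈ Γ ∧ ψ (rl t') = ψ (rl t) := by
    intro t
    obtain ⟨g, hg, e⟩ := hL (hf * t)
    have h1 := A1 _ (Γ.mul_mem (Γ.mul_mem hg hy1) (Γ.inv_mem hg)) _ hy1 (by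
      rw [map_mul, map_mul, map_inv, e, ← map_mul, ← rl_add, add_comm, rl_add, map_mul, mul_inv_cancel_right])
      (by rw [r_trace_conj]; simp; norm_num) (by simp; norm_num)
    rw [mul_inv_eq_iff_eq_mul] at h1
    have e00 := congrArg (fun g : SL2 L => g.1 0 0) h1
    have e10 := congrArg (fun g : SL2 L => g.1 1 0) h1
    simp only [r_mul, rl_coe, Matrix.of_apply, Matrix.cons_val', Matrix.cons_val_zero, Matrix.cons_val_one,
      Matrix.cons_val_fin_one] at e00 e10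
    have h01 : g.1 0 1 = 0 := by linear_combination z' * e00 - g.1 0 1 * hz
    have h11 : g.1 1 1 = g.1 0 0 := by linear_combination z' * e10 - (g.1 1 1 - g.1 0 0) * hz
    have hd := r_det g
    rw [h01, h11] at hd
    have e2 : g * g = rl (2 * g.1 0 0 * g.1 1 0) := by
      apply r_ext <;> simp only [r_mul, r_inv, ru_coe, rl_coe, ent00, ent01, ent10, ent11, h01, h11]
      · linear_combination hd
      · ring
      · ring
      · linear_combination hd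
    refine ⟨_, e2 ▸ Γ.mul_mem hg hg, ?_⟩
    rw [← e2, map_mul, e, ← map_mul, ← rl_add]
    congr 2; linear_combination t * h2
  have A4 : ∀ t t', t * t' = 1 → ru t ∈ Γ → ru t * rl (-t') * ru t ∈ Γ := by
    intro t t' ht hxt
    obtain ⟨s, hs, es⟩ := A3 (-t')
    obtain ⟨s', hs', es'⟩ := A3 (-1 * t' ^ 2)
    have hw := Γ.mul_mem (Γ.mul_mem hxt hs) hxt
    have h1 := A1 _ (Γ.mul_mem (Γ.mul_mem hw hx1) (Γ.inv_mem hw)) _ hs' (by
      rw [es', ← r_w_ru ht]; simp only [map_mul, map_inv, es])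
      (by rw [r_trace_conj]; simp; norm_num) (by simp; norm_num)
    rw [mul_inv_eq_iff_eq_mul] at h1
    have e01 := congrArg (fun g : SL2 L => g.1 0 1) h1
    simp only [r_mul, rl_coe, ru_coe, Matrix.of_apply, Matrix.cons_val', Matrix.cons_val_zero, Matrix.cons_val_one,
      Matrix.cons_val_fin_one] at e01
    have : s = -t' := by linear_combination t' * e01 - s * ht
    rwa [← this]
  have w1 := A4 1 1 (mul_one 1) hx1
  have lu : ∀ u, rl u ∈ Γ → ru (-u * 1 ^ 2) ∈ Γ := fun u hu => by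
    rw [← r_w_rl (mul_one 1)]; exact Γ.mul_mem (Γ.mul_mem w1 hu) (Γ.inv_mem w1)
  have ul : ∀ u, ru u ∈ Γ → rl (-u * 1 ^ 2) ∈ Γ := fun u hu => by
    rw [← r_w_ru (mul_one 1)]; exact Γ.mul_mem (Γ.mul_mem w1 hu) (Γ.inv_mem w1)
  have hxz : ∀ c : k, ru (algebraMap k L c * z) ∈ Γ := fun c => by
    convert lu _ (hy (-c)) using 2; rw [map_neg]; ring
  have wz := A4 z z' hz (by simpa using hxz 1)
  have uu : ∀ u, ru u ∈ Γ → ru (u * z ^ 2) ∈ Γ := fun u hu => by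
    have := Γ.mul_mem (Γ.mul_mem wz (ul u hu)) (Γ.inv_mem wz)
    rw [r_w_rl hz] at this
    convert this using 2; ring
  apply ru_mem_of_pow hgen
  intro c n
  induction n using Nat.twoStepInduction with
  | zero => simpa using hx c
  | one => simpa using hxz c
  | more n ih _ => convert uu _ ih using 2; ring

/-- the case of a square zero minimal ideal -/
theorem step_nil {I : Ideal L} (hI : ∀ a ∈ I, ∀ b ∈ I, a * b = 0) (hmin : ∀ i ∈ I, i ≠ 0 → ∀ j ∈ I, ∃ m, j = m * i)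
    {hf : L} (h2 : 2 * hf = 1) {Γ : Subgroup (SL2 L)}
    (hU : ∀ t, ∃ g ∈ Γ, Matrix.SpecialLinearGroup.map (Ideal.Quotient.mk I) g =
      Matrix.SpecialLinearGroup.map (Ideal.Quotient.mk I) (ru t))
    (hL : ∀ t, ∃ g ∈ Γ, Matrix.SpecialLinearGroup.map (Ideal.Quotient.mk I) g =
      Matrix.SpecialLinearGroup.map (Ideal.Quotient.mk I) (rl t))
    (hS : ¬ ∀ g ∈ Γ, Matrix.SpecialLinearGroup.map (Ideal.Quotient.mk I) g = 1 →
      g.1 0 1 = 0 ∧ g.1 1 0 = 0 ∧ g.1 0 0 = g.1 1 1) (t : L) : ru t ∈ Γ := by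
  set ψ : SL2 L →* SL2 (L ⧸ I) := Matrix.SpecialLinearGroup.map (Ideal.Quotient.mk I)
  have hker : ∀ g, ψ g = 1 → ∃ α ∈ I, ∃ β ∈ I, ∃ γ ∈ I, g.1 = !![1 + α, β; γ, 1 - α] := by
    intro g hg
    have he : ∀ i j, Ideal.Quotient.mk I (g.1 i j) = (1 : Matrix (Fin 2) (Fin 2) (L ⧸ I)) i j := fun i j =>
      congrArg (fun g : SL2 (L ⧸ I) => g.1 i j) hg
    have h00 : g.1 0 0 - 1 ∈ I := by rw [← Ideal.Quotient.eq]; simpa using he 0 0
    have h11 : g.1 1 1 - 1 ∈ I := by rw [← Ideal.Quotient.eq]; simpa using he 1 1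
    have h01 : g.1 0 1 ∈ I := by rw [← Ideal.Quotient.eq_zero_iff_mem]; simpa using he 0 1
    have h10 : g.1 1 0 ∈ I := by rw [← Ideal.Quotient.eq_zero_iff_mem]; simpa using he 1 0
    refine ⟨_, h00, _, h01, _, h10, ?_⟩
    ext i j
    fin_cases i <;> fin_cases j <;> simp
    linear_combination r_det g - hI _ h00 _ h11 + hI _ h01 _ h10
  have hcomm : ∀ g h, ψ g = 1 → ψ h = 1 → g * h = h * g := by
    intro g h hg hh
    obtain ⟨α, hα, β, hβ, γ, hγ, e⟩ := hker g hg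
    obtain ⟨α', hα', β', hβ', γ', hγ', e'⟩ := hker h hh
    apply r_ext <;> simp only [r_mul, e, e', Matrix.of_apply,
      Matrix.cons_val', Matrix.cons_val_zero, Matrix.cons_val_one, Matrix.cons_val_fin_one]
    · linear_combination hI _ hβ _ hγ' - hI _ hβ' _ hγ
    · linear_combination 2 * hI _ hα _ hβ' - 2 * hI _ hβ _ hα'
    · linear_combination 2 * hI _ hγ _ hα' - 2 * hI _ hα _ hγ'
    · linear_combination hI _ hγ _ hβ' - hI _ hγ' _ hβ
  have hconj : ∀ m ∈ Γ, ψ m = 1 → ∀ δ, (∃ g ∈ Γ, ψ g = ψ δ) → δ * m * δ⁻¹ ∈ Γ := by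
    rintro m hm e δ ⟨g, hg, eg⟩
    have := hcomm (g⁻¹ * δ) m (by rw [map_mul, map_inv, eg, inv_mul_cancel]) e
    have e2 : δ * m * δ⁻¹ = g * m * g⁻¹ := by
      calc δ * m * δ⁻¹ = g * (g⁻¹ * δ * m) * δ⁻¹ := by group
        _ = _ := by rw [this]; group
    rw [e2]; exact Γ.mul_mem (Γ.mul_mem hg hm) (Γ.inv_mem hg)
  let P : L → L → L → Prop := fun α β γ => α ∈ I ∧ β ∈ I ∧ γ ∈ I ∧ ∃ g ∈ Γ, g.1 = !![1 + α, β; γ, 1 - α]
  have Pker : ∀ {α β γ} {g : SL2 L}, α ∈ I → β ∈ I → γ ∈ I → g.1 = !![1 + α, β; γ, 1 - α] → ψ g = 1 := by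
    intro α β γ g hα hβ hγ e
    have he : ∀ i j, (ψ g).1 i j = Ideal.Quotient.mk I (g.1 i j) := fun i j => rfl
    apply r_ext <;> rw [he, e] <;> simp [Ideal.Quotient.eq_zero_iff_mem.2, hα, hβ, hγ]
  have Padd : ∀ {α β γ α' β' γ'}, P α β γ → P α' β' γ' → P (α + α') (β + β') (γ + γ') := by
    rintro α β γ α' β' γ' ⟨hα, hβ, hγ, g, hg, e⟩ ⟨hα', hβ', hγ', g', hg', e'⟩
    refine ⟨I.add_mem hα hα', I.add_mem hβ hβ', I.add_mem hγ hγ', _, Γ.mul_mem hg hg', ?_⟩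
    ext i j
    rw [r_mul, e, e']
    fin_cases i <;> fin_cases j <;> simp
    · linear_combination hI _ hβ _ hγ' + hI _ hα _ hα'
    · linear_combination hI _ hα _ hβ' - hI _ hβ _ hα'
    · linear_combination hI _ hγ _ hα' - hI _ hα _ hγ'
    · linear_combination hI _ hγ _ hβ' + hI _ hα _ hα'
  have Pneg : ∀ {α β γ}, P α β γ → P (-α) (-β) (-γ) := by
    rintro α β γ ⟨hα, hβ, hγ, g, hg, e⟩
    refine ⟨I.neg_mem hα, I.neg_mem hβ, I.neg_mem hγ, _, Γ.inv_mem hg, ?_⟩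
    rw [r_inv, e]
    ext i j
    fin_cases i <;> fin_cases j <;> simp [sub_eq_add_neg]
  have Pu : ∀ {α β γ} (l : L), P α β γ → P (α + l * γ) (β - 2 * l * α - l ^ 2 * γ) γ := by
    rintro α β γ l ⟨hα, hβ, hγ, g, hg, e⟩
    refine ⟨I.add_mem hα (I.mul_mem_left _ hγ), I.sub_mem (I.sub_mem hβ (I.mul_mem_left _ hα)) (I.mul_mem_left _ hγ),
      hγ, _, hconj g hg (Pker hα hβ hγ e) _ (hU l), ?_⟩
    ext i j
    simp only [r_mul, r_inv, e]
    fin_cases i <;> fin_cases j <;> simp <;> ring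
  have Pl : ∀ {α β γ} (l : L), P α β γ → P (α - l * β) β (γ + 2 * l * α - l ^ 2 * β) := by
    rintro α β γ l ⟨hα, hβ, hγ, g, hg, e⟩
    refine ⟨I.sub_mem hα (I.mul_mem_left _ hβ), hβ,
      I.sub_mem (I.add_mem hγ (I.mul_mem_left _ hα)) (I.mul_mem_left _ hβ),
      _, hconj g hg (Pker hα hβ hγ e) _ (hL l), ?_⟩
    ext i j
    simp only [r_mul, r_inv, e]
    fin_cases i <;> fin_cases j <;> simp <;> ring
  have Pcongr : ∀ {α β γ α' β' γ'}, P α β γ → α = α' → β = β' → γ = γ' → P α' β' γ' := by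
    rintro α β γ _ _ _ h rfl rfl rfl; exact h
  have B1 : ∀ i, P 0 i 0 → ∀ m, P 0 0 (m * i) := by
    intro i hi m
    have sq : ∀ l, P 0 0 (-2 * l ^ 2 * i) := fun l =>
      Pcongr (Padd (Padd (Pl l hi) (Pl (-l) hi)) (Pneg (Padd hi hi))) (by ring) (by ring) (by ring)
    exact Pcongr (Padd (sq (-hf ^ 3 * m + 1)) (Pneg (sq (-hf ^ 3 * m - 1)))) (by ring) (by ring)
      (by linear_combination (m * i * (4 * hf ^ 2 + 2 * hf + 1)) * h2)
  have B1' : ∀ i, P 0 0 i → ∀ m, P 0 (m * i) 0 := by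
    intro i hi m
    have sq : ∀ l, P 0 (-2 * l ^ 2 * i) 0 := fun l =>
      Pcongr (Padd (Padd (Pu l hi) (Pu (-l) hi)) (Pneg (Padd hi hi))) (by ring) (by ring) (by ring)
    exact Pcongr (Padd (sq (-hf ^ 3 * m + 1)) (Pneg (sq (-hf ^ 3 * m - 1)))) (by ring)
      (by linear_combination (m * i * (4 * hf ^ 2 + 2 * hf + 1)) * h2) (by ring)
  obtain ⟨i, hi0, hi⟩ : ∃ i, i ≠ 0 ∧ P 0 i 0 := by
    push Not at hS
    obtain ⟨n, hn, en, hns⟩ := hS
    obtain ⟨α, hα, β, hβ, γ, hγ, e⟩ := hker n en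
    have hP : P α β γ := ⟨hα, hβ, hγ, n, hn, e⟩
    by_cases h1 : γ = 0
    · subst h1
      by_cases h3 : α = 0
      · subst h3
        refine ⟨β, fun h => ?_, hP⟩
        subst h
        apply hns <;> simp [e]
      · exact ⟨-2 * α, fun h => h3 (by linear_combination -hf * h - α * h2),
          Pcongr (Padd (Pu 1 hP) (Pneg hP)) (by ring) (by ring) (by ring)⟩
    · exact ⟨-2 * γ, fun h => h1 (by linear_combination -hf * h - γ * h2),
        Pcongr (Padd (Padd (Pu 1 hP) (Pu (-1) hP)) (Pneg (Padd hP hP))) (by ring) (by ring) (by ring)⟩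
  have allL : ∀ j ∈ I, P 0 0 j := fun j hj => by
    obtain ⟨m, rfl⟩ := hmin i hi.2.1 hi0 j hj
    exact B1 i hi m
  have allU : ∀ j ∈ I, P 0 j 0 := fun j hj => Pcongr (B1' j (allL j hj) 1) rfl (one_mul j) rfl
  obtain ⟨g, hg, e⟩ := hU t
  obtain ⟨α, hα, β, hβ, γ, hγ, e'⟩ := hker (g⁻¹ * ru t) (by rw [map_mul, map_inv, e, inv_mul_cancel])
  obtain ⟨-, -, -, m, hm, em⟩ : P α β γ :=
    Pcongr (Padd (Padd (Pl 1 (allU _ (I.neg_mem hα))) (allU _ (I.add_mem hβ hα))) (allL _ (I.sub_mem hγ hα)))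
      (by ring) (by ring) (by ring)
  have : ru t = g * m := by rw [Subtype.ext (em.trans e'.symm)]; group
  rw [this]; exact Γ.mul_mem hg hm

end Ring

theorem sl2_normal_eq_top {K : Type*} [Field K] {c : K} (hc0 : c ≠ 0) (hc : c ^ 2 ≠ 1) (N : Subgroup (SL2 K))
    [hN : N.Normal] (h : ¬ N ≤ Subgroup.center (SL2 K)) : N = ⊤ := by
  let φ := QuotientGroup.mk' N
  have hk : φ.ker = N := QuotientGroup.ker_mk' N
  have h1 : ∀ s t : K, φ (xu s) * φ (xl t) = φ (xl t) * φ (xu s) := by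
    by_contra h1
    exact h (hk ▸ sl2_ker_central φ h1)
  have h2 : ∀ s g, φ g * φ (xu s) = φ (xu s) * φ g := by
    intro s g
    have : (Subgroup.centralizer {φ (xu s)}).comap φ = ⊤ := by
      apply sl2_eq_top
      · intro t
        rw [Subgroup.mem_comap, Subgroup.mem_centralizer_singleton_iff, ← map_mul, ← map_mul, ← xu_add, ← xu_add,
          add_comm]
      · intro t
        rw [Subgroup.mem_comap, Subgroup.mem_centralizer_singleton_iff, h1]
    have hg : g ∈ (Subgroup.centralizer {φ (xu s)}).comap φ := this ▸ Subgroup.mem_top g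
    exact Subgroup.mem_centralizer_singleton_iff.1 hg
  have h3 : ∀ t, xu t ∈ N := by
    intro t
    let g : SL2 K := ⟨!![c, 0; 0, c⁻¹], by simp [Matrix.det_fin_two, hc0]⟩
    have e := sl2_conj_xu (g := g) (by simp [g]) (t / (c ^ 2 - 1))
    have e1 : t = g.1 0 0 ^ 2 * (t / (c ^ 2 - 1)) + -(t / (c ^ 2 - 1)) := by
      have : c ^ 2 - 1 ≠ 0 := sub_ne_zero.2 hc
      simp [g]; field_simp; ring
    rw [← hk, MonoidHom.mem_ker, e1, xu_add, ← e, xu_neg]
    simp only [map_mul, map_inv, h2]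
    group
  refine sl2_eq_top_of_upper h3 (z := -1 / 1 ^ 2) (by simp) ?_
  have := sl2_w_xu (one_ne_zero (α := K)) 1
  rw [← mul_inv_eq_iff_eq_mul] at this
  rw [← this]
  exact hN.conj_mem _ (h3 1) _

universe v

theorem gen_ring {k : Type*} [Field k] (h2 : (2 : k) ≠ 0) (h3 : Nat.card k ≠ 3) (n : ℕ) :
    ∀ (L : Type v) [CommRing L] [Algebra k L] [Module.Finite k L], Module.finrank k L = n → ∀ z z' : L, z * z' = 1 →
      Algebra.adjoin k {z} = ⊤ → ∀ Γ : Subgroup (SL2 L), (∀ c : k, ru (algebraMap k L c) ∈ Γ) →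
      (∀ c : k, rl (algebraMap k L c * z) ∈ Γ) → ∀ t, ru t ∈ Γ ∧ rl t ∈ Γ := by
  induction n using Nat.strong_induction_on with
  | _ n ih =>
  intro L _ _ _ hn z z' hz hgen Γ hx hy
  suffices h : ∀ t, ru t ∈ Γ from fun t => ⟨h t, rl_mem_of_ru h hz (by simpa using hy 1) t⟩
  have hhf : (2 : L) * algebraMap k L 2⁻¹ = 1 := by
    rw [← map_ofNat (algebraMap k L) 2, ← map_mul, mul_inv_cancel₀ h2, map_one]
  have := IsArtinianRing.of_finite k L
  rcases eq_bot_or_exists_atom_le (⊤ : Ideal L) with h0 | ⟨I, hI, -⟩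
  · intro t
    have : t ∈ (⊥ : Ideal L) := h0 ▸ Submodule.mem_top
    rw [Ideal.mem_bot.1 this, ru_zero]; exact Γ.one_mem
  have hgenq : ∀ J : Ideal L, Algebra.adjoin k {Ideal.Quotient.mk J z} = ⊤ := by
    intro J
    have := congrArg (Subalgebra.map (Ideal.Quotient.mkₐ k J)) hgen
    rw [AlgHom.map_adjoin, Set.image_singleton, Algebra.map_top, (AlgHom.range_eq_top _).2
      (Ideal.Quotient.mkₐ_surjective k J)] at this
    exact this
  have hmu : ∀ (J : Ideal L) (t : L), Matrix.SpecialLinearGroup.map (Ideal.Quotient.mk J) (ru t) =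
      ru (Ideal.Quotient.mk J t) := by
    intro J t; apply Subtype.ext; ext i j; fin_cases i <;> fin_cases j <;> simp
  have hml : ∀ (J : Ideal L) (t : L), Matrix.SpecialLinearGroup.map (Ideal.Quotient.mk J) (rl t) =
      rl (Ideal.Quotient.mk J t) := by
    intro J t; apply Subtype.ext; ext i j; fin_cases i <;> fin_cases j <;> simp
  set ψ : SL2 L →* SL2 (L ⧸ I) := Matrix.SpecialLinearGroup.map (Ideal.Quotient.mk I) with hψ
  have hlt : Module.finrank k (L ⧸ I) < n := by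
    have h1 := LinearMap.finrank_range_add_finrank_ker (Ideal.Quotient.mkₐ k I).toLinearMap
    rw [LinearMap.range_eq_top.2 (Ideal.Quotient.mkₐ_surjective k I), finrank_top, hn] at h1
    have h4 : LinearMap.ker (Ideal.Quotient.mkₐ k I).toLinearMap ≠ ⊥ := by
      obtain ⟨i, hi, hi0⟩ := (Submodule.ne_bot_iff I).1 hI.1
      exact (Submodule.ne_bot_iff _).2 ⟨i, Ideal.Quotient.eq_zero_iff_mem.2 hi, hi0⟩
    have := Submodule.finrank_eq_zero.not.2 h4
    omega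
  have IH := ih _ hlt (L ⧸ I) rfl (Ideal.Quotient.mk I z) (Ideal.Quotient.mk I z') (by rw [← map_mul, hz, map_one])
    (hgenq I) (Γ.map ψ) (fun c => ⟨_, hx c, hmu I _⟩) (fun c => ⟨_, hy c, hml I _⟩)
  have hU : ∀ t, ∃ g ∈ Γ, ψ g = ψ (ru t) := fun t => by rw [hψ, hmu]; exact (IH _).1
  have hL : ∀ t, ∃ g ∈ Γ, ψ g = ψ (rl t) := fun t => by rw [hψ, hml]; exact (IH _).2
  by_cases hS : ∀ g ∈ Γ, ψ g = 1 → g.1 0 1 = 0 ∧ g.1 1 0 = 0 ∧ g.1 0 0 = g.1 1 1
  · exact step_scalar ψ hhf hz hgen hx hy hU hL hS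
  have hmin : ∀ i ∈ I, i ≠ 0 → ∀ j ∈ I, ∃ m, j = m * i := by
    intro i hi hi0 j hj
    have h1 : Ideal.span {i} = I := by
      by_contra hne
      have := hI.2 _ (lt_of_le_of_ne ((Ideal.span_singleton_le_iff_mem I).2 hi) hne)
      exact hi0 (Ideal.span_singleton_eq_bot.1 this)
    rw [← h1, Ideal.mem_span_singleton'] at hj
    obtain ⟨m, rfl⟩ := hj
    exact ⟨m, rfl⟩
  by_cases hII : ∀ a ∈ I, ∀ b ∈ I, a * b = 0
  · exact step_nil hII hmin hhf hU hL hS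
  push Not at hII
  obtain ⟨a, ha, b, hb, hab⟩ := hII
  let J : Ideal L := LinearMap.ker (LinearMap.toSpanSingleton L L b)
  have hJ : ∀ x, x ∈ J ↔ x * b = 0 := fun x => Iff.rfl
  have hIJ : ∀ x ∈ I, x ∈ J → x = 0 := by
    intro x hx hxJ
    by_contra h0
    obtain ⟨m, rfl⟩ := hmin x hx h0 a ha
    apply hab
    rw [mul_assoc, (hJ x).1 hxJ, mul_zero]
  have hJmax : J.IsMaximal := by
    rw [Ideal.isMaximal_iff]
    refine ⟨fun h => hab (by rw [hJ, one_mul] at h; rw [h, mul_zero]), fun J' x hle hx hx' => ?_⟩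
    obtain ⟨m, hm⟩ := hmin (x * b) (I.mul_mem_left _ hb) hx b hb
    have : 1 - m * x ∈ J := by rw [hJ]; linear_combination hm
    simpa using J'.add_mem (hle this) (J'.mul_mem_left m hx')
  letI := Ideal.Quotient.field J
  set ψ₂ : SL2 L →* SL2 (L ⧸ J) := Matrix.SpecialLinearGroup.map (Ideal.Quotient.mk J) with hψ₂
  have htop : Γ.map ψ₂ = ⊤ := gen_field h2 h3 (z := Ideal.Quotient.mk J z)
    (left_ne_zero_of_mul_eq_one (b := Ideal.Quotient.mk J z') (by rw [← map_mul, hz, map_one]))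
    (Algebra.IsIntegral.isIntegral _) (hgenq J) (fun c => ⟨_, hx c, hmu J _⟩) (fun c => ⟨_, hy c, hml J _⟩)
  have hinj : ∀ g h : SL2 L, ψ g = ψ h → ψ₂ g = ψ₂ h → g = h := by
    intro g h e1 e2
    apply Subtype.ext
    ext i j
    rw [← sub_eq_zero]
    apply hIJ
    · rw [← Ideal.Quotient.eq]; exact congrArg (fun g : SL2 (L ⧸ I) => g.1 i j) e1
    · rw [← Ideal.Quotient.eq]; exact congrArg (fun g : SL2 (L ⧸ J) => g.1 i j) e2
  have hN : ((Γ ⊓ ψ.ker).map ψ₂).Normal := by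
    constructor
    rintro _ ⟨m, ⟨hm1, hm2⟩, rfl⟩ g
    obtain ⟨g, hg, rfl⟩ : g ∈ Γ.map ψ₂ := htop ▸ Subgroup.mem_top g
    refine ⟨g * m * g⁻¹, ⟨Γ.mul_mem (Γ.mul_mem hg hm1) (Γ.inv_mem hg), ?_⟩, by simp only [map_mul, map_inv]⟩
    exact (MonoidHom.normal_ker ψ).conj_mem _ hm2 _
  obtain ⟨c, hc0, hc⟩ := exists_sq_ne_one h2 h3
  have hNtop := sl2_normal_eq_top (c := algebraMap k (L ⧸ J) c) (by simpa using hc0)
    (fun h => hc ((algebraMap k (L ⧸ J)).injective (by rw [map_pow, h, map_one]))) ((Γ ⊓ ψ.ker).map ψ₂) (by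
      intro hle
      apply hS
      intro g hg e
      have he : ∀ i j, Ideal.Quotient.mk I (g.1 i j) = (1 : Matrix (Fin 2) (Fin 2) (L ⧸ I)) i j := fun i j =>
        congrArg (fun g : SL2 (L ⧸ I) => g.1 i j) e
      have he2 : ∀ i j, Ideal.Quotient.mk J (g.1 i j) = (ψ₂ g).1 i j := fun i j => rfl
      have hc := sl2_center (hle ⟨g, ⟨hg, e⟩, rfl⟩)
      refine ⟨hIJ _ ?_ ?_, hIJ _ ?_ ?_, sub_eq_zero.1 (hIJ _ ?_ ?_)⟩
      · rw [← Ideal.Quotient.eq_zero_iff_mem, he]; simp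
      · rw [← Ideal.Quotient.eq_zero_iff_mem, he2]; rcases hc with h | h <;> simp [h]
      · rw [← Ideal.Quotient.eq_zero_iff_mem, he]; simp
      · rw [← Ideal.Quotient.eq_zero_iff_mem, he2]; rcases hc with h | h <;> simp [h]
      · rw [← Ideal.Quotient.eq, he, he]; simp
      · rw [← Ideal.Quotient.eq, he2, he2]; rcases hc with h | h <;> simp [h])
  intro t
  obtain ⟨g, hg, e⟩ := hU t
  obtain ⟨m, ⟨hm1, hm2⟩, em⟩ : ψ₂ (g⁻¹ * ru t) ∈ (Γ ⊓ ψ.ker).map ψ₂ := hNtop ▸ Subgroup.mem_top _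
  have := hinj m (g⁻¹ * ru t) (by rw [map_mul, map_inv, e, inv_mul_cancel]; exact hm2) em
  have e2 : ru t = g * m := by rw [this]; group
  rw [e2]; exact Γ.mul_mem hg hm1

end Cfsg.Agent.H90
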