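import Cfsg.Agent.H90.QP1
import Cfsg.Agent.H90.SL2Ring
import Cfsg.Agent.H90.SL2Emb

/-! Quadratic pairs: two quadratic elements and the Fitting decomposition. -/

set_option autoImplicit false

namespace Cfsg.Agent.H90
open Cfsg Polynomial

local notation "SL2" => Matrix.SpecialLinearGroup (Fin 2)

universe u

variable {k : Type u} [Field k] {R : Type*} [Ring R] [Algebra k R]

theorem exists_nil_closure {A : Submodule k R} {n : ℕ} (hA : A ^ n = ⊥) :
    ∃ N : Submodule k R, A ≤ N ∧ N * N ≤ N ∧ N ^ n = ⊥ := by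
  let L : Submodule k R := ⨆ i : ℕ, A ^ i
  have hle : ∀ i, A ^ i ≤ L := fun i => le_iSup (fun i : ℕ => A ^ i) i
  have h1L : (1 : R) ∈ L := hle 0 (by simp [Submodule.one_le.1 le_rfl])
  have hLL : L * L ≤ L := by
    rw [Submodule.iSup_mul]
    refine iSup_le fun i => ?_
    rw [Submodule.mul_iSup]
    refine iSup_le fun j => ?_
    rw [← pow_add]; exact hle _
  have hLA : L * A ≤ A * L := by
    rw [Submodule.iSup_mul]
    refine iSup_le fun i => ?_
    rw [← pow_succ, pow_succ']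
    exact mul_le_mul_right (hle i) _
  have hLI : L * (A * L) ≤ A * L := by
    rw [← mul_assoc]
    refine (mul_le_mul_left hLA _).trans ?_
    rw [mul_assoc]; exact mul_le_mul_right hLL _
  have hAL : A ≤ L := by simpa using hle 1
  have h2 : ∀ j, (A * L) ^ j ≤ A ^ j * L := by
    intro j
    induction j with
    | zero => rw [pow_zero, pow_zero, one_mul, Submodule.one_le]; exact h1L
    | succ j ih =>
      rw [pow_succ, pow_succ]
      refine (mul_le_mul_left ih _).trans ?_
      rw [mul_assoc, mul_assoc]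
      exact mul_le_mul_right hLI _
  refine ⟨A * L, fun x hx => by simpa using Submodule.mul_mem_mul hx h1L, ?_, ?_⟩
  · rw [mul_assoc]
    exact mul_le_mul_right (hLI.trans ((mul_le_mul_left hAL _).trans hLL)) _
  · rw [eq_bot_iff]
    refine (h2 n).trans ?_
    rw [hA, Submodule.bot_mul]

theorem unip_sup_of_pow {A : Submodule k R} {n : ℕ} (hA : A ^ n = ⊥) {H K : Subgroup Rˣ} (hH : nn k H ≤ A)
    (hK : nn k K ≤ A) : Unip k (H ⊔ K) := by
  obtain ⟨N, h1, h2, h3⟩ := exists_nil_closure hA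
  exact unip_of_le h3 (nn_sup_le h2 (hH.trans h1) (hK.trans h1))

/-- the scalar family as a subgroup -/
def fam (k : Type u) [Field k] [Algebra k R] (a : R) (h : a * a = 0) : Subgroup Rˣ where
  carrier := {g | ∃ c : k, (g : R) = 1 + c • a}
  one_mem' := ⟨0, by simp⟩
  mul_mem' := by
    rintro g g' ⟨c, hc⟩ ⟨c', hc'⟩
    refine ⟨c + c', ?_⟩
    rw [Units.val_mul, hc, hc']
    simp [mul_add, add_mul, h, add_smul]; abel
  inv_mem' := by
    rintro g ⟨c, hc⟩
    refine ⟨-c, Units.inv_eq_of_mul_eq_one_right ?_⟩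
    rw [hc]
    simp [mul_add, add_mul, h]

theorem qe_fam {a : R} (h : a * a = 0) : QE k (fam k a h) a :=
  ⟨h, fun c => ⟨un (c • a) (by simp [h]), ⟨c, rfl⟩, rfl⟩⟩

theorem QE.fam_le {G : Subgroup Rˣ} {a : R} (h : QE k G a) : fam k a h.sq ≤ G := by
  rintro g ⟨c, hc⟩; exact InG.mem (hc ▸ h.mem c)

theorem nn_fam {a : R} (h : a * a = 0) : nn k (fam k a h) ≤ Submodule.span k {a} := by
  rw [nn_le]
  rintro g ⟨c, hc⟩
  rw [hc, add_sub_cancel_left]
  exact Submodule.smul_mem _ _ (Submodule.mem_span_singleton_self a)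

theorem unip_fam_sup {a b : R} (ha : a * a = 0) (hb : b * b = 0) {N : ℕ} (hz : (a * b + b * a) ^ N = 0) :
    Unip k (fam k a ha ⊔ fam k b hb) := by
  set A : Submodule k R := Submodule.span k {a, b}
  set Z : Submodule k R := Submodule.span k {a * b + b * a}
  have haA : a ∈ A := Submodule.subset_span (by simp)
  have hbA : b ∈ A := Submodule.subset_span (by simp)
  have hzZ : a * b + b * a ∈ Z := Submodule.mem_span_singleton_self _
  have h3 : A * A * A ≤ Z * A := by
    rw [Submodule.span_mul_span, Submodule.span_mul_span, Submodule.span_le]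
    rintro _ ⟨_, ⟨x, hx, y, hy, rfl⟩, w, hw, rfl⟩
    have e1 : a * b * a ∈ Z * A := by
      convert Submodule.mul_mem_mul hzZ haA using 1; simp [add_mul, mul_assoc, ha]
    have e2 : b * a * b ∈ Z * A := by
      convert Submodule.mul_mem_mul hzZ hbA using 1; simp [add_mul, mul_assoc, hb]
    rcases hx with rfl | rfl <;> rcases hy with rfl | rfl <;> rcases hw with rfl | rfl <;>
      first | exact e1 | exact e2 | simp [ha, hb, mul_assoc, z3 ha, z3 hb]
  have h4 : ∀ j, A ^ (2 * j + 1) ≤ Z ^ j * A := by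
    intro j
    induction j with
    | zero => simp
    | succ j ih =>
      rw [(by ring : 2 * (j + 1) + 1 = 2 * j + 1 + 1 + 1), pow_succ, pow_succ, pow_succ Z]
      refine (mul_le_mul_left (mul_le_mul_left ih _) _).trans ?_
      rw [mul_assoc, mul_assoc, mul_assoc, ← mul_assoc A]
      exact mul_le_mul_right h3 _
  refine unip_sup_of_pow (A := A) (n := 2 * N + 1) (eq_bot_iff.2 ((h4 N).trans ?_))
    ((nn_fam ha).trans (Submodule.span_mono (by simp))) ((nn_fam hb).trans (Submodule.span_mono (by simp)))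
  rw [Submodule.span_pow, Set.singleton_pow, hz, Submodule.span_zero_singleton, Submodule.bot_mul]

theorem exists_comm_model [Module.Finite k R] (w : R) :
    ∃ (L : Type u) (_ : CommRing L) (_ : Algebra k L) (_ : Module.Finite k L) (ι : L →ₐ[k] R) (z : L),
      Function.Injective ι ∧ ι z = w ∧ Algebra.adjoin k {z} = ⊤ := by
  let φ : k[X] →ₐ[k] R := aeval w
  let ι := Ideal.kerLiftAlg φ
  have hι : Function.Injective ι := Ideal.kerLiftAlg_injective φ
  refine ⟨k[X] ⧸ RingHom.ker φ, inferInstance, inferInstance, Module.Finite.of_injective ι.toLinearMap hι, ι,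
    Ideal.Quotient.mk _ X, hι, by simp [ι, φ], ?_⟩
  have := congrArg (Subalgebra.map (Ideal.Quotient.mkₐ k (RingHom.ker φ))) (adjoin_X (R := k))
  rw [AlgHom.map_adjoin, Set.image_singleton, Algebra.map_top, (AlgHom.range_eq_top _).2
    (Ideal.Quotient.mkₐ_surjective k _)] at this
  exact this

theorem model_range {L : Type*} [CommRing L] [Algebra k L] (ι : L →ₐ[k] R) {z : L} (h : Algebra.adjoin k {z} = ⊤) :
    ι.range = Algebra.adjoin k {ι z} := by
  rw [← Algebra.map_top, ← h, AlgHom.map_adjoin, Set.image_singleton]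

theorem exists_fitting [Module.Finite k R] (w : R) : ∃ e ∈ Algebra.adjoin k {w}, ∃ w' ∈ Algebra.adjoin k {w},
    e * e = e ∧ w * w' = e ∧ w' * e = w' ∧ ∃ N : ℕ, w ^ N * e = w ^ N := by
  obtain ⟨L, _, _, _, ι, z, -, rfl, hgen⟩ := exists_comm_model (k := k) w
  have := IsArtinianRing.of_finite k L
  obtain ⟨n, y, hy⟩ := IsArtinian.exists_pow_succ_smul_dvd z (1 : L)
  simp only [smul_eq_mul, mul_one, Nat.succ_eq_add_one] at hy
  have h1 : ∀ j, z ^ (n + j) * y ^ j = z ^ n := by
    intro j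
    induction j with
    | zero => simp
    | succ j ih => linear_combination z ^ j * y ^ j * hy + ih
  rw [← model_range ι hgen]
  refine ⟨_, ⟨z ^ n * y ^ n, rfl⟩, _, ⟨z ^ n * y ^ (n + 1), rfl⟩, ?_, ?_, ?_, n, ?_⟩
  all_goals simp only [AlgHom.toRingHom_eq_coe, RingHom.coe_coe, ← map_mul, ← map_pow]; congr 1
  · linear_combination y ^ n * h1 n
  · linear_combination y ^ n * hy
  · linear_combination y ^ (n + 1) * h1 n
  · linear_combination h1 n

theorem ru_mem_lcs {L : Type*} [CommRing L] {Γ : Subgroup (SL2 L)} (hu : ∀ t, ru t ∈ Γ) (hl : ∀ t, rl t ∈ Γ)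
    {c c' d : L} (hc : c * c' = 1) (hd : (1 - c ^ 2) * d = 1) (n : ℕ) :
    ∀ t, ru t ∈ Γ.lowerCentralSeries n ∧ rl t ∈ Γ.lowerCentralSeries n := by
  have w : ∀ t t', ru t * rl (-t') * ru t ∈ Γ := fun t t' => Γ.mul_mem (Γ.mul_mem (hu _) (hl _)) (hu _)
  set h := (ru c * rl (-c') * ru c) * (ru 1 * rl (-1) * ru 1) with hh
  have hΓ : h ∈ Γ := Γ.mul_mem (w _ _) (w _ _)
  have e1 : ∀ s, h * ru s * h⁻¹ = ru (c ^ 2 * s) := by
    intro s
    have : c ^ 2 * s = -(-s * 1 ^ 2) * c ^ 2 := by ring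
    rw [this, ← r_w_rl hc, ← r_w_ru (mul_one 1), hh]; group
  have e2 : ∀ s, h⁻¹ * rl s * h = rl (c ^ 2 * s) := by
    intro s
    have : s = -(-(c ^ 2 * s) * 1 ^ 2) * c' ^ 2 := by linear_combination (-s * (c * c' + 1)) * hc
    conv_lhs => rw [this, ← r_w_ru hc, ← r_w_rl (mul_one 1), hh]
    group
  induction n with
  | zero => exact fun t => ⟨hu t, hl t⟩
  | succ n ih =>
    intro t
    have e : t = d * t + -(c ^ 2 * (d * t)) := by linear_combination (-t) * hd
    constructor
    · have := Subgroup.commutator_mem_commutator (ih (d * t)).1 hΓ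
      rw [commutatorElement_def] at this
      rw [e, ru_add, ru_neg, ← e1, Subgroup.lowerCentralSeries_succ]
      convert this using 1; group
    · have := Subgroup.commutator_mem_commutator (ih (d * t)).2 (Γ.inv_mem hΓ)
      rw [commutatorElement_def] at this
      rw [e, rl_add, rl_neg, ← e2, Subgroup.lowerCentralSeries_succ]
      convert this using 1; group

/-- Fitting data of a pair -/
structure Fit (k : Type u) [Field k] [Algebra k R] (a b e z' : R) : Prop where
  e_mem : e ∈ Algebra.adjoin k {a * b + b * a}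
  z'_mem : z' ∈ Algebra.adjoin k {a * b + b * a}
  ee : e * e = e
  zz : (a * b + b * a) * z' = e
  ze : z' * e = z'
  nil : ∃ N : ℕ, (a * b + b * a) ^ N * e = (a * b + b * a) ^ N

theorem comm_z_left {a b t : R} (ha : a * a = 0) (ht : t ∈ Algebra.adjoin k {a * b + b * a}) : a * t = t * a :=
  Algebra.commute_of_mem_adjoin_singleton_of_commute ht
    (show a * _ = _ * a by simp [mul_add, add_mul, mul_assoc, ha, z3 ha])

theorem comm_z_right {a b t : R} (hb : b * b = 0) (ht : t ∈ Algebra.adjoin k {a * b + b * a}) : b * t = t * b :=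
  comm_z_left hb (add_comm (a * b) _ ▸ ht)

theorem comm_adj {w s t : R} (hs : s ∈ Algebra.adjoin k {w}) (ht : t ∈ Algebra.adjoin k {w}) : s * t = t * s :=
  Algebra.commute_of_mem_adjoin_singleton_of_commute ht (Algebra.commute_of_mem_adjoin_self hs).symm

theorem Fit.mu {a b e z' : R} (ha : a * a = 0) (hb : b * b = 0) (h : Fit k a b e z') : MU (e * a) (z' * b) := by
  have ae := comm_z_left ha h.e_mem
  have be := comm_z_right hb h.e_mem
  have az := comm_z_left ha h.z'_mem
  have bz := comm_z_right hb h.z'_mem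
  have ez := comm_adj h.e_mem h.z'_mem
  have zz := comm_adj h.z'_mem (Algebra.self_mem_adjoin_singleton k _)
  rw [h.zz] at zz
  have h1 : z' * (a * (b * a)) = e * a := by rw [← zz]; simp [mul_add, add_mul, mul_assoc, ha]
  have h2 : z' * (b * (a * b)) = e * b := by rw [← zz]; simp [mul_add, add_mul, mul_assoc, hb]
  refine ⟨?_, ?_, ?_, ?_⟩
  · simp only [mul_assoc, e3 ae, ha, mul_zero]
  · simp only [mul_assoc, e3 bz, hb, mul_zero]
  · simp only [mul_assoc, e3 ae, e3 be, e3 az, e3 ez, e3 h.ee, e3 h.ze, h1]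
  · simp only [mul_assoc, e3 ae, e3 be, e3 az, e3 bz, e3 ez, e3 h.ze, h2]

theorem fit_exists [Module.Finite k R] (a b : R) : ∃ e z', Fit k a b e z' := by
  obtain ⟨e, h1, z', h2, h3, h4, h5, h6⟩ := exists_fitting (k := k) (a * b + b * a)
  exact ⟨e, z', h1, h2, h3, h4, h5, h6⟩

theorem Fit.qe [Module.Finite k R] (h2 : (2 : k) ≠ 0) (h3 : Nat.card k ≠ 3) {H : Subgroup Rˣ} {a b e z' : R}
    (ha : QE k H a) (hb : QE k H b) (h : Fit k a b e z') {t : R} (ht : t ∈ Algebra.adjoin k {a * b + b * a}) :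
    QE k H (t * (e * a)) ∧ QE k H (t * (z' * b)) := by
  set z := a * b + b * a with hz
  have hzm : z ∈ Algebra.adjoin k {z} := Algebra.self_mem_adjoin_singleton k _
  have ae := comm_z_left ha.sq h.e_mem
  have be := comm_z_right hb.sq h.e_mem
  have ez := comm_adj h.e_mem h.z'_mem
  have ez0 := comm_adj h.e_mem hzm
  have ez' : e * z' = z' := ez.trans h.ze
  have mu := h.mu ha.sq hb.sq
  obtain ⟨L, _, _, _, ι, ζ, hinj, hζ, hgen⟩ := exists_comm_model (k := k) (z * e + (1 - e))
  have hmem : ∀ s, ι s ∈ Algebra.adjoin k {z} := by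
    intro s
    have : ι.range ≤ Algebra.adjoin k {z} := by
      rw [model_range ι hgen, hζ, Algebra.adjoin_le_iff, Set.singleton_subset_iff]
      exact add_mem (mul_mem hzm h.e_mem) (sub_mem (one_mem _) h.e_mem)
    exact this ⟨s, rfl⟩
  have hsurj : ∀ t ∈ Algebra.adjoin k {z}, ∃ s, ι s * e = t * e := by
    intro t ht
    induction ht using Algebra.adjoin_induction with
    | mem x hx =>
      rw [Set.mem_singleton_iff.1 hx]
      exact ⟨ζ, by rw [hζ]; simp [add_mul, sub_mul, mul_assoc, h.ee]⟩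
    | algebraMap c => exact ⟨algebraMap k L c, by rw [AlgHom.commutes]⟩
    | add x y _ _ hx hy =>
      obtain ⟨s, hs⟩ := hx; obtain ⟨s', hs'⟩ := hy
      exact ⟨s + s', by rw [map_add, add_mul, add_mul, hs, hs']⟩
    | mul x y _ hy' hx hy =>
      obtain ⟨s, hs⟩ := hx; obtain ⟨s', hs'⟩ := hy
      exact ⟨s * s', by rw [map_mul, mul_assoc, hs', ← comm_adj h.e_mem hy', ← mul_assoc, hs, mul_assoc, mul_assoc,
        comm_adj h.e_mem hy']⟩
  obtain ⟨ζ', hζ'⟩ : ∃ ζ', ζ * ζ' = 1 := by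
    have := IsArtinianRing.of_finite k L
    apply IsUnit.exists_right_inv
    rw [IsArtinianRing.isUnit_iff_mem_nonZeroDivisors, mem_nonZeroDivisors_iff_right]
    intro x hx
    apply hinj
    have e1 : (z * e + (1 - e)) * (z' + (1 - e)) = 1 := by
      simp only [mul_add, add_mul, mul_sub, sub_mul, mul_one, one_mul, mul_assoc, ez', h.ee]
      rw [h.zz]; abel
    rw [map_zero, ← mul_one (ι x), ← e1, ← mul_assoc, ← hζ, ← map_mul, hx, map_zero, zero_mul]
  obtain ⟨Φ, hΦ, hΦu, hΦl⟩ := mu.exists_hom' (ι : L →+* R)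
    (fun s => show e * a * ι s = ι s * (e * a) by
      rw [mul_assoc, comm_z_left ha.sq (hmem s), ← mul_assoc, comm_adj h.e_mem (hmem s), mul_assoc])
    (fun s => show z' * b * ι s = ι s * (z' * b) by
      rw [mul_assoc, comm_z_right hb.sq (hmem s), ← mul_assoc, comm_adj h.z'_mem (hmem s), mul_assoc])
    (show ι 1 * _ = _ by simp) (show ι 1 * _ = _ by simp)
  have hΦu' : ∀ s, (Φ (ru s) : R) = 1 + ι s * (e * a) := fun s => hΦu _ s rfl
  have hΦl' : ∀ s, (Φ (rl s) : R) = 1 + ι s * (z' * b) := fun s => hΦl _ s rfl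
  have ha0 : ((1 - e) * a) * ((1 - e) * a) = 0 := by
    simp only [mul_sub, sub_mul, mul_one, one_mul, mul_assoc, e3 ae, ha.sq, mul_zero, sub_zero]
  have hb0 : ((1 - e) * b) * ((1 - e) * b) = 0 := by
    simp only [mul_sub, sub_mul, mul_one, one_mul, mul_assoc, e3 be, hb.sq, mul_zero, sub_zero]
  let U₀ := fam k _ ha0 ⊔ fam k _ hb0
  obtain ⟨n, hn⟩ : ∃ n, U₀.lowerCentralSeries n = ⊥ := by
    obtain ⟨N, hN⟩ := h.nil
    apply Unip.lcs (k := k)
    apply unip_fam_sup (N := N + 1)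
    have : (1 - e) * a * ((1 - e) * b) + (1 - e) * b * ((1 - e) * a) = z * (1 - e) := by
      rw [mul_sub z, ← ez0]
      simp only [hz, mul_add, mul_sub, sub_mul, mul_one, one_mul, mul_assoc, e3 ae, e3 be, e3 h.ee]
      abel
    rw [this, Commute.mul_pow (show z * _ = _ * z from comm_adj hzm (sub_mem (one_mem _) h.e_mem)), pow_succ' z,
      pow_succ' (1 - e), mul_assoc, ← mul_assoc (z ^ N), mul_sub, mul_one, hN, sub_self, zero_mul, mul_zero]
  have hcomm : ∀ (u : U₀) (γ : SL2 L), Commute (U₀.subtype u) (Φ γ) := by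
    intro u γ
    have hγ : (Φ γ : R) * (1 - e) = 1 - e ∧ (1 - e) * (Φ γ : R) = 1 - e := by
      have c := fun s => comm_adj h.e_mem (hmem s)
      rw [hΦ]
      constructor
      · simp only [embFun, mul_add, add_mul, mul_sub, sub_mul, mul_one, one_mul, mul_assoc, ae, be, e3 ae, e3 be,
          e3 h.ee, e3 h.ze, e3 ez', h.ee]
        abel
      · have c' : ∀ s w, e * (((ι : L →+* R) : L →ₙ+* R) s * w) = ((ι : L →+* R) : L →ₙ+* R) s * (e * w) :=
          fun s w => by rw [← mul_assoc, ← mul_assoc]; exact congrArg (· * w) (c s)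
        simp only [embFun, mul_add, add_mul, mul_sub, sub_mul, mul_one, one_mul, mul_assoc, c', e3 h.ee, e3 ez', h.ee]
        abel
    have key : ∀ x : R, x * e = e * x → ∀ c : k, (1 + c • ((1 - e) * x)) * Φ γ = Φ γ * (1 + c • ((1 - e) * x)) := by
      intro x hx c
      have : (1 - e) * x = x * (1 - e) := by simp [mul_sub, sub_mul, hx]
      rw [add_mul, mul_add, one_mul, mul_one, smul_mul_assoc, mul_smul_comm, ← mul_assoc, hγ.1, this, mul_assoc, hγ.2]
    refine comm_sup (A := fam k _ ha0) (B := fam k _ hb0) ?_ ?_ _ u.2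
    · rintro g ⟨c, hc⟩; apply Units.ext; simp only [Units.val_mul, hc]; exact key a ae c
    · rintro g ⟨c, hc⟩; apply Units.ext; simp only [Units.val_mul, hc]; exact key b be c
  let Ψ : U₀ × SL2 L →* Rˣ := MonoidHom.noncommCoprod U₀.subtype Φ hcomm
  let P := H.comap Ψ
  have hgenΓ := gen_ring h2 h3 _ L rfl ζ ζ' hζ' hgen (P.map (MonoidHom.snd _ _))
    (fun c => ⟨(⟨un (c • ((1 - e) * a)) (by simp [ha0]), Subgroup.mem_sup_left ⟨c, rfl⟩⟩, ru (algebraMap k L c)), by
      apply InG.mem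
      convert ha.mem c using 1
      show (1 + c • ((1 - e) * a)) * (Φ (ru (algebraMap k L c)) : R) = _
      rw [hΦu', AlgHom.commutes, ← Algebra.smul_def]
      simp only [mul_add, add_mul, mul_sub, sub_mul, mul_one, one_mul, mul_assoc, smul_mul_assoc, mul_smul_comm,
        e3 ae, ha.sq, mul_zero, smul_sub]
      module, rfl⟩)
    (fun c => ⟨(⟨un (c • ((1 - e) * b)) (by simp [hb0]), Subgroup.mem_sup_right ⟨c, rfl⟩⟩,
        rl (algebraMap k L c * ζ)), by
      apply InG.mem
      convert hb.mem c using 1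
      show (1 + c • ((1 - e) * b)) * (Φ (rl (algebraMap k L c * ζ)) : R) = _
      have : (z * e + (1 - e)) * (z' * b) = e * b := by
        rw [← mul_assoc, add_mul, mul_assoc z, ez', h.zz, sub_mul, ez', one_mul, sub_self, add_zero]
      rw [hΦl', map_mul, AlgHom.commutes, hζ, mul_assoc, this, ← Algebra.smul_def]
      simp only [mul_add, add_mul, mul_sub, sub_mul, mul_one, one_mul, mul_assoc, smul_mul_assoc, mul_smul_comm,
        e3 be, hb.sq, mul_zero, smul_sub]
      module, rfl⟩)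
  obtain ⟨c, hc0, hc⟩ := exists_sq_ne_one h2 h3
  have hl := ru_mem_lcs (fun t => (hgenΓ t).1) (fun t => (hgenΓ t).2) (c := algebraMap k L c)
    (c' := algebraMap k L c⁻¹) (d := algebraMap k L (1 - c ^ 2)⁻¹)
    (by rw [← map_mul, mul_inv_cancel₀ hc0, map_one])
    (by rw [← map_pow, ← map_one (algebraMap k L), ← map_sub, ← map_mul, mul_inv_cancel₀ (sub_ne_zero.2 hc.symm)]) n
  rw [← Subgroup.map_lowerCentralSeries] at hl
  have hH : ∀ γ ∈ (P.lowerCentralSeries n).map (MonoidHom.snd _ _), Φ γ ∈ H := by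
    rintro _ ⟨⟨u, γ⟩, hp, rfl⟩
    have h1 : (u : Rˣ) ∈ (P.lowerCentralSeries n).map (U₀.subtype.comp (MonoidHom.fst _ _)) := ⟨_, hp, rfl⟩
    rw [Subgroup.map_lowerCentralSeries] at h1
    have h4 : (u : Rˣ) ∈ U₀.lowerCentralSeries n := Subgroup.lowerCentralSeries_mono n (show P.map (U₀.subtype.comp (MonoidHom.fst _ _)) ≤ U₀ by
      rintro _ ⟨x, -, rfl⟩; exact x.1.2) h1
    rw [hn, Subgroup.mem_bot] at h4
    have h5 : Ψ (u, γ) ∈ H := Subgroup.lowerCentralSeries_le_self P n hp
    simpa [Ψ, h4] using h5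
  obtain ⟨s, hs⟩ := hsurj t ht
  have ta := comm_z_left ha.sq ht
  have tb := comm_z_right hb.sq ht
  refine ⟨⟨?_, fun c => ⟨_, hH _ (hl (c • s)).1, ?_⟩⟩, ⟨?_, fun c => ⟨_, hH _ (hl (c • s)).2, ?_⟩⟩⟩
  · simp only [mul_assoc, e3 ta, e3 ae, ha.sq, mul_zero]
  · rw [hΦu', map_smul, smul_mul_assoc, ← mul_assoc, hs, mul_assoc]
  · simp only [mul_assoc, e3 tb, e3 (comm_z_right hb.sq h.z'_mem), hb.sq, mul_zero]
  · rw [hΦl', map_smul, smul_mul_assoc, ← ez', mul_assoc e, ← mul_assoc (ι s), hs, mul_assoc]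

end Cfsg.Agent.H90
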