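import Cfsg.Agent.H90.QP2

/-! Quadratic pairs: the subgroups `E(σ)`, opposite pairs. -/

set_option autoImplicit false

namespace Cfsg.Agent.H90
open Cfsg LinearMap

universe u

variable {k : Type u} [Field k] {M : Type*} [AddCommGroup M] [Module k M]
variable {G : Subgroup (M →ₗ[k] M)ˣ} {a b c f x y a' b' : M →ₗ[k] M}

/-- same kernel and image -/
structure Sim (a b : M →ₗ[k] M) : Prop where
  ker : ker a = ker b
  range : range a = range b

theorem Sim.refl (a : M →ₗ[k] M) : Sim a a := ⟨rfl, rfl⟩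
theorem Sim.symm (h : Sim a b) : Sim b a := ⟨h.1.symm, h.2.symm⟩
theorem Sim.trans (h : Sim a b) (h' : Sim b c) : Sim a c := ⟨h.1.trans h'.1, h.2.trans h'.2⟩
theorem Sim.left (h : Sim a a') (e : a * x = 0) : a' * x = 0 := by
  rw [mul_eq_zero_iff_le] at e ⊢; rwa [← h.1]
theorem Sim.right (h : Sim a a') (e : x * a = 0) : x * a' = 0 := by
  rw [mul_eq_zero_iff_le] at e ⊢; rwa [← h.2]
theorem sim_neg (a : M →ₗ[k] M) : Sim (-a) a := ⟨ker_neg a, range_neg a⟩

/-- the space `E(1 + a) - 1` -/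
structure InE (G : Subgroup (M →ₗ[k] M)ˣ) (a x : M →ₗ[k] M) : Prop where
  qe : QE k G x
  ker : ker a ≤ ker x
  range : range x ≤ range a

theorem InE.left (h : InE G a x) (e : a * y = 0) : x * y = 0 := by
  rw [mul_eq_zero_iff_le] at e ⊢; exact e.trans h.ker
theorem InE.right (h : InE G a x) (e : y * a = 0) : y * x = 0 := by
  rw [mul_eq_zero_iff_le] at e ⊢; exact h.range.trans e
theorem InE.mul (ha : a * a = 0) (h : InE G a x) (h' : InE G a y) : x * y = 0 := h.left (h'.right ha)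
theorem InE.zero : InE G a 0 := ⟨QE.zero, by simp, by simp⟩
theorem InE.self (ha : QE k G a) : InE G a a := ⟨ha, le_rfl, le_rfl⟩
theorem InE.add (ha : a * a = 0) (h : InE G a x) (h' : InE G a y) : InE G a (x + y) :=
  ⟨h.qe.add h'.qe (h.mul ha h') (h'.mul ha h), fun m hm => by
    have h1 := h.ker hm; have h2 := h'.ker hm
    rw [mem_ker] at *; rw [LinearMap.add_apply, h1, h2, add_zero],
    by rintro _ ⟨m, rfl⟩; exact add_mem (h.range ⟨m, rfl⟩) (h'.range ⟨m, rfl⟩)⟩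
theorem InE.smul (h : InE G a x) (c : k) : InE G a (c • x) :=
  ⟨h.qe.smul c, h.ker.trans (ker_le_ker_smul x c), (range_smul_le_range x c).trans h.range⟩
theorem InE.neg (h : InE G a x) : InE G a (-x) := by simpa using h.smul (-1)
theorem InE.congr (h : InE G a x) (s : Sim a b) : InE G b x := ⟨h.qe, s.1 ▸ h.ker, s.2 ▸ h.range⟩
theorem Sim.inE (s : Sim x a) (hx : QE k G x) : InE G a x := (InE.self hx).congr s
theorem InE.of_mul (hx : QE k G x) {p q : M →ₗ[k] M} (h1 : x = p * a) (h2 : x = a * q) : InE G a x :=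
  ⟨hx, h1 ▸ ker_le_ker_mul p a, h2 ▸ range_mul_le a q⟩

theorem InE.conj' (h : InE G a c) (hx : InG G x) (e : x * y = 1) (e' : y * x = 1) : InE G (x * a * y) (x * c * y) := by
  refine ⟨h.qe.conj' hx e, fun m hm => ?_, ?_⟩
  · rw [mem_ker] at hm ⊢
    have h1 : a (y m) = 0 := by
      have := congrArg y hm
      rwa [map_zero, ← Module.End.mul_apply, ← mul_assoc, ← mul_assoc, e', one_mul] at this
    have h2 : c (y m) = 0 := h.ker h1
    simp [h2]
  · rintro _ ⟨m, rfl⟩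
    obtain ⟨m', hm'⟩ := h.range ⟨y m, rfl⟩
    refine ⟨x m', ?_⟩
    rw [← Module.End.mul_apply, mul_assoc, e', mul_one, Module.End.mul_apply, hm']; rfl

/-- the subgroup `E(1 + a)` -/
def EE (G : Subgroup (M →ₗ[k] M)ˣ) (a : M →ₗ[k] M) (ha : a * a = 0) : Subgroup (M →ₗ[k] M)ˣ where
  carrier := {g | InE G a ((g : M →ₗ[k] M) - 1)}
  one_mem' := by simpa using InE.zero
  mul_mem' := fun {g h} hg hh => by
    have h1 := InE.mul ha hg hh
    have : ((g * h : (M →ₗ[k] M)ˣ) : M →ₗ[k] M) - 1 = ((g : M →ₗ[k] M) - 1) + ((h : M →ₗ[k] M) - 1) := by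
      rw [Units.val_mul]; linear_combination (norm := noncomm_ring) h1
    show InE G a _
    rw [this]; exact InE.add ha hg hh
  inv_mem' := fun {g} hg => by
    have h1 := InE.mul ha hg hg
    have : ((g⁻¹ : (M →ₗ[k] M)ˣ) : M →ₗ[k] M) = 1 - ((g : M →ₗ[k] M) - 1) :=
      Units.inv_eq_of_mul_eq_one_right (by linear_combination (norm := noncomm_ring) -h1)
    show InE G a _
    rw [this, sub_sub_cancel_left]; exact InE.neg hg

theorem mem_EE {ha : a * a = 0} {g : (M →ₗ[k] M)ˣ} : g ∈ EE G a ha ↔ InE G a ((g : M →ₗ[k] M) - 1) := Iff.rfl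

theorem InE.un_mem {ha : a * a = 0} (h : InE G a x) : un x h.qe.sq ∈ EE G a ha := by
  rw [mem_EE, un_val, add_sub_cancel_left]; exact h

theorem exists_of_mem_EE {ha : a * a = 0} {g : (M →ₗ[k] M)ˣ} (h : g ∈ EE G a ha) :
    ∃ (x : M →ₗ[k] M) (hx : InE G a x), g = un x hx.qe.sq := ⟨_, h, Units.ext (by simp)⟩

theorem un_eq_one {R : Type*} [Ring R] {x : R} {h : x * x = 0} : un x h = 1 ↔ x = 0 := by
  rw [← Units.val_inj, un_val, Units.val_one, add_eq_left]

theorem EE_le {ha : a * a = 0} : EE G a ha ≤ G := fun g hg => InG.mem (by simpa using hg.qe.one_add)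

theorem EE_cm {ha : a * a = 0} : Cm (EE G a ha) (EE G a ha) := by
  intro g hg h hh
  obtain ⟨x, hx, rfl⟩ := exists_of_mem_EE hg
  obtain ⟨y, hy, rfl⟩ := exists_of_mem_EE hh
  apply Units.ext
  simp [mul_add, add_mul, hx.mul ha hy, hy.mul ha hx]; abel

theorem EE_congr {ha : a * a = 0} {hb : b * b = 0} (s : Sim a b) : EE G a ha = EE G b hb :=
  Subgroup.ext fun _ => ⟨fun h => InE.congr h s, fun h => InE.congr h s.symm⟩

theorem conj_sq {g : (M →ₗ[k] M)ˣ} (ha : a * a = 0) :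
    ((g⁻¹ : (M →ₗ[k] M)ˣ) * a * g) * ((g⁻¹ : (M →ₗ[k] M)ˣ) * a * g) = 0 := by
  simp only [mul_assoc, Units.mul_inv_cancel_left, z3 ha, mul_zero]

theorem EE_rc {ha : a * a = 0} {g : (M →ₗ[k] M)ˣ} (hg : g ∈ G) :
    EE G a ha ^~ g = EE G ((g⁻¹ : (M →ₗ[k] M)ˣ) * a * g) (conj_sq ha) := by
  ext h
  rw [mem_rc, mem_EE, mem_EE]
  constructor
  · intro h1
    convert h1.conj' (InG.of_mem (G.inv_mem hg)) g.inv_mul g.mul_inv using 1
    simp [mul_sub, sub_mul, mul_assoc]
  · intro h1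
    convert h1.conj' (InG.of_mem hg) g.mul_inv g.inv_mul using 1
    · simp [mul_assoc]
    · simp [mul_sub, sub_mul, mul_assoc]

theorem mem_fixedSubmodule {H : Subgroup (GeneralLinearGroup k M)} {m : M} :
    m ∈ fixedSubmodule H ↔ ∀ g ∈ H, (g : M →ₗ[k] M) m = m := by
  simp [fixedSubmodule, sub_eq_zero]

theorem commutatorSubmodule_le {H : Subgroup (GeneralLinearGroup k M)} {W : Submodule k M} :
    commutatorSubmodule H ≤ W ↔ ∀ g ∈ H, range ((g : M →ₗ[k] M) - 1) ≤ W := by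
  simp [commutatorSubmodule]

theorem fixedSubmodule_sup (H K : Subgroup (GeneralLinearGroup k M)) :
    fixedSubmodule (H ⊔ K) = fixedSubmodule H ⊓ fixedSubmodule K := by
  ext m
  simp only [Submodule.mem_inf, mem_fixedSubmodule]
  refine ⟨fun h => ⟨fun g hg => h g (Subgroup.mem_sup_left hg), fun g hg => h g (Subgroup.mem_sup_right hg)⟩,
    fun h => ?_⟩
  have : H ⊔ K ≤ MulAction.stabilizer (GeneralLinearGroup k M) m := sup_le h.1 h.2
  exact fun g hg => this hg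

theorem commutatorSubmodule_sup (H K : Subgroup (GeneralLinearGroup k M)) :
    commutatorSubmodule (H ⊔ K) = commutatorSubmodule H ⊔ commutatorSubmodule K := by
  refine le_antisymm ?_ (sup_le (biSup_mono fun g hg => Subgroup.mem_sup_left hg)
    (biSup_mono fun g hg => Subgroup.mem_sup_right hg))
  set W := commutatorSubmodule H ⊔ commutatorSubmodule K
  let S : Subgroup (GeneralLinearGroup k M) :=
    { carrier := {g | ∀ m, (g : M →ₗ[k] M) m - m ∈ W}
      one_mem' := fun m => by simp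
      mul_mem' := fun {g h} hg hh m => by
        have := add_mem (hg ((h : M →ₗ[k] M) m)) (hh m)
        simpa using this
      inv_mem' := fun {g} hg m => by
        have := neg_mem (hg (((g⁻¹ : GeneralLinearGroup k M) : M →ₗ[k] M) m))
        rwa [← Module.End.mul_apply, Units.mul_inv, neg_sub] at this }
  have : H ⊔ K ≤ S := sup_le
    (fun g hg m => (commutatorSubmodule_le.1 (le_sup_left : _ ≤ W)) g hg ⟨m, rfl⟩)
    (fun g hg m => (commutatorSubmodule_le.1 (le_sup_right : _ ≤ W)) g hg ⟨m, rfl⟩)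
  rw [commutatorSubmodule_le]
  rintro g hg _ ⟨m, rfl⟩
  exact this hg m

theorem fixedSubmodule_EE (ha : QE k G a) : fixedSubmodule (EE G a ha.sq) = ker a := by
  ext m
  rw [mem_fixedSubmodule]
  refine ⟨fun h => by simpa using h _ (InE.self ha).un_mem, fun h g hg => ?_⟩
  simpa [sub_eq_zero] using hg.ker h

theorem commutatorSubmodule_EE (ha : QE k G a) : commutatorSubmodule (EE G a ha.sq) = range a := by
  refine le_antisymm (commutatorSubmodule_le.2 fun g hg => hg.range) ?_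
  have := commutatorSubmodule_le.1 (le_refl (commutatorSubmodule (EE G a ha.sq))) _ (InE.self ha).un_mem
  simpa using this

variable [FiniteDimensional k M]

theorem InE.qd (ha : QD G a) (h : InE G a x) (h0 : x ≠ 0) : QD G x := ha.of_le h.qe h0 (rk_le_of_range h.range)
theorem InE.sim (ha : QD G a) (h : InE G a x) (h0 : x ≠ 0) : Sim x a :=
  ⟨(ha.ker_eq h.qe h0 h.ker).symm, ha.range_eq h.qe h0 h.range⟩

theorem sim_of_EE_eq (ha : QD G a) (hb : QD G b) (e : EE G a ha.sq = EE G b hb.sq) : Sim a b := by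
  have := (InE.self ha.qe).un_mem (ha := ha.sq)
  rw [e, mem_EE, un_val, add_sub_cancel_left] at this
  exact this.sim hb ha.ne

theorem sameActionSubgroup_eq {σ : GeneralLinearGroup k M} (h : QD G ((σ : M →ₗ[k] M) - 1)) :
    sameActionSubgroup G σ = EE G _ h.sq := by
  apply le_antisymm
  · rw [sameActionSubgroup, Subgroup.closure_le]
    rintro τ ⟨h1, h2, h3⟩
    exact Sim.inE ⟨h2, h3⟩ (mem_minimal.1 h1).qe
  · intro g hg
    by_cases h0 : (g : M →ₗ[k] M) - 1 = 0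
    · rw [show g = 1 from Units.ext (sub_eq_zero.1 h0)]; exact Subgroup.one_mem _
    · exact Subgroup.subset_closure ⟨mem_minimal.2 (InE.qd h hg h0), (InE.sim h hg h0).1, (InE.sim h hg h0).2⟩

theorem mem_Sigma {A : Subgroup (GeneralLinearGroup k M)} :
    A ∈ quadraticRootSubgroups G ↔ ∃ (a : M →ₗ[k] M) (ha : QD G a), A = EE G a ha.sq := by
  constructor
  · rintro ⟨σ, hσ, rfl⟩
    exact ⟨_, mem_minimal.1 hσ, sameActionSubgroup_eq (mem_minimal.1 hσ)⟩
  · rintro ⟨a, ha, rfl⟩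
    have h : QD G ((un a ha.sq : M →ₗ[k] M) - 1) := by simpa using ha
    exact ⟨un a ha.sq, mem_minimal.2 h, by rw [sameActionSubgroup_eq h]; exact EE_congr (by simpa using Sim.refl a)⟩

theorem QD.EE_mem (ha : QD G a) : EE G a ha.sq ∈ quadraticRootSubgroups G := mem_Sigma.2 ⟨a, ha, rfl⟩

theorem Sigma_le {A : Subgroup (GeneralLinearGroup k M)} (h : A ∈ quadraticRootSubgroups G) : A ≤ G := by
  obtain ⟨a, ha, rfl⟩ := mem_Sigma.1 h; exact EE_le

theorem Sigma_rc {A : Subgroup (GeneralLinearGroup k M)} (h : A ∈ quadraticRootSubgroups G)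
    {g : GeneralLinearGroup k M} (hg : g ∈ G) : A ^~ g ∈ quadraticRootSubgroups G := by
  obtain ⟨a, ha, rfl⟩ := mem_Sigma.1 h
  rw [EE_rc hg]
  exact (ha.conj' (InG.of_mem (G.inv_mem hg)) g.inv_mul).EE_mem

theorem nil_transfer (h2 : (2 : k) ≠ 0) (ha : QD G a) (hb : QD G b) (h : a * b * a = 0) (hx : InE G a x)
    (hy : InE G b y) : x * y * x = 0 ∧ y * x * y = 0 := by
  by_cases h0 : x = 0
  · simp [h0]
  have h1 : x * b * x = 0 := by rw [mul_assoc]; exact hx.left (by rw [← mul_assoc]; exact hx.right h)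
  have h3 : b * x * b = 0 := hb.L1 h2 hx.qe h1
  have h4 : y * x * y = 0 := by rw [mul_assoc]; exact hy.left (by rw [← mul_assoc]; exact hy.right h3)
  exact ⟨(hx.qd ha h0).L1 h2 hy.qe h4, h4⟩

theorem z_pow_mul {R : Type*} [Ring R] {a b : R} (ha : a * a = 0) (n : ℕ) :
    (a * b + b * a) ^ n * a = (a * b) ^ n * a := by
  induction n with
  | zero => simp
  | succ n ih =>
    rw [pow_succ', mul_assoc, ih, add_mul, pow_succ', mul_assoc (a * b), mul_pow_mul, mul_assoc b a, z3 ha, mul_zero,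
      add_zero]

theorem Fit.ne_zero (h2 : (2 : k) ≠ 0) {e z' : M →ₗ[k] M} (ha : QD G a) (hb : QE k G b) (h : Fit k a b e z')
    (hn : a * b * a ≠ 0) : e ≠ 0 := by
  rintro rfl
  obtain ⟨N, hN⟩ := h.nil
  apply hn
  apply ha.L2 h2 N b hb
  rw [← z_pow_mul ha.sq, ← hN]; simp

theorem Fit.left (h2 : (2 : k) ≠ 0) (h3 : Nat.card k ≠ 3) {e z' : M →ₗ[k] M} (ha : QD G a) (hb : QE k G b)
    (h : Fit k a b e z') (he : e ≠ 0) : e * a = a := by
  have ae := comm_z_left ha.sq h.e_mem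
  have be := comm_z_right hb.sq h.e_mem
  have h1 : QE k G (e * a) := by simpa using (h.qe h2 h3 ha.qe hb (one_mem _)).1
  rcases ha.cancel h1 (y := 1 - e) (by rw [mul_sub, mul_assoc e a e, ae, ← mul_assoc, h.ee]; simp) with h4 | h4
  · exfalso
    apply he
    calc e = e * ((a * b + b * a) * z') := by rw [h.zz, h.ee]
      _ = 0 := by simp only [mul_add, add_mul, mul_assoc, e3 be.symm, z3 h4, mul_zero, add_zero]
  · rw [mul_sub, mul_one, ae, sub_eq_zero] at h4; exact h4.symm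

theorem Fit.symm {R : Type*} [Ring R] [Algebra k R] {a b e z' : R} (h : Fit k a b e z') : Fit k b a e z' := by
  obtain ⟨h1, h2, h3, h4, h5, h6⟩ := h
  rw [add_comm] at h1 h2 h4 h6
  exact ⟨h1, h2, h3, h4, h5, h6⟩

theorem QD.exists_mu (h2 : (2 : k) ≠ 0) (h3 : Nat.card k ≠ 3) (ha : QD G a) (hb : QD G b) (hn : a * b * a ≠ 0) :
    ∃ f, InE G b f ∧ MU a f := by
  obtain ⟨e, z', h⟩ := fit_exists (k := k) a b
  have he := h.ne_zero h2 ha hb.qe hn
  have mu := h.mu ha.sq hb.sq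
  rw [h.left h2 h3 ha hb.qe he] at mu
  exact ⟨_, InE.of_mul (by simpa using (h.qe h2 h3 ha.qe hb.qe (one_mem _)).2) rfl
    (comm_z_right hb.sq h.z'_mem).symm, mu⟩

theorem MU.ne {R : Type*} [Ring R] {a f : R} (h : MU a f) (ha : a ≠ 0) : f ≠ 0 := by
  rintro rfl; exact ha (by simpa using h.efe.symm)

theorem MU.EE_rel (ha : QE k G a) (hf : QE k G f) (h : MU a f) :
    EE G a ha.sq ^~ un f hf.sq = EE G f hf.sq ^~ un a ha.sq := by
  rw [EE_rc hf.un_mem, EE_rc ha.un_mem]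
  apply EE_congr
  refine Sim.trans ?_ (sim_neg _)
  have : (1 - f) * a * (1 + f) = -((1 - a) * f * (1 + a)) := by
    simp only [mul_add, mul_sub, sub_mul, mul_one, one_mul, h.efe, h.fef]; abel
  simp only [un_inv, un_val, this]
  exact Sim.refl _

theorem QD.partner (h2 : (2 : k) ≠ 0) (h3 : Nat.card k ≠ 3) (ha : QD G a) (hb : QD G b) (hn : a * b * a ≠ 0)
    (hx : InE G a x) (h0 : x ≠ 0) : ∃ y, InE G b y ∧ MU x y := by
  refine (hx.qd ha h0).exists_mu h2 h3 hb fun h => hn ?_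
  exact (nil_transfer h2 (hx.qd ha h0) hb h ((hx.sim ha h0).symm.inE ha.qe) (InE.self hb.qe)).1

theorem QD.rel (ha : QD G a) (hb : QD G b) (hx : InE G a x) (hy : InE G b y) (h0 : x ≠ 0) (h : MU x y) :
    EE G a ha.sq ^~ un y hy.qe.sq = EE G b hb.sq ^~ un x hx.qe.sq := by
  rw [← EE_congr (ha := hx.qe.sq) (hx.sim ha h0), ← EE_congr (ha := hy.qe.sq) (hy.sim hb (h.ne h0))]
  exact h.EE_rel hx.qe hy.qe

theorem QD.r1 (h2 : (2 : k) ≠ 0) (h3 : Nat.card k ≠ 3) (ha : QD G a) (hb : QD G b) (hn : a * b * a ≠ 0) :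
    IsRankOnePair (EE G a ha.sq) (EE G b hb.sq) := by
  have key : ∀ {a b} (ha : QD G a) (hb : QD G b), a * b * a ≠ 0 → RankOneCondition (EE G a ha.sq) (EE G b hb.sq) := by
    intro a b ha hb hn g hg hg1
    obtain ⟨x, hx, rfl⟩ := exists_of_mem_EE hg
    have h0 : x ≠ 0 := fun h => hg1 (un_eq_one.2 h)
    obtain ⟨y, hy, h⟩ := ha.partner h2 h3 hb hn hx h0
    exact ⟨_, hy.un_mem, fun e => h.ne h0 (un_eq_one.1 e), ha.rel hb hx hy h0 h⟩
  refine ⟨fun e => hn ?_, nilp_of_cm EE_cm, nilp_of_cm EE_cm, key ha hb hn,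
    key hb ha fun h => hn (ha.L1 h2 hb.qe h)⟩
  rw [(sim_of_EE_eq ha hb e).right ha.sq, zero_mul]

theorem QD.sp (h2 : (2 : k) ≠ 0) (h3 : Nat.card k ≠ 3) (ha : QD G a) (hb : QD G b) (hn : a * b * a ≠ 0) :
    IsSpecialRankOnePair (EE G a ha.sq) (EE G b hb.sq) := by
  have hr := ha.r1 h2 h3 hb hn
  apply sp_of_inv hr
  intro g hg g' hg' e
  obtain ⟨x, hx, rfl⟩ := exists_of_mem_EE hg
  have h0 : x ≠ 0 := fun h => r1_partner_ne_one' hr hg' e (un_eq_one.2 h)
  obtain ⟨y, hy, h⟩ := ha.partner h2 h3 hb hn hx h0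
  rw [r1_uniq (r1_symm hr) hg' hy.un_mem (e.trans (ha.rel hb hx hy h0 h).symm)]
  have := ha.rel hb hx.neg hy.neg (neg_ne_zero.2 h0) ⟨by simp [h.ee], by simp [h.ff], by simp [h.efe], by simp [h.fef]⟩
  convert this using 2 <;> exact Units.ext (by simp [sub_eq_add_neg])

theorem nn_EE_mem {ha : a * a = 0} (hx : x ∈ nn k (EE G a ha)) : InE G a x := by
  induction hx using Submodule.span_induction with
  | mem x hx => obtain ⟨g, hg, rfl⟩ := hx; exact hg
  | zero => exact InE.zero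
  | add x y _ _ hx hy => exact hx.add ha hy
  | smul c x _ hx => exact hx.smul c

theorem QD.unip (h2 : (2 : k) ≠ 0) (ha : QD G a) (hb : QD G b) (h : a * b * a = 0) :
    Unip k (EE G a ha.sq ⊔ EE G b hb.sq) := by
  refine unip_sup_of_pow (A := nn k (EE G a ha.sq) ⊔ nn k (EE G b hb.sq)) (n := 3) ?_ le_sup_left le_sup_right
  have h' := hb.L1 h2 ha.qe h
  rw [eq_bot_iff, pow_three', Submodule.mul_le]
  intro w hw z hz
  refine Submodule.mul_induction_on hw (C := fun w => w * z ∈ ⊥) ?_ fun x y hx hy => by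
    rw [add_mul]; exact add_mem hx hy
  intro x hx y hy
  obtain ⟨x1, hx1, x2, hx2, rfl⟩ := Submodule.mem_sup.1 hx
  obtain ⟨y1, hy1, y2, hy2, rfl⟩ := Submodule.mem_sup.1 hy
  obtain ⟨z1, hz1, z2, hz2, rfl⟩ := Submodule.mem_sup.1 hz
  replace hx1 := nn_EE_mem hx1
  replace hx2 := nn_EE_mem hx2
  replace hy1 := nn_EE_mem hy1
  replace hy2 := nn_EE_mem hy2
  replace hz1 := nn_EE_mem hz1
  replace hz2 := nn_EE_mem hz2
  have e1 : x1 * y2 * z1 = 0 := by
    have := (nil_transfer h2 ha hb h (InE.self ha.qe) hy2).1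
    rw [mul_assoc]; exact hx1.left (by rw [← mul_assoc]; exact hz1.right this)
  have e2 : x2 * y1 * z2 = 0 := by
    have := (nil_transfer h2 hb ha h' (InE.self hb.qe) hy1).1
    rw [mul_assoc]; exact hx2.left (by rw [← mul_assoc]; exact hz2.right this)
  simp only [mul_add, add_mul, e1, e2, hx1.mul ha.sq hy1, hx2.mul hb.sq hy2, zero_mul, mul_assoc,
    hy1.mul ha.sq hz1, hy2.mul hb.sq hz2, mul_zero, add_zero, z4' e1, z4' e2, Submodule.zero_mem]

theorem QD.nil_of_nilpotent (h2 : (2 : k) ≠ 0) (h3 : Nat.card k ≠ 3) (ha : QD G a) (hb : QD G b)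
    (h : Group.IsNilpotent ↥(EE G a ha.sq ⊔ EE G b hb.sq)) : a * b * a = 0 := by
  by_contra hn
  exact r1_not_nilpotent (ha.r1 h2 h3 hb hn) le_sup_left le_sup_right h

theorem QD.not_nil_of_r1 (h2 : (2 : k) ≠ 0) (ha : QD G a) (hb : QD G b)
    (h : IsRankOnePair (EE G a ha.sq) (EE G b hb.sq)) : a * b * a ≠ 0 := fun hn =>
  r1_not_nilpotent h le_sup_left le_sup_right (ha.unip h2 hb hn).nilpotent

end Cfsg.Agent.H90
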