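import Cfsg.Agent.H90.QP3

/-! Quadratic pairs: nilpotent pairs. -/

set_option autoImplicit false

namespace Cfsg.Agent.H90
open Cfsg LinearMap

universe u

variable {k : Type u} [Field k] {M : Type*} [AddCommGroup M] [Module k M] [FiniteDimensional k M]
variable {G : Subgroup (M →ₗ[k] M)ˣ} {a b c f x y a' b' : M →ₗ[k] M}

theorem rk_add_le (a b : M →ₗ[k] M) : rk (a + b) ≤ rk a + rk b := by
  refine le_trans (Submodule.finrank_mono (?_ : range (a + b) ≤ range a ⊔ range b))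
    (Submodule.finrank_add_le_finrank_add_finrank _ _)
  rintro _ ⟨m, rfl⟩
  exact Submodule.add_mem_sup ⟨m, rfl⟩ ⟨m, rfl⟩

theorem QD.L4 (h2 : (2 : k) ≠ 0) (ha : QD G a) (hb : QD G b) (h : a * b * a = 0) (hc : a * b - b * a ≠ 0) :
    QD G (a * b - b * a) ∧ range (a * b) = range a ⊓ ker b ∧ range (b * a) = range b ⊓ ker a ∧
      range (a * b - b * a) = range (a * b) ⊔ range (b * a) ∧ Disjoint (range (a * b)) (range (b * a)) := by
  have h' := hb.L1 h2 ha.qe h
  have hq := (QE.nil h2 ha.qe hb.qe h').2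
  have l1 : range (a * b) ≤ range a ⊓ ker b :=
    le_inf (range_mul_le a b) (mul_eq_zero_iff_le.1 (by rw [← mul_assoc, h']))
  have l2 : range (b * a) ≤ range b ⊓ ker a :=
    le_inf (range_mul_le b a) (mul_eq_zero_iff_le.1 (by rw [← mul_assoc, h]))
  have l3 : range (a * b - b * a) ≤ range (a * b) ⊔ range (b * a) := by
    rintro _ ⟨m, rfl⟩
    exact sub_mem (Submodule.mem_sup_left ⟨m, rfl⟩) (Submodule.mem_sup_right ⟨m, rfl⟩)
  have d1 := Submodule.finrank_mono l1
  have d2 := Submodule.finrank_mono l2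
  have d3 := Submodule.finrank_mono l3
  have d4 := Submodule.finrank_sup_add_finrank_inf_eq (range (a * b)) (range (b * a))
  have d5 := rk_mul_add a b
  have d6 := rk_mul_add b a
  have d7 := ha.min _ hq hc
  have d8 := ha.rk_eq hb
  unfold rk at *
  refine ⟨ha.of_le hq hc (by unfold rk; omega), Submodule.eq_of_le_of_finrank_le l1 (by omega),
    Submodule.eq_of_le_of_finrank_le l2 (by omega), Submodule.eq_of_le_of_finrank_le l3 (by omega), ?_⟩
  rw [disjoint_iff, ← Submodule.finrank_eq_zero]; omega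

theorem ker_mul_eq (hb : a * b * a = 0) (h : range (b * a) = range b ⊓ ker a) : ker (a * b) = range a ⊔ ker b := by
  apply le_antisymm
  · intro m hm
    obtain ⟨m', hm'⟩ : b m ∈ range (b * a) := h ▸ ⟨⟨m, rfl⟩, hm⟩
    rw [← add_sub_cancel (a m') m]
    refine Submodule.add_mem_sup ⟨m', rfl⟩ ?_
    rw [mem_ker, map_sub, ← hm']; simp
  · exact sup_le (mul_eq_zero_iff_le.1 hb) (ker_le_ker_mul a b)

theorem QD.L4ker (h2 : (2 : k) ≠ 0) (ha : QD G a) (hb : QD G b) (h : a * b * a = 0) (hc : a * b - b * a ≠ 0) :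
    ker (a * b - b * a) = (range a ⊔ ker b) ⊓ (range b ⊔ ker a) := by
  obtain ⟨-, h3, h4, -, h5⟩ := ha.L4 h2 hb h hc
  rw [← ker_mul_eq h h4, ← ker_mul_eq (hb.L1 h2 ha.qe h) h3]
  ext m
  simp only [Submodule.mem_inf, mem_ker, LinearMap.sub_apply, sub_eq_zero]
  refine ⟨fun e => ?_, fun e => e.1.trans e.2.symm⟩
  have := Submodule.disjoint_def.1 h5 ((a * b) m) ⟨m, rfl⟩ ⟨m, e.symm⟩
  exact ⟨this, e ▸ this⟩

theorem QD.noncomm_left (h2 : (2 : k) ≠ 0) (ha : QD G a) (hb : QD G b) (h : a * b * a = 0)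
    (hc : a * b - b * a ≠ 0) (hx : InE G a x) (h0 : x ≠ 0) : x * b - b * x ≠ 0 := by
  intro e
  have h' := hb.L1 h2 ha.qe h
  have s := hx.sim ha h0
  have h1 := (s.symm.inE ha.qe).conj' hb.qe.one_add (un b hb.sq).mul_inv (un b hb.sq).inv_mul
  have e1 : (1 + b) * x * ((un b hb.sq)⁻¹ : (M →ₗ[k] M)ˣ) = x := by
    have := (nil_transfer h2 ha hb h hx (InE.self hb.qe)).2
    rw [un_inv]; linear_combination (norm := noncomm_ring) -e - this
  have e2 : (1 + b) * a * ((un b hb.sq)⁻¹ : (M →ₗ[k] M)ˣ) = a + -(a * b - b * a) := by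
    rw [un_inv]; linear_combination (norm := noncomm_ring) -h'
  rw [e1, e2] at h1
  have h3 : InE G a (a * b - b * a) := by
    simpa using (((h1.congr s).add ha.sq (InE.self ha.qe).neg)).neg
  have s2 := h3.sim ha hc
  apply hc
  rw [s2.left (x := b) (by simp [sub_mul, mul_assoc, hb.sq, z4' h']),
    s2.right (x := b) (by simp [mul_sub, z3 hb.sq, z4' h']), sub_zero]

theorem QD.noncomm (h2 : (2 : k) ≠ 0) (ha : QD G a) (hb : QD G b) (h : a * b * a = 0)
    (hc : a * b - b * a ≠ 0) (hx : InE G a x) (h0 : x ≠ 0) (hy : InE G b y) (h1 : y ≠ 0) : x * y - y * x ≠ 0 := by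
  have h3 := ha.noncomm_left h2 hb h hc hx h0
  have h4 := hb.noncomm_left h2 (hx.qd ha h0) (nil_transfer h2 ha hb h hx (InE.self hb.qe)).2
    (by rw [← neg_sub]; exact neg_ne_zero.2 h3) hy h1
  rw [← neg_sub]; exact neg_ne_zero.2 h4

theorem QD.comm_inE (h2 : (2 : k) ≠ 0) (ha : QD G a) (hb : QD G b) (h : a * b * a = 0)
    (hc : a * b - b * a ≠ 0) (hx : InE G a x) (hy : InE G b y) : InE G (a * b - b * a) (x * y - y * x) := by
  by_cases h0 : x = 0
  · simpa [h0] using InE.zero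
  by_cases h1 : y = 0
  · simpa [h1] using InE.zero
  have hx' := hx.qd ha h0
  have hy' := hy.qd hb h1
  have sx := hx.sim ha h0
  have sy := hy.sim hb h1
  have hn := (nil_transfer h2 ha hb h hx hy).1
  have hc' := ha.noncomm h2 hb h hc hx h0 hy h1
  obtain ⟨q1, r1, r2, r3, -⟩ := hx'.L4 h2 hy' hn hc'
  obtain ⟨-, r4, r5, r6, -⟩ := ha.L4 h2 hb h hc
  refine Sim.inE ⟨?_, ?_⟩ q1.qe
  · rw [hx'.L4ker h2 hy' hn hc', ha.L4ker h2 hb h hc, sx.1, sx.2, sy.1, sy.2]
  · rw [r3, r6, r1, r2, r4, r5, sx.1, sx.2, sy.1, sy.2]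

theorem un_comm {R : Type*} [Ring R] {x y : R} (hx : x * x = 0) (hy : y * y = 0) (h1 : x * y * x = 0)
    (h2 : y * x * y = 0) : ((un x hx * un y hy * (un x hx)⁻¹ * (un y hy)⁻¹ : Rˣ) : R) = 1 + (x * y - y * x) := by
  simp only [Units.val_mul, un_val, un_inv, mul_add, add_mul, mul_sub, sub_mul, mul_one, one_mul, mul_assoc, hx, hy,
    z3 hx, z4' h1, z4' h2, z4 h1, mul_zero, zero_mul]
  abel

/-- no non-trivial unipotent normal subgroup -/
def NoUnip (k : Type u) [Field k] {R : Type*} [Ring R] [Algebra k R] (G : Subgroup Rˣ) : Prop :=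
  ∀ N ≤ G, Unip k N → (∀ g ∈ G, N ^~ g = N) → N = ⊥

omit [FiniteDimensional k M] in
theorem noUnip_of_irr (h : IsIrreducibleFor G) : NoUnip k G := fun _ _ h1 h2 => unip_normal_eq_bot h h1 h2

theorem NoUnip.normal {R : Type*} [Ring R] [Algebra k R] [Module.Finite k R] {G H : Subgroup Rˣ} (h : NoUnip k G)
    (hle : H ≤ G) (hn : ∀ g ∈ G, H ^~ g = H) : NoUnip k H := by
  intro N hN hu hN'
  let W := {A | ∃ g ∈ G, A = N ^~ g}
  have hc : ∀ A ∈ W, ∀ g ∈ G, A ^~ g ∈ W := by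
    rintro _ ⟨g, hg, rfl⟩ g' hg'; exact ⟨g * g', G.mul_mem hg hg', rc_rc _ _ _⟩
  have hWG : ∀ A ∈ W, A ≤ G := by rintro _ ⟨g, hg, rfl⟩; exact rc_le_of_mem (hN.trans hle) hg
  have hu' : ∀ g : Rˣ, Unip k (N ^~ g) := by
    intro g
    obtain ⟨n, hn⟩ := hu
    let φ : R →ₐ[k] R :=
      { toFun := fun r => (g⁻¹ : Rˣ) * r * g
        map_one' := by simp
        map_mul' := fun r s => by simp [mul_assoc]
        map_zero' := by simp
        map_add' := fun r s => by simp [mul_add, add_mul]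
        commutes' := fun c => by rw [← Algebra.commutes, mul_assoc, Units.inv_mul, mul_one] }
    refine unip_of_le (N := (nn k N).map φ.toLinearMap) (n := n) ?_ (nn_le.2 fun x hx => ?_)
    · rw [← Submodule.map_pow, hn, Submodule.map_bot]
    · obtain ⟨y, hy, rfl⟩ := exists_of_mem_rc hx
      exact ⟨_, mem_nn hy, by simp [φ, mul_sub, sub_mul]⟩
  have h1 := h _ (iSup₂_le hWG) (unip_biSup hWG (by
    rintro _ ⟨g, hg, rfl⟩ _ ⟨g', hg', rfl⟩
    refine (hu' g).sup (hu' g') fun x hx => ?_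
    have hxH : x ∈ H := by rw [← hn g' hg']; exact rc_mono hN g' hx
    have h3 : g * x * g⁻¹ ∈ H := by rw [← hn g hg] at hxH; exact mem_rc.1 hxH
    rw [rc_rc, show g * x = (g * x * g⁻¹) * g by group, ← rc_rc, hN' _ h3]) hc) (fun g hg => rc_biSup_eq hc hg)
  rw [eq_bot_iff, ← h1]
  exact le_iSup₂_of_le N ⟨1, G.one_mem, (rc_one N).symm⟩ le_rfl

theorem QD.exists_opp (h2 : (2 : k) ≠ 0) (h3 : Nat.card k ≠ 3) (hG : NoUnip k G) (ha : QD G a) :
    ∃ f, QD G f ∧ MU a f := by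
  by_cases h : ∃ b, QD G b ∧ a * b * a ≠ 0
  · obtain ⟨b, hb, hn⟩ := h
    obtain ⟨f, hf, mu⟩ := ha.exists_mu h2 h3 hb hn
    exact ⟨f, hf.qd hb (mu.ne ha.ne), mu⟩
  exfalso
  push Not at h
  let W := {A | ∃ g ∈ G, A = EE G a ha.sq ^~ g}
  have hc : ∀ A ∈ W, ∀ g ∈ G, A ^~ g ∈ W := by
    rintro _ ⟨g, hg, rfl⟩ g' hg'; exact ⟨g * g', G.mul_mem hg hg', rc_rc _ _ _⟩
  have hWG : ∀ A ∈ W, A ≤ G := by rintro _ ⟨g, hg, rfl⟩; exact rc_le_of_mem EE_le hg
  have h1 := hG _ (iSup₂_le hWG) (unip_biSup hWG (by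
    rintro _ ⟨g, hg, rfl⟩ _ ⟨g', hg', rfl⟩
    rw [EE_rc hg, EE_rc hg']
    have hb := ha.conj' (InG.of_mem (G.inv_mem hg')) g'.inv_mul
    refine (ha.conj' (InG.of_mem (G.inv_mem hg)) g.inv_mul).unip h2 hb ?_
    have := h _ (hb.conj hg)
    linear_combination (norm := noncomm_ring) (g⁻¹ : (M →ₗ[k] M)ˣ) * this * (g : M →ₗ[k] M)) hc)
    (fun g hg => rc_biSup_eq hc hg)
  have h4 : EE G a ha.sq ≤ ⊥ := h1 ▸ le_iSup₂_of_le _ ⟨1, G.one_mem, (rc_one _).symm⟩ le_rfl
  exact ha.ne (un_eq_one.1 (Subgroup.mem_bot.1 (h4 (InE.self ha.qe).un_mem)))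

/-- positive degree in the grading given by `x, y` -/
structure UU {R : Type*} [Ring R] (x y u : R) : Prop where
  l : x * u = 0
  r : u * x = 0
  m : (1 - x * y) * u * (1 - y * x) = 0

theorem UU.mul_left {R : Type*} [Ring R] {x y u v : R} (hu : UU x y u) (hv : x * v = 0) :
    u * v = x * (y * (u * v)) := by
  linear_combination (norm := noncomm_ring) hu.m * v + (1 - x * y) * u * y * hv

theorem UU.mul_right {R : Type*} [Ring R] {x y u v : R} (hv : UU x y v) (hu : u * x = 0) :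
    u * v = u * (v * (y * x)) := by
  linear_combination (norm := noncomm_ring) u * hv.m + hu * y * v * (1 - y * x)

theorem UU.triple {R : Type*} [Ring R] {x y u v w : R} (hu : u * x = 0) (hv : UU x y v) (hw : x * w = 0) :
    u * (v * w) = 0 := by
  rw [hv.mul_left hw, z3 hu]

theorem QD.uu (h2 : (2 : k) ≠ 0) (ha : QD G a) (hb : QD G b) (h : a * b * a = 0) (hc : a * b - b * a ≠ 0)
    (hx : InE G a x) : (∀ m, x m ∈ ker (a * b - b * a)) ∧ (∀ m ∈ ker (a * b - b * a), x m ∈ range (a * b - b * a)) ∧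
      ∀ m ∈ range (a * b - b * a), x m = 0 := by
  have h' := (nil_transfer h2 ha hb h hx (InE.self hb.qe)).2
  obtain ⟨-, r1, -, r3, -⟩ := ha.L4 h2 hb h hc
  refine ⟨fun m => ?_, fun m hm => ?_, ?_⟩
  · exact mul_eq_zero_iff_le.1 (hx.right (y := a * b - b * a) (by simp [sub_mul, mul_assoc, ha.sq, z4' h])) ⟨m, rfl⟩
  · rw [ha.L4ker h2 hb h hc] at hm
    obtain ⟨_, ⟨m1, rfl⟩, m2, hm2, rfl⟩ := Submodule.mem_sup.1 hm.2
    rw [r3, r1, map_add, show x m2 = 0 from hx.ker hm2, add_zero]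
    refine Submodule.mem_sup_left ⟨hx.range ⟨_, rfl⟩, ?_⟩
    exact congrArg (fun f : M →ₗ[k] M => f m1) h'
  · exact mul_eq_zero_iff_le.1 (hx.left (y := a * b - b * a) (by simp [mul_sub, z3 ha.sq, z4' h]))

omit [FiniteDimensional k M] in
theorem uu_of (mu : MU x y) (h1 : ∀ m, a m ∈ ker x) (h2 : ∀ m ∈ ker x, a m ∈ range x) (h3 : ∀ m ∈ range x, a m = 0) :
    UU x y a := by
  refine ⟨LinearMap.ext h1, mul_eq_zero_iff_le.2 h3, LinearMap.ext fun m => ?_⟩
  obtain ⟨m', hm'⟩ := h2 ((1 - y * x : M →ₗ[k] M) m) (by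
    rw [mem_ker, ← Module.End.mul_apply, mul_sub, e4' mu.efe]; simp)
  rw [Module.End.mul_apply, Module.End.mul_apply, ← hm', ← Module.End.mul_apply, sub_mul, mu.efe]; simp

theorem lemmaH (h2 : (2 : k) ≠ 0) (hy : QD G y) (mu : MU x y) (ha : QE k G a) (hb : QD G b)
    (ua : UU x y a) (ub : UU x y b) (hom : y * b * y = 0) (e : a * b - b * a = x) (hc : InE G x c) :
    ∃ β, InE G b β ∧ UU x y β ∧ a * β - β * a = c := by
  have byb := hb.L1 h2 hy.qe hom
  have hs := (QE.nil h2 hb.qe hy.qe hom).2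
  have main : ∀ c, InE G x c → (1 + a) * (1 - (b * y - y * b)) * (1 + a) * c * ((1 - a) * (1 + (b * y - y * b)) * (1 - a))
      = -(c * y * b + b * y * c) + (c - (a * (c * y * b + b * y * c) - (c * y * b + b * y * c) * a)) := by
    intro c hc
    have cb := hc.left ub.l
    have bc := hc.right ub.r
    have ca := hc.left ua.l
    have ac := hc.right ua.r
    have h1 : b * (y * (c * (y * b))) = 0 := by
      by_cases h0 : b * y - y * b = 0
      · rw [← mul_assoc, sub_eq_zero.1 h0, mul_assoc, z3 bc, mul_zero]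
      · have := (hb.L4 h2 hy byb h0).1.L1 h2 hc.qe (by simp [mul_sub, sub_mul, mul_assoc, z3 cb, bc])
        simpa [mul_sub, sub_mul, mul_assoc, z3 cb, z3 bc] using this
    have h1' : ∀ w, b * (y * (c * (y * (b * w)))) = 0 := fun w => by simpa [mul_assoc] using congrArg (· * w) h1
    simp only [mul_add, add_mul, mul_sub, sub_mul, mul_one, one_mul, mul_assoc, cb, bc, ca, ac, z3 cb, z3 bc, z3 ca,
      z3 ac, h1, h1', mul_zero, zero_mul]
    abel
  have hxe : InE G x x := InE.self (by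
    rw [← e]; exact (QE.nil h2 ha hb.qe (by rw [mul_assoc]; exact UU.triple ub.r ua ub.l)).2)
  have hn : InG G ((1 + a) * (1 - (b * y - y * b)) * (1 + a)) := (ha.one_add.mul hs.one_sub).mul ha.one_add
  have hnn : ((1 + a) * (1 - (b * y - y * b)) * (1 + a)) * ((1 - a) * (1 + (b * y - y * b)) * (1 - a)) = 1 := by
    generalize b * y - y * b = s at hs
    simp only [mul_add, add_mul, mul_sub, sub_mul, mul_one, one_mul, mul_assoc, ha.sq, hs.sq, z3 ha.sq, z3 hs.sq,
      mul_zero, zero_mul]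
    abel
  have h1 := hc.conj' hn hnn (mul_eq_one_comm.1 hnn)
  have eb : x * y * b + b * y * x = b := by linear_combination (norm := noncomm_ring) -ub.m + x * hom * x
  rw [main _ hxe, main _ hc, eb, e, sub_self, add_zero] at h1
  replace h1 := h1.congr (sim_neg b)
  have cb := hc.left ub.l
  have bc := hc.right ub.r
  have c1 : x * (y * c) = c := by
    have := hc.right (y := 1 - x * y) (by rw [sub_mul, mu.efe]; simp)
    linear_combination (norm := noncomm_ring) -this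
  have c2 : c * (y * x) = c := by
    have := hc.left (y := 1 - y * x) (by rw [mul_sub, e4' mu.efe]; simp)
    linear_combination (norm := noncomm_ring) -this
  have xc := hc.right mu.ee
  have cx := hc.left mu.ee
  set β := c * y * b + b * y * c with hβ
  have uβ : UU x y β := by
    refine ⟨by simp [hβ, mul_add, mul_assoc, z3 xc, z3 ub.l], by simp [hβ, add_mul, mul_assoc, cx, ub.r], ?_⟩
    rw [hβ]
    linear_combination (norm := noncomm_ring) -c1 * y * b * (1 - y * x) - (1 - x * y) * b * y * c2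
  have h3 := (nil_transfer h2 hy hb hom (InE.self hy.qe) h1).1
  have h4 : y * β * y = 0 := by
    rw [hβ]; linear_combination (norm := noncomm_ring) y * c * hom + hom * c * y
  have h5 : c - (a * β - β * a) = 0 := by
    have e1 := ua.mul_left uβ.l
    have e2 := uβ.mul_right ua.r
    have e3 := uβ.mul_left ua.l
    have e4 := ua.mul_right uβ.r
    linear_combination (norm := noncomm_ring) x * h3 * x + x * h4 * x - c1 - x * y * c2 - e1 - x * y * e2 + e3 +
      x * y * e4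
  rw [h5, add_zero] at h1
  exact ⟨β, by simpa using h1.neg, uβ, (sub_eq_zero.1 h5).symm⟩

theorem MU.inv_mem {R : Type*} [Ring R] [Algebra k R] {G : Subgroup Rˣ} {x y : R} (mu : MU x y) (hx : QE k G x)
    (hy : QE k G y) : InG G (1 - (x * y + y * x) - (x * y + y * x)) := by
  have hw := (hx.one_add.mul hy.one_sub).mul hx.one_add
  convert hw.mul hw using 1
  simp only [mul_add, add_mul, mul_sub, sub_mul, mul_one, one_mul, mul_assoc,
    mu.ee, mu.ff, z3 mu.ee, z3 mu.ff, e4' mu.efe, e4' mu.fef, e4 mu.efe, e4 mu.fef, mul_zero, zero_mul]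
  abel

theorem homog (h2 : (2 : k) ≠ 0) (hx : QE k G x) (hy : QE k G y) (mu : MU x y) (ha : QE k G a) (ua : UU x y a) :
    InE G x (x * y * a * y * x) ∧ QE k G (a - x * y * a * y * x) ∧ rk (a - x * y * a * y * x) ≤ rk a ∧
      UU x y (a - x * y * a * y * x) ∧ y * (a - x * y * a * y * x) * y = 0 := by
  have hi := mu.inv_mem hx hy
  have hq := ha.conj' hi (y := 1 - (x * y + y * x) - (x * y + y * x)) (by
    simp only [mul_add, add_mul, mul_sub, sub_mul, mul_one, one_mul, mul_assoc,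
      z3 mu.ee, z3 mu.ff, e4 mu.efe, e4 mu.fef, mul_zero]
    abel)
  have e1 : (1 - (x * y + y * x) - (x * y + y * x)) * a * (1 - (x * y + y * x) - (x * y + y * x)) =
      x * y * a * y * x + x * y * a * y * x - a := by
    have := ua.m
    simp only [mul_add, add_mul, mul_sub, sub_mul, mul_one, one_mul, mul_assoc, ua.l, z3 ua.l, z3 ua.r,
      mul_zero] at this ⊢
    linear_combination (norm := noncomm_ring) this + this
  rw [e1] at hq
  have p1 : a * (x * y * a * y * x + x * y * a * y * x - a) = 0 := by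
    simp [mul_add, mul_sub, mul_assoc, z3 ua.r, ha.sq]
  have p2 : (x * y * a * y * x + x * y * a * y * x - a) * a = 0 := by
    simp [add_mul, sub_mul, mul_assoc, ua.l, ha.sq]
  refine ⟨InE.of_mul (p := x * y * a * y) (q := y * a * y * x) ?_ rfl (by simp only [mul_assoc]), ?_, ?_, ⟨?_, ?_, ?_⟩, ?_⟩
  · apply QE.of_smul (c := 2) _ h2
    convert ha.add hq p1 p2 using 1
    rw [two_smul]; abel
  · apply QE.of_smul (c := 2) _ h2
    convert ha.sub hq p1 p2 using 1
    rw [two_smul]; abel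
  · have e2 : a - x * y * a * y * x = (1 - x * y) * a + a * (1 - y * x) := by
      linear_combination (norm := noncomm_ring) -ua.m
    have d1 := rk_add_le ((1 - x * y) * a) (a * (1 - y * x))
    have d2 := rk_mul_add (1 - x * y) a
    have d3 : rk (a * (1 - y * x)) ≤ Module.finrank k ↥(range a ⊓ ker (1 - x * y)) :=
      Submodule.finrank_mono (le_inf (range_mul_le _ _) (mul_eq_zero_iff_le.1 (by rw [← mul_assoc, ua.m])))
    rw [e2]; omega
  · simp [mul_sub, mul_assoc, ua.l, z3 mu.ee]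
  · simp [sub_mul, mul_assoc, ua.r, mu.ee]
  · linear_combination (norm := noncomm_ring) ua.m + mu.efe * y * a * y * x * (1 - y * x)
  · linear_combination (norm := noncomm_ring) -mu.fef * a * y * x * y - y * a * mu.fef

theorem QD.L5 (h2 : (2 : k) ≠ 0) (h3 : Nat.card k ≠ 3) (hG : NoUnip k G) (ha : QD G a) (hb : QD G b)
    (h : a * b * a = 0) (h0 : a * b - b * a ≠ 0) (hc : InE G (a * b - b * a) c) :
    ∃ β, InE G b β ∧ a * β - β * a = c := by
  have h' := hb.L1 h2 ha.qe h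
  have hx := (ha.L4 h2 hb h h0).1
  obtain ⟨y, hy, mu⟩ := hx.exists_opp h2 h3 hG
  obtain ⟨p1, p2, p3⟩ := ha.uu h2 hb h h0 (InE.self ha.qe)
  have ua := uu_of mu p1 p2 p3
  obtain ⟨q1, q2, q3⟩ := hb.uu h2 ha h' (by rw [← neg_sub]; exact neg_ne_zero.2 h0) (InE.self hb.qe)
  rw [← neg_sub, ker_neg] at q1 q2
  rw [range_neg] at q2
  rw [← neg_sub, range_neg] at q3
  have ub := uu_of mu q1 q2 q3
  generalize e : a * b - b * a = x at *
  obtain ⟨-, a1, a2, a3, a4⟩ := homog h2 hx.qe hy.qe mu ha.qe ua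
  obtain ⟨b0, b1, b2, b3, b4⟩ := homog h2 hx.qe hy.qe mu hb.qe ub
  have e1 : a * (b - x * y * b * y * x) - (b - x * y * b * y * x) * a = x := by
    simp only [mul_sub, sub_mul, mul_assoc, z3 ua.r, ua.l, mul_zero, sub_zero, e]
  have e2 : -(b - x * y * b * y * x) * (a - x * y * a * y * x) - (a - x * y * a * y * x) * -(b - x * y * b * y * x)
      = x := by
    simp only [mul_sub, sub_mul, mul_assoc, z3 ua.r, ua.l, z3 ub.r, ub.l, z3 mu.ee, mul_zero, sub_zero, neg_mul, mul_neg]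
    rw [← e]; abel
  have hb1 : QD G (b - x * y * b * y * x) := hb.of_le b1 (fun h => h0 (by rw [← e1, h]; simp)) b2
  have ha1 : QD G (a - x * y * a * y * x) := ha.of_le a1 (fun h => h0 (by rw [← e2, h]; simp)) a2
  obtain ⟨α, hα, uα, eα⟩ := lemmaH h2 hy mu b1.neg ha1 ⟨by rw [mul_neg, b3.l, neg_zero], by rw [neg_mul, b3.r, neg_zero], by
    rw [mul_neg, neg_mul, b3.m, neg_zero]⟩ a3 a4 e2 b0
  obtain ⟨β, hβ, uβ, eβ⟩ := lemmaH h2 hy mu ha.qe hb1 ua b3 b4 e1 hc
  have h4 := hβ.conj' hα.qe.one_add (un α hα.qe.sq).mul_inv (un α hα.qe.sq).inv_mul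
  rw [un_inv] at h4
  have e3 : (1 + α) * (b - x * y * b * y * x) * (1 - α) = b := by
    have := UU.triple uα.r b3 uα.l
    linear_combination (norm := noncomm_ring) eα - this
  rw [e3] at h4
  refine ⟨_, h4, ?_⟩
  have t1 := UU.triple ua.r uα uβ.l
  have t2 := UU.triple ua.r uβ uα.l
  have t3 := UU.triple uα.r uβ ua.l
  have t4 := UU.triple uβ.r uα ua.l
  linear_combination (norm := noncomm_ring) eβ + t1 - t2 - t1 * α - t3 + t4 + α * t4

end Cfsg.Agent.H90
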