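import Cfsg.Agent.H90.Triple
import Cfsg.Agent.H90.Special

/-! Components of the rank one graph, structure of lines, special pairs in the non-degenerate case. -/

set_option autoImplicit false

namespace Cfsg.Agent.H90
open Cfsg

variable {G : Type*} [Group G] {S : Set (Subgroup G)} {A B C D E F P Q : Subgroup G}

local notation "R1" => IsRankOnePair

/-- if the point `B` of the line `A B` is not opposite to `D ∈ Ω_A`, all other points are -/
theorem Ln.r1_of_ne (hS : IsRootSubgroupSet S) (hA : A ∈ S) (hD : D ∈ S) (hAD : R1 A D) (h : Ln S A B)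
    (hB : ¬ R1 B D) (hP : P ∈ S) (hle : P ≤ A ⊔ B) (hne : P ≠ B) : R1 P D := by
  by_contra hn
  have hPA : P ≠ A := fun e => hn (e ▸ hAD)
  have s1 := sc_of_line hS hA hD hAD h hP hle hPA hn
  have s2 := sc_of_line hS hA hD hAD h h.mem le_sup_right h.ne hB
  have hnil := triple_nilpotent hS hP hD h.mem ((h.cm_all hS hA).mono hle le_sup_right) s1 s2
  obtain ⟨p, hp, hp1⟩ := rs_exists_ne_one hS hP
  obtain ⟨a, ha, b, hb, e⟩ := mem_sup_of_cm h.cm (hle hp)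
  have ha1 : a ≠ 1 := by
    rintro rfl
    exact hne (h.disj P hP B h.mem hle le_sup_right p hp1 hp (by rw [e, one_mul]; exact hb))
  have haU : a ∈ P ⊔ D ⊔ B := by
    have : a = p * b⁻¹ := by rw [e]; group
    rw [this]
    exact mul_mem (Subgroup.mem_sup_left (Subgroup.mem_sup_left hp)) (Subgroup.mem_sup_right (B.inv_mem hb))
  exact r1_not_nilpotent (r1_rc_self hAD ha ha1) (le_sup_right.trans le_sup_left)
    (rc_le_of_mem (le_sup_right.trans le_sup_left) haU) hnil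

/-- connectedness in the rank one graph -/
abbrev Conn (S : Set (Subgroup G)) (A B : Subgroup G) : Prop := Relation.ReflTransGen (FAdj S) A B

theorem fadj_symm (h : FAdj S A B) : FAdj S B A := ⟨h.2.1, h.1, r1_symm h.2.2⟩

theorem Conn.symm' (h : Conn S A B) : Conn S B A := by
  induction h with
  | refl => exact Relation.ReflTransGen.refl
  | tail _ h2 ih => exact Relation.ReflTransGen.head (fadj_symm h2) ih

theorem conn_of_r1 (hA : A ∈ S) (hB : B ∈ S) (h : R1 A B) : Conn S A B :=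
  Relation.ReflTransGen.single ⟨hA, hB, h⟩

theorem Conn.mem (h : Conn S A B) (hA : A ∈ S) : B ∈ S := by
  induction h with
  | refl => exact hA
  | tail _ h2 _ => exact h2.2.1

theorem Conn.partner (h : Conn S A B) (hA : ∃ D ∈ S, R1 A D) : ∃ D ∈ S, R1 B D := by
  induction h with
  | refl => exact hA
  | tail _ h2 _ => exact ⟨_, h2.1, r1_symm h2.2.2⟩

theorem Conn.partner_of_ne (h : Conn S A B) (hne : B ≠ A) : ∃ D ∈ S, R1 A D := by
  rcases Relation.ReflTransGen.cases_head h with e | ⟨D, h1, -⟩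
  · exact absurd e.symm hne
  · exact ⟨D, h1.2.1, h1.2.2⟩

theorem Conn.conj (h : Conn S A B) : ∃ g : G, B = A ^~ g := by
  induction h with
  | refl => exact ⟨1, (rc_one _).symm⟩
  | tail _ h2 ih =>
    obtain ⟨g, rfl⟩ := ih
    obtain ⟨x, -, e⟩ := mem_unip.1 (right_mem_unip h2.2.2)
    exact ⟨g * x, by rw [e, rc_rc]⟩

theorem conn_rc_root (hS : IsRootSubgroupSet S) (hA : A ∈ S) (hD : D ∈ S) (hAD : R1 A D) (hE : E ∈ S)
    {e : G} (he : e ∈ E) : Conn S A (A ^~ e) := by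
  have easy : ∀ {A : Subgroup G}, A ∈ S → (Cm A E ∨ R1 A E) → Conn S A (A ^~ e) := by
    rintro A hA (h | h)
    · rw [h.rc_eq he]
    · by_cases he1 : e = 1
      · rw [he1, rc_one]
      · exact conn_of_r1 hA (rs_rc hS hA e) (r1_rc_self (r1_symm h) he he1)
  have step : Conn S D (D ^~ e) → Conn S A (A ^~ e) := fun h =>
    ((conn_of_r1 hA hD hAD).trans h).trans (conn_of_r1 (rs_rc hS hD e) (rs_rc hS hA e) (r1_rc (r1_symm hAD) e))
  rcases rs_tri hS hA hE with h | h | h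
  · exact easy hA (Or.inl h)
  · exact easy hA (Or.inr h)
  rcases rs_tri hS hD hE with h' | h' | h'
  · exact step (easy hD (Or.inl h'))
  · exact step (easy hD (Or.inr h'))
  by_cases hF : R1 ⁅D, E⁆ A
  · have h1 := r1_rc hF e
    rw [h'.cB.rc_eq he] at h1
    exact (conn_of_r1 hA h'.mem (r1_symm hF)).trans (conn_of_r1 h'.mem (rs_rc hS hA e) h1)
  · have h1 := (h'.ln hS hD hA (r1_symm hAD)).r1_of_ne hS hD hA (r1_symm hAD) hF (rs_rc hS hD e)
      (h'.symm.rc_le he) (h'.rc_ne hS he)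
    exact (conn_of_r1 hA (rs_rc hS hD e) (r1_symm h1)).trans
      (conn_of_r1 (rs_rc hS hD e) (rs_rc hS hA e) (r1_rc (r1_symm hAD) e))

/-- components with more than one member are invariant under conjugation -/
theorem conn_rc (hS : IsRootSubgroupSet S) (hA : A ∈ S) (hD : D ∈ S) (hAD : R1 A D) (g : G) :
    Conn S A (A ^~ g) := by
  refine rs_invariant hS (Q := fun X => Conn S A X) ?_ g Relation.ReflTransGen.refl
  intro E hE e he X hX
  obtain ⟨Y, hY, h⟩ := hX.partner ⟨D, hD, hAD⟩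
  exact hX.trans (conn_rc_root hS (hX.mem hA) hY h hE he)

theorem class_conj (hS : IsRootSubgroupClass S) (hA : A ∈ S) (hB : B ∈ S) : ∃ g : G, B = A ^~ g := by
  obtain ⟨g, rfl⟩ := hS.2.2 A hA B hB
  exact ⟨g⁻¹, conjBy_eq_rc _ _⟩

theorem class_partner (hS : IsRootSubgroupClass S) (hA : A ∈ S) (hD : D ∈ S) (hAD : R1 A D) (hB : B ∈ S) :
    ∃ E ∈ S, R1 B E := by
  obtain ⟨g, rfl⟩ := class_conj hS hA hB
  exact ⟨_, rs_rc hS.1 hD g, r1_rc hAD g⟩

theorem class_conn (hS : IsRootSubgroupClass S) (hA : A ∈ S) (hD : D ∈ S) (hAD : R1 A D) (hB : B ∈ S)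
    (hC : C ∈ S) : Conn S B C := by
  obtain ⟨E, hE, h⟩ := class_partner hS hA hD hAD hB
  obtain ⟨g, rfl⟩ := class_conj hS hB hC
  exact conn_rc hS.1 hB hE h g

theorem class_sc (hS : IsRootSubgroupClass S) (hnd : IsNondegenerateRootSet S) (hA : A ∈ S) :
    ∃ E ∈ S, Sc S A E ⁅A, E⁆ := by
  obtain ⟨B, hB, C, hC, h⟩ := hnd.2.2
  obtain ⟨g, rfl⟩ := class_conj hS hB hA
  refine ⟨_, rs_rc hS.1 hC g, ?_⟩
  rw [← rc_commutator]
  exact (sc_of_rcc h).rc hS.1 g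

theorem class_nd_partner (hS : IsRootSubgroupClass S) (hnd : IsNondegenerateRootSet S) (hA : A ∈ S) :
    ∃ E ∈ S, R1 A E := by
  obtain ⟨B, hB, C, hC, h⟩ := hnd.2.1
  exact class_partner hS hB hC h hA

theorem Sc.comm_mul_right (h : Sc S A B C) {a b b' : G} (ha : a ∈ A) (hb : b ∈ B) (hb' : b' ∈ B) :
    a⁻¹ * (b * b')⁻¹ * a * (b * b') = (a⁻¹ * b'⁻¹ * a * b') * (a⁻¹ * b⁻¹ * a * b) := by
  have h1 := h.cB _ (h.comm a ha b hb) b' hb'
  calc a⁻¹ * (b * b')⁻¹ * a * (b * b') = a⁻¹ * b'⁻¹ * a * ((a⁻¹ * b⁻¹ * a * b) * b') := by group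
    _ = _ := by rw [h1]; group

/-- the rank one group `⟨A, B⟩` acts on the line spanned by `C ∈ Λ_A ∩ Ψ_B` and `[C, B]` -/
theorem sc_back (hS : IsRootSubgroupSet S) (hF : ∀ X ∈ S, ∃ Y ∈ S, R1 X Y) (hA : A ∈ S) (hB : B ∈ S)
    (hC : C ∈ S) (hAB : R1 A B) (hAC : Cm A C) (hl : ∀ a ∈ A, ∀ c ∈ C, a * c ≠ 1 → ∃ P ∈ S, a * c ∈ P)
    (h : Sc S C B F) : Sc S F A C := by
  obtain ⟨a₀, ha₀, ha₀1⟩ := r1_exists_ne_one hAB
  obtain ⟨c₀, hc₀, hc₀1⟩ := rs_exists_ne_one hS hC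
  have hac : ∀ a ∈ A, ∀ c ∈ C, c ≠ 1 → a * c ≠ 1 := by
    intro a ha c hc hc1 e
    have h1 : c ∈ A := by rw [eq_inv_of_mul_eq_one_right e]; exact A.inv_mem ha
    exact r1_not_cm (r1_rc_self hAB h1 hc1) (h.cm_rc hS hB hc)
  obtain ⟨C', hC', hCC'⟩ := hF C hC
  obtain ⟨F', hF', hFF'⟩ := hF F h.mem
  have hK : Sc S F A ⁅F, A⁆ := by
    rcases rs_tri hS h.mem hA with h1 | h1 | h1
    · exfalso
      obtain ⟨b, hb, hb1, e⟩ := r1_ex hAB ha₀ ha₀1
      have h2 : Cm (A ^~ b) (C ⊔ F) := by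
        rw [← h.sup_rc hb hb1]
        have h3 : Cm (A ^~ b) (C ^~ b) := hAC.rc b
        have h4 : Cm (A ^~ b) F := by
          have := h1.symm.rc b
          rwa [h.cB.rc_eq hb] at this
        refine Cm.sup_right ?_ h3
        have h5 : C ≤ C ^~ b ⊔ F := by
          have := (h.rc hS b).symm.rc_le (a := b⁻¹) (by rw [rc_of_mem hb]; exact B.inv_mem hb)
          rwa [rc_rc_inv, h.cB.rc_eq hb] at this
        exact (h3.sup_right h4).mono le_rfl h5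
      have h6 := (h2.mono le_rfl le_sup_left).rc a₀⁻¹
      rw [e, rc_rc_inv, hAC.symm.rc_eq (A.inv_mem ha₀)] at h6
      exact h.not_cm hS h6.symm
    · exfalso
      obtain ⟨P, hP, hx⟩ := hl a₀ ha₀ c₀ hc₀ (hac _ ha₀ _ hc₀ hc₀1)
      exact hc₀1 (rs_no_central_mul' hS h.mem (r1_symm h1) (fun x hx => hAC x hx _ hc₀)
        (fun x hx => h.cA x hx _ hc₀) ha₀ ha₀1 hP hx)
    · exact h1
  set K := ⁅F, A⁆ with hKdef
  have hCK : Cm C K := (h.cA.symm.sup_right hAC.symm).mono le_rfl (Subgroup.commutator_le_sup _ _)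
  suffices hKC : K = C by rwa [hKC] at hK
  obtain ⟨b, hb, hb1, e⟩ := r1_ex hAB ha₀ ha₀1
  -- choose `α ∈ A` and compare
  obtain ⟨K', hK', hKK'⟩ := hF K hK.mem
  have hFa : F ^~ a₀ = K ^~ b := by
    set f := c₀⁻¹ * b⁻¹ * c₀ * b with hf
    have hfF : f ∈ F := h.comm c₀ hc₀ b hb
    set β := b⁻¹ * a₀ * b with hβ
    have hβ1 : β ∈ B ^~ a₀ := by rw [← e]; exact conj_mem_rc ha₀ b
    have s1 : Sc S C (B ^~ a₀) (F ^~ a₀) := by
      have := h.rc hS a₀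
      rwa [hAC.symm.rc_eq ha₀] at this
    have s2 : Sc S F (A ^~ b) (K ^~ b) := by
      have := hK.rc hS b
      rwa [h.cB.rc_eq hb] at this
    have m1 := s1.comm c₀ hc₀ β hβ1
    have m2 := s2.comm f hfF β (conj_mem_rc ha₀ b)
    have q1 : β * (c₀ * f) = (c₀ * f) * β := by
      have := (hAC.rc b) _ (conj_mem_rc ha₀ b) _ (conj_mem_rc hc₀ b)
      have q : b⁻¹ * c₀ * b = c₀ * f := by rw [hf]; group
      rwa [q] at this
    have q2 : (c₀⁻¹ * β⁻¹ * c₀ * β) * f = f * (c₀⁻¹ * β⁻¹ * c₀ * β) :=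
      (hK.symm.cm_rc hS h.mem ha₀ f hfF _ m1).symm
    have q4 : (f⁻¹ * β⁻¹ * f * β)⁻¹ = c₀⁻¹ * β⁻¹ * c₀ * β := by
      have q5 : f * (c₀⁻¹ * β⁻¹ * c₀ * β) * (f⁻¹ * β⁻¹ * f * β) = f := by
        rw [← q2]
        calc c₀⁻¹ * β⁻¹ * c₀ * β * f * (f⁻¹ * β⁻¹ * f * β) = c₀⁻¹ * β⁻¹ * (c₀ * f * β) := by group
          _ = f := by rw [← q1]; group
      have q6 : (c₀⁻¹ * β⁻¹ * c₀ * β) * (f⁻¹ * β⁻¹ * f * β) = 1 := by
        rw [mul_assoc] at q5; exact mul_eq_left.1 q5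
      exact inv_eq_of_mul_eq_one_left q6
    have hne : c₀⁻¹ * β⁻¹ * c₀ * β ≠ 1 := by
      intro e1
      have e2 : c₀ * β = β * c₀ := by
        calc c₀ * β = β * c₀ * (c₀⁻¹ * β⁻¹ * c₀ * β) := by group
          _ = _ := by rw [e1, mul_one]
      rcases s1.comm_ne_one hS hC hC' hCC' hc₀ hβ1 e2 with h3 | h3
      · exact hc₀1 h3
      · apply ha₀1
        calc a₀ = b * β * b⁻¹ := by rw [hβ]; group
          _ = 1 := by rw [h3]; group
    exact rs_eq_of_mem hS (rs_rc hS hF' a₀) (r1_rc hFF' a₀) (rs_rc hS hK.mem b) hne m1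
      (q4 ▸ (K ^~ b).inv_mem m2)
  -- `K` and `B` are in the commutator case
  have hKb : K ^~ b ≠ K := by rw [← hFa]; exact hK.rc_ne hS ha₀
  have hKB : Sc S K B ⁅K, B⁆ := by
    rcases rs_tri hS hK.mem hB with h1 | h1 | h1
    · exact absurd (h1.rc_eq hb) hKb
    · exfalso
      refine r1_not_cm (r1_rc_self (r1_symm h1) hb hb1) ?_
      rw [← hFa]
      exact (hK.cA.sup_right (rs_cm hS hK.mem)).mono le_rfl (hK.symm.rc_le ha₀)
    · exact h1
  have hle : ⁅K, B⁆ ≤ F ⊔ K := by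
    refine le_sup_right.trans ((hKB.sup_rc hb hb1).symm.le.trans (sup_le le_sup_right ?_))
    rw [← hFa]; exact hK.symm.rc_le ha₀
  have hKBF : ⁅K, B⁆ = F := by
    rcases hK.points hS h.mem hF' hFF' hKB.mem hle with h1 | ⟨a, ha, h1⟩
    · exact absurd h1.symm (hKB.ne_left hS)
    · by_cases ha1 : a = 1
      · rw [h1, ha1, rc_one]
      · exfalso
        have h2 : Cm F (B ^~ a⁻¹) := by
          have := hKB.cB.rc a⁻¹
          rwa [h1, rc_rc_inv] at this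
        have h3 := h.cB.sup_right h2
        rw [r1_sup_rc_self hAB (A.inv_mem ha) (inv_ne_one.2 ha1)] at h3
        exact hK.not_cm hS (h3.mono le_rfl le_sup_left)
  rw [hKBF] at hKB
  obtain ⟨k, hk, ek⟩ := hKB.sL b hb hb1 _ (h.comm c₀ hc₀ b hb)
  have hz : b * (c₀ * k⁻¹) = (c₀ * k⁻¹) * b := by
    have t1 := h.cA _ (h.comm c₀ hc₀ b hb) c₀ hc₀
    have t2 := hKB.cA _ (hKB.comm k hk b hb) k hk
    calc b * (c₀ * k⁻¹) = c₀ * b * (c₀⁻¹ * b⁻¹ * c₀ * b)⁻¹ * k⁻¹ := by group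
      _ = c₀ * b * (k * (k⁻¹ * b⁻¹ * k * b))⁻¹ := by rw [ek]; group
      _ = _ := by group
  have hzA : ∀ x ∈ A, x * (c₀ * k⁻¹) = (c₀ * k⁻¹) * x := fun x hx =>
    (Commute.mul_right (hAC x hx c₀ hc₀ : Commute x c₀)
      (Commute.inv_right ((hK.cB k hk x hx).symm : Commute x k))).eq
  have hzX := r1_comm_of_comm (r1_symm hAB) hb hb1 hz hzA
  obtain ⟨f, hf, ef⟩ := hK.symm.sR a₀ ha₀ ha₀1 k hk
  have hzf : Commute f (c₀ * k⁻¹) := Commute.mul_right (h.cA f hf c₀ hc₀ : Commute f c₀)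
    (Commute.inv_right ((hK.cA k hk f hf).symm : Commute f k))
  have hzc : ∀ {U : Subgroup G}, U ≤ B ⊔ A → ∀ x ∈ U ^~ f, x * (c₀ * k⁻¹) = (c₀ * k⁻¹) * x := by
    intro U hU x hx
    obtain ⟨y, hy, rfl⟩ := exists_of_mem_rc hx
    exact ((hzf.inv_left.mul_left (hzX y (hU hy) : Commute y _)).mul_left hzf).eq
  obtain ⟨P, hP, hx⟩ := hl a₀ ha₀ c₀ hc₀ (hac _ ha₀ _ hc₀ hc₀1)
  have hz1 := rs_no_central_mul' hS (rs_rc hS hB f) (r1_rc hAB f) (hzc le_sup_right) (hzc le_sup_left)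
    (conj_mem_rc ha₀ f) (fun e1 => ha₀1 (by
      calc a₀ = f * (f⁻¹ * a₀ * f) * f⁻¹ := by group
        _ = 1 := by rw [e1]; group)) hP (by
      have : f⁻¹ * a₀ * f * (c₀ * k⁻¹) = a₀ * c₀ := by
        calc f⁻¹ * a₀ * f * (c₀ * k⁻¹) = a₀ * ((a₀⁻¹ * f⁻¹ * a₀ * f) * c₀) * k⁻¹ := by group
          _ = _ := by rw [← ef, ← hCK c₀ hc₀ k hk]; group
      rw [this]; exact hx)
  exact rs_eq_of_mem hS hK' hKK' hC hc₀1 (by rw [mul_inv_eq_one.1 hz1]; exact hk) hc₀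

end Cfsg.Agent.H90
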