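import Cfsg.Agent.H90.Root2

/-! Three root subgroups `A, B, C` with `A, C` commuting and both in the commutator case with `B`. -/

set_option autoImplicit false

namespace Cfsg.Agent.H90
open Cfsg

variable {G : Type*} [Group G] {S : Set (Subgroup G)} {A B C D E F P : Subgroup G}

local notation "R1" => IsRankOnePair

/-- upper central series of a subgroup, inside the ambient group -/
def Zrel (R : Subgroup G) (n : ℕ) : Subgroup G := (Subgroup.upperCentralSeries R n).map R.subtype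

theorem zrel_conj {R : Subgroup G} {n : ℕ} {x r : G} (hx : x ∈ Zrel R n) (hr : r ∈ R) :
    r⁻¹ * x * r ∈ Zrel R n := by
  obtain ⟨y, hy, rfl⟩ := hx
  have hn : (Subgroup.upperCentralSeries R n).Normal := inferInstance
  exact ⟨_, hn.conj_mem' y hy ⟨r, hr⟩, rfl⟩

theorem zrel_succ {R : Subgroup G} {n : ℕ} {x : G} (hx : x ∈ R)
    (h : ∀ r ∈ R, x⁻¹ * r⁻¹ * x * r ∈ Zrel R n) : x ∈ Zrel R (n + 1) := by
  refine ⟨⟨x, hx⟩, ?_, rfl⟩
  rw [SetLike.mem_coe, ← Subgroup.inv_mem_iff, Subgroup.mem_upperCentralSeries_succ_iff]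
  intro y
  obtain ⟨z, hz, e⟩ := h _ (R.inv_mem y.2)
  rw [commutatorElement_def]
  have : (⟨x, hx⟩ : R)⁻¹ * y * (⟨x, hx⟩ : R)⁻¹⁻¹ * y⁻¹ = z := by
    apply Subtype.ext
    simpa using e.symm
  rw [this]; exact hz

theorem zrel_step {R : Subgroup G} {n : ℕ} {x : G} :
    ∃ K : Subgroup G, ∀ r, r ∈ K ↔ r ∈ R ∧ x⁻¹ * r⁻¹ * x * r ∈ Zrel R n := by
  refine ⟨{ carrier := {r | r ∈ R ∧ x⁻¹ * r⁻¹ * x * r ∈ Zrel R n}
            one_mem' := ⟨R.one_mem, by simp⟩
            mul_mem' := fun {r s} hr hs => ⟨R.mul_mem hr.1 hs.1, ?_⟩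
            inv_mem' := fun {r} hr => ⟨R.inv_mem hr.1, ?_⟩ }, fun r => Iff.rfl⟩
  · have := (Zrel R n).mul_mem hs.2 (zrel_conj hr.2 hs.1)
    convert this using 1; group
  · have := (Zrel R n).inv_mem (zrel_conj hr.2 (R.inv_mem hr.1))
    convert this using 1; group

theorem zrel_succ3 {n : ℕ} {x : G} (hx : x ∈ A ⊔ B ⊔ C)
    (hA : ∀ r ∈ A, x⁻¹ * r⁻¹ * x * r ∈ Zrel (A ⊔ B ⊔ C) n)
    (hB : ∀ r ∈ B, x⁻¹ * r⁻¹ * x * r ∈ Zrel (A ⊔ B ⊔ C) n)
    (hC : ∀ r ∈ C, x⁻¹ * r⁻¹ * x * r ∈ Zrel (A ⊔ B ⊔ C) n) : x ∈ Zrel (A ⊔ B ⊔ C) (n + 1) := by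
  obtain ⟨K, hK⟩ := zrel_step (R := A ⊔ B ⊔ C) (n := n) (x := x)
  have : A ⊔ B ⊔ C ≤ K := sup_le (sup_le
    (fun r hr => (hK r).2 ⟨Subgroup.mem_sup_left (Subgroup.mem_sup_left hr), hA r hr⟩)
    (fun r hr => (hK r).2 ⟨Subgroup.mem_sup_left (Subgroup.mem_sup_right hr), hB r hr⟩))
    (fun r hr => (hK r).2 ⟨Subgroup.mem_sup_right hr, hC r hr⟩)
  exact zrel_succ hx fun r hr => ((hK r).1 (this hr)).2

theorem zrel_mono {R : Subgroup G} {n m : ℕ} (h : n ≤ m) : Zrel R n ≤ Zrel R m :=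
  Subgroup.map_mono (Subgroup.upperCentralSeries_mono _ h)

theorem nilpotent_of_le_zrel {R : Subgroup G} {n : ℕ} (h : R ≤ Zrel R n) : Group.IsNilpotent R := by
  refine ⟨⟨n, ?_⟩⟩
  rw [eq_top_iff]
  intro x _
  obtain ⟨y, hy, e⟩ := h x.2
  rwa [← Subtype.ext e]

theorem comm_eq_one_of {x y : G} (h : x * y = y * x) : x⁻¹ * y⁻¹ * x * y = 1 := by
  rw [mul_assoc, mul_assoc, h]; group

/-- commutators `[a, f]`, `a ∈ A`, `f ∈ [C, B]`, commute with `A`, `C` and their conjugates under `b` -/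
theorem triple_comm (hS : IsRootSubgroupSet S) (hA : A ∈ S) (hC : C ∈ S) (hAC : Cm A C) (h1 : Sc S A B E)
    (h2 : Sc S C B F) {b : G} (hb : b ∈ B) (hb1 : b ≠ 1) {a f : G} (ha : a ∈ A) (hf : f ∈ F) :
    ∀ y ∈ (A ⊔ C ^~ b) ⊔ (A ^~ b ⊔ C), y * (a⁻¹ * f⁻¹ * a * f) = (a⁻¹ * f⁻¹ * a * f) * y := by
  obtain ⟨c, hc, e⟩ := h2.sL b hb hb1 f hf
  have e1 : a⁻¹ * f⁻¹ * a * f = a⁻¹ * (b⁻¹ * c * b)⁻¹ * a * (b⁻¹ * c * b) := by
    have := hAC a ha c hc
    rw [e]
    calc a⁻¹ * (c⁻¹ * b⁻¹ * c * b)⁻¹ * a * (c⁻¹ * b⁻¹ * c * b)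
        = a⁻¹ * (b⁻¹ * c * b)⁻¹ * (c * a) * c⁻¹ * (b⁻¹ * c * b) := by group
      _ = _ := by rw [← this]; group
  have hX : a⁻¹ * f⁻¹ * a * f ∈ A ⊔ C ^~ b := by
    rw [e1]
    exact Subgroup.commutator_le_sup _ _ (comm_mem_commutator ha (conj_mem_rc hc b))
  have hXY : Cm (A ⊔ C ^~ b) (A ^~ b ⊔ C) :=
    ((h1.symm.cm_rc hS hA hb).sup_right hAC).sup_left
      ((hAC.rc b).symm.sup_right (h2.symm.cm_rc hS hC hb).symm)
  refine comm_sup ?_ (fun y hy => (hXY _ hX y hy).symm)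
  rcases rs_tri hS hA (rs_rc hS hC b) with h3 | h3 | h3
  · intro y _
    rw [e1, comm_eq_one_of (h3 a ha _ (conj_mem_rc hc b))]; simp
  · exact absurd (r1_symm h3) (not_r1_triple hS hA hAC h2 hb hb1 hC)
  · have h4 := h3.comm a ha _ (conj_mem_rc hc b)
    rw [← e1] at h4
    exact comm_sup (fun y hy => (h3.cA _ h4 y hy).symm) (fun y hy => (h3.cB _ h4 y hy).symm)

theorem triple_nilpotent (hS : IsRootSubgroupSet S) (hA : A ∈ S) (hB : B ∈ S) (hC : C ∈ S) (hAC : Cm A C)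
    (h1 : Sc S A B E) (h2 : Sc S C B F) : Group.IsNilpotent ↥(A ⊔ B ⊔ C) := by
  obtain ⟨b, hb, hb1⟩ := rs_exists_ne_one hS hB
  set N := (A ⊔ C ^~ b) ⊔ (A ^~ b ⊔ C) with hN
  have hAN : A ≤ N := le_sup_left.trans le_sup_left
  have hCN : C ≤ N := le_sup_right.trans le_sup_right
  have hEN : E ≤ N := le_sup_right.trans ((h1.sup_rc hb hb1).symm.le.trans
    (sup_le hAN (le_sup_left.trans le_sup_right)))
  have hFN : F ≤ N := le_sup_right.trans ((h2.sup_rc hb hb1).symm.le.trans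
    (sup_le hCN (le_sup_right.trans le_sup_left)))
  have k1 : ∀ a ∈ A, ∀ f ∈ F, ∀ y ∈ N, y * (a⁻¹ * f⁻¹ * a * f) = (a⁻¹ * f⁻¹ * a * f) * y :=
    fun a ha f hf => triple_comm hS hA hC hAC h1 h2 hb hb1 ha hf
  have k2 : ∀ c ∈ C, ∀ e ∈ E, ∀ y ∈ N, y * (c⁻¹ * e⁻¹ * c * e) = (c⁻¹ * e⁻¹ * c * e) * y := by
    intro c hc e he y hy
    refine triple_comm hS hC hA hAC.symm h2 h1 hb hb1 hc he y ?_
    rwa [sup_comm C, sup_comm (C ^~ b), sup_comm]
  set R := A ⊔ B ⊔ C with hR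
  have hAR : A ≤ R := le_sup_left.trans le_sup_left
  have hBR : B ≤ R := le_sup_right.trans le_sup_left
  have hCR : C ≤ R := le_sup_right
  have hER : E ≤ R := h1.eq ▸ (Subgroup.commutator_le_sup _ _).trans (sup_le hAR hBR)
  have hFR : F ≤ R := h2.eq ▸ (Subgroup.commutator_le_sup _ _).trans (sup_le hCR hBR)
  have cR : ∀ x ∈ R, ∀ y ∈ R, x⁻¹ * y⁻¹ * x * y ∈ R := fun x hx y hy =>
    R.mul_mem (R.mul_mem (R.mul_mem (R.inv_mem hx) (R.inv_mem hy)) hx) hy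
  have one : ∀ {n : ℕ} {x y : G}, y * x = x * y → x⁻¹ * y⁻¹ * x * y ∈ Zrel R n := fun h => by
    rw [comm_eq_one_of h.symm]; exact one_mem _
  -- level one
  have z1 : ∀ e ∈ E, ∀ f ∈ F, e⁻¹ * f⁻¹ * e * f ∈ Zrel R 1 := by
    intro e he f hf
    have hcen : ∀ y ∈ N, y * (e⁻¹ * f⁻¹ * e * f) = (e⁻¹ * f⁻¹ * e * f) * y := by
      obtain ⟨c, hc, e1⟩ := h2.sL b hb hb1 f hf
      obtain ⟨a, ha, e2⟩ := h1.sL b hb hb1 e he
      -- [e, f] = [a, f]⁻¹ [c, e]⁻¹ ... computed from the commuting of the conjugates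
      have q1 := (hAC.rc b) _ (conj_mem_rc ha b) _ (conj_mem_rc hc b)
      have q2 : b⁻¹ * a * b = a * e := by rw [e2]; group
      have q3 : b⁻¹ * c * b = c * f := by rw [e1]; group
      rw [q2, q3] at q1
      have q4 := hAC a ha c hc
      have q5 := h1.cA e he a ha
      have q6 := h2.cA f hf c hc
      have u := k1 a ha f hf
      have v := k2 c hc e he
      set U := a⁻¹ * f⁻¹ * a * f with hU
      set V := c⁻¹ * e⁻¹ * c * e with hV
      have r1 : a * f = f * a * U := by rw [hU]; group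
      have r2 : c * e = e * c * V := by rw [hV]; group
      have r3 : e⁻¹ * f⁻¹ * e * f = V * U⁻¹ := by
        have s1 : e * c * f = f * c * e * U⁻¹ := by
          have t1 : a * (e * c * f) = a * (f * c * e * U⁻¹) := by
            calc a * (e * c * f) = a * e * (c * f) := by group
              _ = c * (f * a * U) * U⁻¹ * e := by rw [q1]; group
              _ = (c * a) * f * (U⁻¹ * e) := by rw [← r1]; group
              _ = a * (c * f) * (U⁻¹ * e) := by rw [← q4]; group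
              _ = _ := by
                rw [← q6]
                have : U⁻¹ * e = e * U⁻¹ := ((Commute.inv_right (u e (hEN he) : Commute e U)).eq).symm
                rw [this]; group
          exact mul_left_cancel t1
        have s2 : e * f * c = f * e * (V * U⁻¹) * c := by
          calc e * f * c = e * c * f := by rw [mul_assoc, q6, mul_assoc]
            _ = f * (c * e) * U⁻¹ := by rw [s1]; group
            _ = f * e * (c * V) * U⁻¹ := by rw [r2]; group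
            _ = f * e * V * (c * U⁻¹) := by rw [v c (hCN hc)]; group
            _ = _ := by rw [(Commute.inv_right (u c (hCN hc) : Commute c U)).eq]; group
        have s3 := mul_right_cancel s2
        calc e⁻¹ * f⁻¹ * e * f = e⁻¹ * f⁻¹ * (e * f) := by group
          _ = _ := by rw [s3]; group
      intro y hy
      rw [r3]
      exact ((Commute.mul_right (v y hy : Commute y V) (Commute.inv_right (u y hy : Commute y U)))).eq
    refine zrel_succ3 (cR _ (hER he) _ (hFR hf)) (fun r hr => one (hcen r (hAN hr))) (fun r hr => one ?_)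
      (fun r hr => one (hcen r (hCN hr)))
    have c1 : Commute r e := (h1.cB e he r hr).symm
    have c2 : Commute r f := (h2.cB f hf r hr).symm
    exact (((c1.inv_right.mul_right c2.inv_right).mul_right c1).mul_right c2).eq
  have z1' : ∀ e ∈ E, ∀ f ∈ F, f⁻¹ * e⁻¹ * f * e ∈ Zrel R 1 := fun e he f hf => by
    have := (Zrel R 1).inv_mem (z1 e he f hf)
    convert this using 1; group
  -- level two
  have z2 : ∀ {A E F : Subgroup G}, A ≤ R → F ≤ R → A ≤ N → E ≤ N → F ≤ N → Sc S A B E → Cm F B →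
      (∀ a ∈ A, ∀ f ∈ F, ∀ y ∈ N, y * (a⁻¹ * f⁻¹ * a * f) = (a⁻¹ * f⁻¹ * a * f) * y) →
      (∀ e ∈ E, ∀ f ∈ F, e⁻¹ * f⁻¹ * e * f ∈ Zrel R 1) →
      ∀ a ∈ A, ∀ f ∈ F, a⁻¹ * f⁻¹ * a * f ∈ Zrel R 2 := by
    intro A' E' F' hA' hF' hA'N hE'N hF'N s hFB k z a ha f hf
    refine zrel_succ3 (cR _ (hA' ha) _ (hF' hf)) (fun r hr => one (k a ha f hf r (hAN hr))) (fun r hr => ?_)
      (fun r hr => one (k a ha f hf r (hCN hr)))
    have he := s.comm a ha r hr
    set e := a⁻¹ * r⁻¹ * a * r with he'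
    have q1 : r⁻¹ * a * r = a * e := by rw [he']; group
    have q2 : r⁻¹ * f * r = f := by rw [mul_assoc, hFB f hf r hr]; group
    have q3 := k a ha f hf e (hE'N he)
    convert z e he f hf using 1
    set U := a⁻¹ * f⁻¹ * a * f with hU
    have q4 : r⁻¹ * U * r = U * (e⁻¹ * f⁻¹ * e * f) := by
      calc r⁻¹ * U * r = (r⁻¹ * a * r)⁻¹ * (r⁻¹ * f * r)⁻¹ * (r⁻¹ * a * r) * (r⁻¹ * f * r) := by rw [hU]; group
        _ = e⁻¹ * U * f⁻¹ * e * f := by rw [q1, q2, hU]; group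
        _ = _ := by rw [(Commute.inv_left (q3 : Commute e U)).eq]; group
    calc U⁻¹ * r⁻¹ * U * r = U⁻¹ * (r⁻¹ * U * r) := by group
      _ = _ := by rw [q4]; group
  have z2a := z2 hAR hFR hAN hEN hFN h1 h2.cB k1 z1
  have z2c := z2 hCR hER hCN hFN hEN h2 h1.cB k2 (fun f hf e he => z1' e he f hf)
  have inv2 : ∀ {n : ℕ} {x y : G}, x⁻¹ * y⁻¹ * x * y ∈ Zrel R n → y⁻¹ * x⁻¹ * y * x ∈ Zrel R n := fun h => by
    have := (Zrel R _).inv_mem h
    convert this using 1; group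
  have z3e : E ≤ Zrel R 3 := fun e he =>
    zrel_succ3 (hER he) (fun r hr => one (h1.cA e he r hr).symm) (fun r hr => one (h1.cB e he r hr).symm)
      (fun r hr => inv2 (z2c r hr e he))
  have z3f : F ≤ Zrel R 3 := fun f hf =>
    zrel_succ3 (hFR hf) (fun r hr => inv2 (z2a r hr f hf)) (fun r hr => one (h2.cB f hf r hr).symm)
      (fun r hr => one (h2.cA f hf r hr).symm)
  refine nilpotent_of_le_zrel (n := 4) (sup_le (sup_le (fun a ha => ?_) (fun b hb => ?_)) (fun c hc => ?_))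
  · exact zrel_succ3 (hAR ha) (fun r hr => one (rs_cm hS hA r hr a ha)) (fun r hr => z3e (h1.comm a ha r hr))
      (fun r hr => one (hAC a ha r hr).symm)
  · exact zrel_succ3 (hBR hb) (fun r hr => inv2 (z3e (h1.comm r hr b hb))) (fun r hr => one (rs_cm hS hB r hr b hb))
      (fun r hr => inv2 (z3f (h2.comm r hr b hb)))
  · exact zrel_succ3 (hCR hc) (fun r hr => one (hAC r hr c hc)) (fun r hr => z3f (h2.comm c hc r hr))
      (fun r hr => one (rs_cm hS hC r hr c hc))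

end Cfsg.Agent.H90
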