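import Cfsg.Agent.H90.QP4
import Cfsg.Agent.H90.Root3
import Cfsg.Agent.S5030

/-! Quadratic pairs: `Σ` is a set of abstract root subgroups. -/

set_option autoImplicit false

namespace Cfsg.Agent.H90
open Cfsg LinearMap

universe u

theorem sup_induction' {G : Type*} [Group G] {A B : Subgroup G} {P : G → Prop} (hA : ∀ a ∈ A, P a)
    (hB : ∀ b ∈ B, P b) (hmul : ∀ x y, P x → P y → P (x * y)) {x : G} (hx : x ∈ A ⊔ B) : P x := by
  rw [sup_eq_iSup] at hx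
  refine Subgroup.iSup_induction (C := P) _ hx ?_ (hA 1 A.one_mem) hmul
  rintro (_ | _)
  · exact hB
  · exact hA

variable {k : Type u} [Field k] {M : Type*} [AddCommGroup M] [Module k M] [FiniteDimensional k M]
variable {G : Subgroup (M →ₗ[k] M)ˣ} {a b c f x y a' b' : M →ₗ[k] M}

theorem QD.cm_of (h2 : (2 : k) ≠ 0) (ha : QD G a) (hb : QD G b) (h : a * b - b * a = 0) :
    Cm (EE G a ha.sq) (EE G b hb.sq) := by
  have hn : a * b * a = 0 := by rw [sub_eq_zero.1 h, mul_assoc, ha.sq, mul_zero]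
  intro g hg g' hg'
  obtain ⟨x, hx, rfl⟩ := exists_of_mem_EE hg
  obtain ⟨y, hy, rfl⟩ := exists_of_mem_EE hg'
  have : x * y - y * x = 0 := by
    by_cases h0 : x = 0
    · simp [h0]
    by_cases h1 : y = 0
    · simp [h1]
    by_contra hc
    exact (hx.qd ha h0).noncomm h2 (hy.qd hb h1) (nil_transfer h2 ha hb hn hx hy).1 hc
      ((hx.sim ha h0).symm.inE ha.qe) ha.ne ((hy.sim hb h1).symm.inE hb.qe) hb.ne h
  apply Units.ext
  simp only [Units.val_mul, un_val]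
  linear_combination (norm := noncomm_ring) this

omit [FiniteDimensional k M] in
theorem QD.of_cm (ha : QD G a) (hb : QD G b) (h : Cm (EE G a ha.sq) (EE G b hb.sq)) : a * b - b * a = 0 := by
  have := congrArg Units.val (h _ (InE.self ha.qe).un_mem _ (InE.self hb.qe).un_mem)
  simp only [Units.val_mul, un_val] at this
  linear_combination (norm := noncomm_ring) this

theorem QD.comm_mem (h2 : (2 : k) ≠ 0) (ha : QD G a) (hb : QD G b) (h : a * b * a = 0)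
    (h0 : a * b - b * a ≠ 0) {g g' : (M →ₗ[k] M)ˣ} (hg : g ∈ EE G a ha.sq) (hg' : g' ∈ EE G b hb.sq) :
    g * g' * g⁻¹ * g'⁻¹ ∈ EE G (a * b - b * a) (ha.L4 h2 hb h h0).1.sq := by
  obtain ⟨x, hx, rfl⟩ := exists_of_mem_EE hg
  obtain ⟨y, hy, rfl⟩ := exists_of_mem_EE hg'
  have := nil_transfer h2 ha hb h hx hy
  rw [mem_EE, un_comm _ _ this.1 this.2, add_sub_cancel_left]
  exact ha.comm_inE h2 hb h h0 hx hy

theorem QD.comm_surj (h2 : (2 : k) ≠ 0) (h3 : Nat.card k ≠ 3) (hG : NoUnip k G) (ha : QD G a) (hb : QD G b)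
    (h : a * b * a = 0) (h0 : a * b - b * a ≠ 0) {g d : (M →ₗ[k] M)ˣ} (hg : g ∈ EE G a ha.sq) (hg1 : g ≠ 1)
    (hd : d ∈ EE G (a * b - b * a) (ha.L4 h2 hb h h0).1.sq) : ∃ g' ∈ EE G b hb.sq, g * g' * g⁻¹ * g'⁻¹ = d := by
  obtain ⟨x, hx, rfl⟩ := exists_of_mem_EE hg
  obtain ⟨c, hc, rfl⟩ := exists_of_mem_EE hd
  have hx0 : x ≠ 0 := fun e => hg1 (un_eq_one.2 e)
  have h1 := ha.noncomm_left h2 hb h h0 hx hx0
  have s := (ha.comm_inE h2 hb h h0 hx (InE.self hb.qe)).sim (ha.L4 h2 hb h h0).1 h1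
  obtain ⟨β, hβ, e⟩ := (hx.qd ha hx0).L5 h2 h3 hG hb (nil_transfer h2 ha hb h hx (InE.self hb.qe)).1 h1
    (hc.congr s.symm)
  have := nil_transfer h2 ha hb h hx hβ
  exact ⟨_, hβ.un_mem, Units.ext (by rw [un_comm _ _ this.1 this.2, e, un_val])⟩

theorem QD.commutator_eq (h2 : (2 : k) ≠ 0) (h3 : Nat.card k ≠ 3) (hG : NoUnip k G) (ha : QD G a) (hb : QD G b)
    (h : a * b * a = 0) (h0 : a * b - b * a ≠ 0) :
    ⁅EE G a ha.sq, EE G b hb.sq⁆ = EE G (a * b - b * a) (ha.L4 h2 hb h h0).1.sq := by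
  apply le_antisymm
  · rw [Subgroup.commutator_le]
    intro g hg g' hg'
    rw [commutatorElement_def]
    exact ha.comm_mem h2 hb h h0 hg hg'
  · intro d hd
    obtain ⟨g', hg', rfl⟩ := ha.comm_surj h2 h3 hG hb h h0 (InE.self ha.qe).un_mem
      (fun e => ha.ne (un_eq_one.1 e)) hd
    rw [← commutatorElement_def]
    exact Subgroup.commutator_mem_commutator (InE.self ha.qe).un_mem hg'

theorem QD.rcc (h2 : (2 : k) ≠ 0) (h3 : Nat.card k ≠ 3) (hG : NoUnip k G) (ha : QD G a) (hb : QD G b)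
    (h : a * b * a = 0) (h0 : a * b - b * a ≠ 0) :
    RootCommutatorCase (quadraticRootSubgroups G) (EE G a ha.sq) (EE G b hb.sq) := by
  have h' := hb.L1 h2 ha.qe h
  have h0' : b * a - a * b ≠ 0 := by rw [← neg_sub]; exact neg_ne_zero.2 h0
  have hc := (ha.L4 h2 hb h h0).1
  have e := ha.commutator_eq h2 h3 hG hb h h0
  have e' := hb.commutator_eq h2 h3 hG ha h' h0'
  rw [Subgroup.commutator_comm] at e'
  refine ⟨e ▸ hc.EE_mem, ?_, ?_, ?_⟩
  · rw [e]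
    intro d hd g hg
    refine (Cm.sup_right (hc.cm_of h2 ha ?_) (hc.cm_of h2 hb ?_)) d hd g hg
    · simp [mul_sub, sub_mul, mul_assoc, ha.sq, z3 ha.sq, z4' h]
    · simp [mul_sub, sub_mul, mul_assoc, hb.sq, z3 hb.sq, z4' h']
  · intro g hg hg1
    apply le_antisymm
    · rw [Subgroup.closure_le]
      rintro _ ⟨g', hg', rfl⟩
      rw [e]; exact ha.comm_mem h2 hb h h0 hg hg'
    · intro d hd
      rw [e] at hd
      exact Subgroup.subset_closure (ha.comm_surj h2 h3 hG hb h h0 hg hg1 hd)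
  · intro g hg hg1
    apply le_antisymm
    · rw [Subgroup.closure_le]
      rintro _ ⟨g', hg', rfl⟩
      rw [e]; exact ha.comm_mem h2 hb h h0 hg' hg
    · intro d hd
      rw [e'] at hd
      obtain ⟨g', hg', e1⟩ := hb.comm_surj h2 h3 hG ha h' h0' hg hg1 (Subgroup.inv_mem _ hd)
      refine Subgroup.subset_closure ⟨g', hg', ?_⟩
      rw [← inv_inj, ← e1]; group

theorem QD.core (h2 : (2 : k) ≠ 0) (h3 : Nat.card k ≠ 3) (hG : NoUnip k G) (ha : QD G a) (hb : QD G b)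
    (h : a * b * a = 0) (h0 : a * b - b * a ≠ 0) :
    ((EE G a ha.sq ⊔ EE G b hb.sq : Subgroup (GeneralLinearGroup k M)) : Set (GeneralLinearGroup k M)) ⊆
      quadraticUnipotentCore G ⁅EE G a ha.sq, EE G b hb.sq⁆ := by
  have h' := hb.L1 h2 ha.qe h
  have h0' : b * a - a * b ≠ 0 := by rw [← neg_sub]; exact neg_ne_zero.2 h0
  have hc := (ha.L4 h2 hb h h0).1
  intro g hg
  refine ⟨(sup_le EE_le EE_le : _ ≤ G) hg, rc_eq_self_iff_mem_normalizer.1
    (rc_of_comm fun d hd => (ha.rcc h2 h3 hG hb h h0).2.1 d hd g hg), ?_⟩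
  rw [ha.commutator_eq h2 h3 hG hb h h0, fixedSubmodule_EE hc.qe, commutatorSubmodule_EE hc.qe]
  have hVC : range (a * b - b * a) ≤ ker (a * b - b * a) := mul_eq_zero_iff_le.1 hc.sq
  refine sup_induction' (P := fun g : (M →ₗ[k] M)ˣ => (∀ m : M, (g : M →ₗ[k] M) m - m ∈ ker (a * b - b * a)) ∧
    (∀ m ∈ ker (a * b - b * a), (g : M →ₗ[k] M) m - m ∈ range (a * b - b * a)) ∧
    (∀ m ∈ range (a * b - b * a), (g : M →ₗ[k] M) m = m)) ?_ ?_ ?_ hg
  · intro g hg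
    obtain ⟨x, hx, rfl⟩ := exists_of_mem_EE hg
    simpa using ha.uu h2 hb h h0 hx
  · intro g hg
    obtain ⟨x, hx, rfl⟩ := exists_of_mem_EE hg
    have := hb.uu h2 ha h' h0' hx
    rw [← neg_sub, ker_neg, range_neg] at this
    simpa using this
  · rintro g g' ⟨p1, p2, p3⟩ ⟨q1, q2, q3⟩
    refine ⟨fun m => ?_, fun m hm => ?_, fun m hm => ?_⟩
    · simpa using add_mem (p1 ((g' : M →ₗ[k] M) m)) (q1 m)
    · have h5 : (g' : M →ₗ[k] M) m ∈ ker (a * b - b * a) := by simpa using add_mem (hVC (q2 m hm)) hm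
      simpa using add_mem (p2 _ h5) (q2 m hm)
    · simp [q3 m hm, p3 m hm]

theorem Sigma_tri (h2 : (2 : k) ≠ 0) (h3 : Nat.card k ≠ 3) (hG : NoUnip k G)
    {A B : Subgroup (GeneralLinearGroup k M)} (hA : A ∈ quadraticRootSubgroups G) (hB : B ∈ quadraticRootSubgroups G) :
    ⁅A, B⁆ = ⊥ ∨ IsRankOnePair A B ∨ RootCommutatorCase (quadraticRootSubgroups G) A B := by
  obtain ⟨a, ha, rfl⟩ := mem_Sigma.1 hA
  obtain ⟨b, hb, rfl⟩ := mem_Sigma.1 hB
  by_cases h : a * b * a = 0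
  · by_cases h0 : a * b - b * a = 0
    · exact Or.inl (cm_iff.1 (ha.cm_of h2 hb h0))
    · exact Or.inr (Or.inr (ha.rcc h2 h3 hG hb h h0))
  · exact Or.inr (Or.inl (ha.r1 h2 h3 hb h))

theorem Sigma_partner (h2 : (2 : k) ≠ 0) (h3 : Nat.card k ≠ 3) (hG : NoUnip k G)
    {A : Subgroup (GeneralLinearGroup k M)} (hA : A ∈ quadraticRootSubgroups G) :
    ∃ B ∈ quadraticRootSubgroups G, IsRankOnePair A B := by
  obtain ⟨a, ha, rfl⟩ := mem_Sigma.1 hA
  obtain ⟨f, hf, mu⟩ := ha.exists_opp h2 h3 hG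
  exact ⟨_, hf.EE_mem, ha.r1 h2 h3 hf (by rw [mu.efe]; exact ha.ne)⟩

theorem three_lt_card (h2 : (2 : k) ≠ 0) (h3 : Nat.card k ≠ 3) : 3 < ENat.card k := by
  obtain ⟨c, hc0, hc⟩ := exists_sq_ne_one h2 h3
  have hc1 : c ≠ 1 := by rintro rfl; simp at hc
  have hc2 : c ≠ -1 := by rintro rfl; simp at hc
  have h1 : (1 : k) ≠ -1 := fun h => h2 (by linear_combination h)
  have : Function.Injective (![0, 1, -1, c] : Fin 4 → k) := by
    intro i j
    fin_cases i <;> fin_cases j <;> simp [hc0, hc1, hc2, h1, hc0.symm, hc1.symm, hc2.symm, h1.symm]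
  have h4 := ENat.card_le_card_of_injective this
  rw [ENat.card_eq_coe_fintype_card, Fintype.card_fin] at h4
  exact lt_of_lt_of_le (by decide) h4

theorem Sigma_psl2 (h2 : (2 : k) ≠ 0) (h3 : Nat.card k ≠ 3)
    {A B : Subgroup (GeneralLinearGroup k M)} (hA : A ∈ quadraticRootSubgroups G) (hB : B ∈ quadraticRootSubgroups G)
    (h : IsRankOnePair A B) : ∃ A₀ B₀ : Subgroup (GeneralLinearGroup k M), A₀ ≤ A ∧ B₀ ≤ B ∧
      ∃ (k₁ : Type u) (_ : Field k₁), 3 < ENat.card k₁ ∧ IsPSL2PairOver k₁ A₀ B₀ := by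
  obtain ⟨a, ha, rfl⟩ := mem_Sigma.1 hA
  obtain ⟨b, hb, rfl⟩ := mem_Sigma.1 hB
  obtain ⟨f, hf, mu⟩ := ha.exists_mu h2 h3 hb (ha.not_nil_of_r1 h2 hb h)
  obtain ⟨φ, h4, h5⟩ := mu.exists_hom (k := k)
  refine ⟨fam k a mu.ee, fam k f mu.ff, ?_, ?_, k, inferInstance, three_lt_card h2 h3, psl2Pair_of_hom φ ?_ ?_ ?_⟩
  · rintro g ⟨c, hc⟩; rw [mem_EE, hc, add_sub_cancel_left]; exact (InE.self ha.qe).smul c
  · rintro g ⟨c, hc⟩; rw [mem_EE, hc, add_sub_cancel_left]; exact hf.smul c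
  · exact fun g => exists_congr fun t => by rw [← h4, Units.val_inj]
  · exact fun g => exists_congr fun t => by rw [← h5, Units.val_inj]
  · intro hc
    have := congrArg Units.val (hc _ (qe_fam mu.ee).un_mem _ (qe_fam mu.ff).un_mem)
    simp only [Units.val_mul, un_val] at this
    have h1 : a * f = f * a := by linear_combination (norm := noncomm_ring) this
    apply ha.ne
    rw [← mu.efe, h1, mul_assoc, ha.sq, mul_zero]

theorem Sigma_sp (h2 : (2 : k) ≠ 0) (h3 : Nat.card k ≠ 3)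
    {A B : Subgroup (GeneralLinearGroup k M)} (hA : A ∈ quadraticRootSubgroups G) (hB : B ∈ quadraticRootSubgroups G)
    (h : IsRankOnePair A B) : IsSpecialRankOnePair A B ∧ Cm A A ∧ 3 < ENat.card A := by
  obtain ⟨a, ha, rfl⟩ := mem_Sigma.1 hA
  obtain ⟨b, hb, rfl⟩ := mem_Sigma.1 hB
  refine ⟨ha.sp h2 h3 hb (ha.not_nil_of_r1 h2 hb h), EE_cm, (three_lt_card h2 h3).trans_le ?_⟩
  refine ENat.card_le_card_of_injective (f := fun c : k => (⟨_, ((InE.self ha.qe).smul c).un_mem⟩ : EE G a ha.sq)) ?_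
  intro c d e
  have := congrArg (fun g : EE G a ha.sq => ((g : (M →ₗ[k] M)ˣ) : M →ₗ[k] M)) e
  simp only [un_val, add_right_inj] at this
  exact smul_left_injective k ha.ne this

section Transfer
variable {Γ : Type*} [Group Γ] {S : Set (Subgroup Γ)} {U A B : Subgroup Γ}

theorem subgroupOf_rc (A : Subgroup Γ) (g : U) : (A ^~ (g : Γ)).subgroupOf U = A.subgroupOf U ^~ g := by
  ext x
  rw [Subgroup.mem_subgroupOf, mem_rc, mem_rc, Subgroup.mem_subgroupOf]; rfl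

theorem map_subgroupOf (h : A ≤ U) : (A.subgroupOf U).map U.subtype = A := Subgroup.map_subgroupOf_eq_of_le h

theorem subgroupOf_commutator (hA : A ≤ U) (hB : B ≤ U) :
    ⁅A.subgroupOf U, B.subgroupOf U⁆ = ⁅A, B⁆.subgroupOf U := by
  apply Subgroup.map_injective U.subtype_injective
  rw [Subgroup.map_commutator, map_subgroupOf hA, map_subgroupOf hB,
    map_subgroupOf ((Subgroup.commutator_le_sup _ _).trans (sup_le hA hB))]

theorem subgroupOf_sup' (hA : A ≤ U) (hB : B ≤ U) :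
    A.subgroupOf U ⊔ B.subgroupOf U = (A ⊔ B).subgroupOf U := by
  apply Subgroup.map_injective U.subtype_injective
  rw [Subgroup.map_sup, map_subgroupOf hA, map_subgroupOf hB, map_subgroupOf (sup_le hA hB)]

theorem cm_subgroupOf (hA : A ≤ U) (hB : B ≤ U) : Cm (A.subgroupOf U) (B.subgroupOf U) ↔ Cm A B :=
  ⟨fun h a ha b hb => congrArg Subtype.val (h ⟨a, hA ha⟩ ha ⟨b, hB hb⟩ hb),
    fun h a ha b hb => Subtype.ext (h a ha b hb)⟩

theorem rcc_subgroupOf (hA : A ≤ U) (hB : B ≤ U) (h : RootCommutatorCase S A B) :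
    RootCommutatorCase ((fun A => A.subgroupOf U) '' S) (A.subgroupOf U) (B.subgroupOf U) := by
  have hC : ⁅A, B⁆ ≤ U := (Subgroup.commutator_le_sup _ _).trans (sup_le hA hB)
  rw [RootCommutatorCase, subgroupOf_commutator hA hB, subgroupOf_sup' hA hB]
  refine ⟨⟨_, h.1, rfl⟩, fun c hc x hx => Subtype.ext (h.2.1 c hc x hx), fun a ha ha1 => ?_, fun b hb hb1 => ?_⟩
  · apply Subgroup.map_injective U.subtype_injective
    rw [map_subgroupOf hC, ← h.2.2.1 a ha (fun e => ha1 (Subtype.ext e)), MonoidHom.map_closure]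
    congr 1
    ext x
    constructor
    · rintro ⟨_, ⟨b, hb, rfl⟩, rfl⟩; exact ⟨b, hb, rfl⟩
    · rintro ⟨b, hb, rfl⟩; exact ⟨_, ⟨⟨b, hB hb⟩, hb, rfl⟩, rfl⟩
  · apply Subgroup.map_injective U.subtype_injective
    rw [map_subgroupOf hC, ← h.2.2.2 b hb (fun e => hb1 (Subtype.ext e)), MonoidHom.map_closure]
    congr 1
    ext x
    constructor
    · rintro ⟨_, ⟨a, ha, rfl⟩, rfl⟩; exact ⟨a, ha, rfl⟩
    · rintro ⟨a, ha, rfl⟩; exact ⟨_, ⟨⟨a, hA ha⟩, ha, rfl⟩, rfl⟩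

theorem rs_subgroupOf (h1 : ∀ A ∈ S, Cm A A) (h2 : ∀ A ∈ S, A ≠ ⊥) (h3 : ∀ A ∈ S, ∀ g ∈ ⨆ B ∈ S, B, A ^~ g ∈ S)
    (h4 : ∀ A ∈ S, ∀ B ∈ S, ⁅A, B⁆ = ⊥ ∨ IsRankOnePair A B ∨ RootCommutatorCase S A B) :
    IsRootSubgroupSet ((fun A : Subgroup Γ => A.subgroupOf (⨆ B ∈ S, B)) '' S) := by
  have hle : ∀ A ∈ S, A ≤ ⨆ B ∈ S, B := fun A hA => le_iSup₂_of_le A hA le_rfl
  refine ⟨?_, ?_, ?_, ?_, ?_⟩
  · rintro _ ⟨A, hA, rfl⟩
    exact cm_self_iff.1 ((cm_subgroupOf (hle A hA) (hle A hA)).2 (h1 A hA))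
  · rintro _ ⟨A, hA, rfl⟩ e
    apply h2 A hA
    rw [← map_subgroupOf (hle A hA)]
    exact (congrArg (Subgroup.map _) e).trans (Subgroup.map_bot _)
  · apply Subgroup.map_injective (Subgroup.subtype_injective _)
    rw [← MonoidHom.range_eq_map, Subgroup.range_subtype, iSup_image]
    simp only [Subgroup.map_iSup]
    exact biSup_congr fun A hA => map_subgroupOf (hle A hA)
  · rintro _ ⟨A, hA, rfl⟩ g
    rw [conjBy_eq_rc, ← subgroupOf_rc]
    exact ⟨_, h3 A hA _ (g⁻¹).2, rfl⟩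
  · rintro _ ⟨A, hA, rfl⟩ _ ⟨B, hB, rfl⟩
    rcases h4 A hA B hB with h | h | h
    · exact Or.inl (cm_iff.1 ((cm_subgroupOf (hle A hA) (hle B hB)).2 (cm_iff.2 h)))
    · exact Or.inr (Or.inl ((r1_subgroupOf (hle A hA) (hle B hB)).2 h))
    · exact Or.inr (Or.inr (rcc_subgroupOf (hle A hA) (hle B hB) h))

end Transfer

theorem Sigma_cm {A : Subgroup (GeneralLinearGroup k M)} (hA : A ∈ quadraticRootSubgroups G) : Cm A A := by
  obtain ⟨a, ha, rfl⟩ := mem_Sigma.1 hA; exact EE_cm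

theorem Sigma_ne_bot {A : Subgroup (GeneralLinearGroup k M)} (hA : A ∈ quadraticRootSubgroups G) : A ≠ ⊥ := by
  obtain ⟨a, ha, rfl⟩ := mem_Sigma.1 hA
  intro e
  exact ha.ne (un_eq_one.1 (Subgroup.mem_bot.1 (e ▸ (InE.self ha.qe).un_mem (ha := ha.sq))))

theorem Sigma_rs (h2 : (2 : k) ≠ 0) (h3 : Nat.card k ≠ 3) (hG : NoUnip k G) :
    IsRootSubgroupSet ((fun A : Subgroup (GeneralLinearGroup k M) =>
      A.subgroupOf (⨆ B ∈ quadraticRootSubgroups G, B)) '' quadraticRootSubgroups G) :=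
  rs_subgroupOf (fun _ => Sigma_cm) (fun _ => Sigma_ne_bot)
    (fun _ hA _ hg => Sigma_rc hA ((iSup₂_le fun _ => Sigma_le : _ ≤ G) hg)) (fun _ hA _ hB => Sigma_tri h2 h3 hG hA hB)

end Cfsg.Agent.H90
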