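import Cfsg.Agent.H90.QP5
import Cfsg.Agent.S5031

/-! Quadratic pairs: the components of `Σ`. -/

set_option autoImplicit false

namespace Cfsg.Agent.H90
open Cfsg LinearMap

universe u

section Abstract
variable {Γ : Type*} [Group Γ] {S : Set (Subgroup Γ)} {U A B : Subgroup Γ}

theorem quasisimple_of_normal {K : Subgroup Γ} (hp : ⁅K, K⁆ = K) (hne : ¬ Cm K K)
    (h : ∀ N ≤ K, (∀ g ∈ K, N ^~ g = N) → N = K ∨ Cm N K) : IsQuasisimple K := by
  refine ⟨Subgroup.isPerfect_iff.2 hp, ?_⟩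
  have hnt : Nontrivial (K ⧸ Subgroup.center K) := by
    rw [QuotientGroup.nontrivial_iff]
    intro e
    apply hne
    intro a ha b hb
    have : (⟨b, hb⟩ : K) ∈ Subgroup.center K := by rw [e]; trivial
    exact congrArg Subtype.val (Subgroup.mem_center_iff.1 this ⟨a, ha⟩)
  refine { eq_bot_or_eq_top_of_normal := fun M hM => ?_ }
  let N := M.comap (QuotientGroup.mk' (Subgroup.center K))
  have hN : N.Normal := hM.comap _
  rcases h (N.map K.subtype) (Subgroup.map_subtype_le _) (fun g hg => by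
    have := rc_map K.subtype N ⟨g, hg⟩
    rw [rc_eq_self_iff_mem_normalizer.2 (by rw [Subgroup.normalizer_eq_top]; trivial)] at this
    exact this.symm) with h1 | h1
  · right
    rw [eq_top_iff]
    intro q _
    obtain ⟨x, rfl⟩ := QuotientGroup.mk'_surjective _ q
    obtain ⟨y, hy, e⟩ : (x : Γ) ∈ N.map K.subtype := h1.symm ▸ x.2
    rwa [← Subtype.ext e]
  · left
    rw [eq_bot_iff]
    intro q hq
    obtain ⟨x, rfl⟩ := QuotientGroup.mk'_surjective _ q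
    rw [Subgroup.mem_bot, QuotientGroup.mk'_apply, QuotientGroup.eq_one_iff, Subgroup.mem_center_iff]
    intro g
    exact Subtype.ext (h1 x ⟨x, hq, rfl⟩ g g.2).symm

/-- root subgroups of the subgroup they generate, without isolated vertices -/
structure RS (S : Set (Subgroup Γ)) : Prop where
  cm : ∀ A ∈ S, Cm A A
  ne : ∀ A ∈ S, A ≠ ⊥
  rc : ∀ A ∈ S, ∀ g ∈ ⨆ B ∈ S, B, A ^~ g ∈ S
  tri : ∀ A ∈ S, ∀ B ∈ S, ⁅A, B⁆ = ⊥ ∨ IsRankOnePair A B ∨ RootCommutatorCase S A B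
  partner : ∀ A ∈ S, ∃ B ∈ S, IsRankOnePair A B

theorem le_biSup' (hA : A ∈ S) : A ≤ ⨆ B ∈ S, B := le_iSup₂_of_le A hA le_rfl

theorem RS.rs (h : RS S) : IsRootSubgroupSet ((fun A : Subgroup Γ => A.subgroupOf (⨆ B ∈ S, B)) '' S) :=
  rs_subgroupOf h.cm h.ne h.rc h.tri

theorem conn_of_subgroupOf (hU : ∀ A ∈ S, A ≤ U) {X Y : Subgroup U}
    (h : Conn ((fun A : Subgroup Γ => A.subgroupOf U) '' S) X Y) : Conn S (X.map U.subtype) (Y.map U.subtype) := by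
  induction h with
  | refl => exact Relation.ReflTransGen.refl
  | tail _ h2 ih =>
    obtain ⟨⟨P, hP, rfl⟩, ⟨Q, hQ, rfl⟩, h3⟩ := h2
    refine ih.tail ?_
    rw [map_subgroupOf (hU P hP), map_subgroupOf (hU Q hQ)]
    exact ⟨hP, hQ, (r1_subgroupOf (hU P hP) (hU Q hQ)).1 h3⟩

theorem RS.partner' (h : RS S) : ∀ X ∈ (fun A : Subgroup Γ => A.subgroupOf (⨆ B ∈ S, B)) '' S,
    ∃ Y ∈ (fun A : Subgroup Γ => A.subgroupOf (⨆ B ∈ S, B)) '' S, IsRankOnePair X Y := by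
  rintro _ ⟨A, hA, rfl⟩
  obtain ⟨B, hB, h1⟩ := h.partner A hA
  exact ⟨_, ⟨B, hB, rfl⟩, (r1_subgroupOf (le_biSup' hA) (le_biSup' hB)).2 h1⟩

theorem RS.conn_rc (h : RS S) (hA : A ∈ S) {g : Γ} (hg : g ∈ ⨆ B ∈ S, B) : Conn S A (A ^~ g) := by
  obtain ⟨Y, hY, h1⟩ := h.partner' _ ⟨A, hA, rfl⟩
  have := conn_of_subgroupOf (fun A hA => le_biSup' hA) (H90.conn_rc h.rs ⟨A, hA, rfl⟩ hY h1 ⟨g, hg⟩)
  rwa [← subgroupOf_rc, map_subgroupOf (le_biSup' hA), map_subgroupOf (le_biSup' (h.rc A hA g hg))] at this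

theorem sc_conn {C : Subgroup Γ} (hS : IsRootSubgroupSet S) (hF : ∀ X ∈ S, ∃ Y ∈ S, IsRankOnePair X Y) (hA : A ∈ S)
    (h : Sc S A B C) : Conn S A C := by
  obtain ⟨D, hD, hAD⟩ := hF A hA
  obtain ⟨E, hE, hCE⟩ := hF C h.mem
  by_contra hn
  refine S5031.result hS hA h.mem (fun e => hn ?_) ⟨D, ⟨hD, conn_of_r1 hA hD hAD⟩, hAD.ne.symm⟩
    ⟨E, ⟨hE, conn_of_r1 h.mem hE hCE⟩, hCE.ne.symm⟩ (ln_iff.2 (h.ln hS hA hD hAD))
  have : C ∈ componentOf (FAdj S) S A := e ▸ ⟨h.mem, Relation.ReflTransGen.refl⟩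
  exact this.2

theorem RS.conn_rcc (h : RS S) (hA : A ∈ S) (hB : B ∈ S) (hc : RootCommutatorCase S A B) :
    Conn S A ⁅A, B⁆ ∧ Conn S B ⁅A, B⁆ := by
  have h1 := sc_of_rcc (rcc_subgroupOf (le_biSup' hA) (le_biSup' hB) hc)
  have h2 := conn_of_subgroupOf (fun A hA => le_biSup' hA) (sc_conn h.rs h.partner' ⟨A, hA, rfl⟩ h1)
  have h3 := conn_of_subgroupOf (fun A hA => le_biSup' hA) (sc_conn h.rs h.partner' ⟨B, hB, rfl⟩ h1.symm)
  rw [Subgroup.map_commutator, map_subgroupOf (le_biSup' hA), map_subgroupOf (le_biSup' hB)] at h2 h3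
  exact ⟨h2, h3⟩

theorem RS.cm_of_not_conn (h : RS S) (hA : A ∈ S) (hB : B ∈ S) (hn : ¬ Conn S A B) : Cm A B := by
  rcases h.tri A hA B hB with h1 | h1 | h1
  · exact cm_iff.2 h1
  · exact absurd (conn_of_r1 hA hB h1) hn
  · exact absurd ((h.conn_rcc hA hB h1).1.trans (h.conn_rcc hA hB h1).2.symm') hn

theorem RS.comp_rc (h : RS S) (hB : B ∈ componentOf (FAdj S) S A) {g : Γ} (hg : g ∈ ⨆ B ∈ S, B) :
    B ^~ g ∈ componentOf (FAdj S) S A :=
  ⟨h.rc B hB.1 g hg, hB.2.trans (h.conn_rc hB.1 hg)⟩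

theorem RS.component (h : RS S) (A : Subgroup Γ) : RS (componentOf (FAdj S) S A) := by
  refine ⟨fun B hB => h.cm B hB.1, fun B hB => h.ne B hB.1, fun B hB g hg => h.comp_rc hB
    ((biSup_mono fun _ hB => hB.1 : _ ≤ ⨆ B ∈ S, B) hg), fun B hB C hC => ?_, fun B hB => ?_⟩
  · rcases h.tri B hB.1 C hC.1 with h1 | h1 | h1
    · exact Or.inl h1
    · exact Or.inr (Or.inl h1)
    · exact Or.inr (Or.inr ⟨⟨h1.1, hB.2.trans (h.conn_rcc hB.1 hC.1 h1).1⟩, h1.2⟩)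
  · obtain ⟨C, hC, h1⟩ := h.partner B hB.1
    exact ⟨C, ⟨hC, hB.2.trans (conn_of_r1 hB.1 hC h1)⟩, h1⟩

theorem comp_conj (hB : B ∈ componentOf (FAdj S) S A) :
    ∃ g ∈ ⨆ C ∈ componentOf (FAdj S) S A, C, B = A ^~ g := by
  obtain ⟨-, h⟩ := hB
  induction h with
  | refl => exact ⟨1, Subgroup.one_mem _, (rc_one _).symm⟩
  | tail h1 h2 ih =>
    obtain ⟨g, hg, rfl⟩ := ih
    obtain ⟨x, hx, e⟩ := mem_unip.1 (right_mem_unip h2.2.2)
    refine ⟨g * x, Subgroup.mul_mem _ hg ?_, by rw [e, rc_rc]⟩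
    exact (sup_le (le_biSup' ⟨h2.1, h1⟩) (le_biSup' ⟨h2.2.1, h1.tail h2⟩) : _ ≤ ⨆ C ∈ componentOf (FAdj S) S A, C) hx

theorem comp_conj' {C : Subgroup Γ} (hB : B ∈ componentOf (FAdj S) S A) (hC : C ∈ componentOf (FAdj S) S A) :
    ∃ g ∈ ⨆ C ∈ componentOf (FAdj S) S A, C, C = B ^~ g := by
  obtain ⟨g, hg, rfl⟩ := comp_conj hB
  obtain ⟨g', hg', rfl⟩ := comp_conj hC
  exact ⟨g⁻¹ * g', Subgroup.mul_mem _ (Subgroup.inv_mem _ hg) hg', by rw [rc_rc, mul_inv_cancel_left]⟩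

theorem RS.comp_class (h : RS S) (hA : A ∈ S) : IsRootSubgroupClass ((fun B : Subgroup Γ =>
    B.subgroupOf (⨆ C ∈ componentOf (FAdj S) S A, C)) '' componentOf (FAdj S) S A) := by
  refine ⟨(h.component A).rs, ⟨_, A, ⟨hA, Relation.ReflTransGen.refl⟩, rfl⟩, ?_⟩
  rintro _ ⟨B, hB, rfl⟩ _ ⟨C, hC, rfl⟩
  obtain ⟨g, hg, rfl⟩ := comp_conj' hB hC
  refine ⟨⟨g, hg⟩⁻¹, ?_⟩
  rw [← rc_def]
  exact subgroupOf_rc B ⟨g, hg⟩

theorem comp_eq (h : Conn S A B) : componentOf (FAdj S) S A = componentOf (FAdj S) S B :=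
  Set.ext fun _ => ⟨fun hX => ⟨hX.1, h.symm'.trans hX.2⟩, fun hX => ⟨hX.1, Relation.ReflTransGen.trans h hX.2⟩⟩

theorem cm_biSup {T : Set (Subgroup Γ)} (h : ∀ A ∈ S, ∀ B ∈ T, Cm A B) : Cm (⨆ A ∈ S, A) (⨆ B ∈ T, B) :=
  cm_iff_le.2 (iSup₂_le fun A hA => cm_iff_le.1 (Cm.symm (cm_iff_le.2
    (iSup₂_le fun B hB => cm_iff_le.1 (h A hA B hB).symm))))

theorem le_of_perfect {N : Subgroup Γ} {n : Γ} (hA : Cm A A) (hn : n ∈ N) (hN : ∀ a ∈ A, N ^~ a = N)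
    (hp : ⁅A ⊔ A ^~ n, A ⊔ A ^~ n⁆ = A ⊔ A ^~ n) : A ≤ N := by
  have hN' : ∀ a ∈ A, ∀ x ∈ N, a * x * a⁻¹ ∈ N := fun a ha x hx => mem_rc.1 ((hN a ha).symm ▸ hx)
  have h1 : ∀ x ∈ A ⊔ A ^~ n, ∃ a ∈ A, x * a⁻¹ ∈ N := by
    intro x hx
    refine sup_induction' (P := fun x => ∃ a ∈ A, x * a⁻¹ ∈ N) (fun a ha => ⟨a, ha, by simp⟩) ?_ ?_ hx
    · intro y hy
      obtain ⟨a, ha, rfl⟩ := exists_of_mem_rc hy
      exact ⟨a, ha, by simpa [mul_assoc] using N.mul_mem (N.inv_mem hn) (hN' a ha n hn)⟩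
    · rintro x y ⟨a, ha, h1⟩ ⟨b, hb, h2⟩
      exact ⟨a * b, A.mul_mem ha hb, by simpa [mul_assoc] using N.mul_mem h1 (hN' a ha _ h2)⟩
  refine le_sup_left.trans (hp.symm.le.trans (Subgroup.commutator_le.2 fun x hx y hy => ?_))
  obtain ⟨a, ha, h2⟩ := h1 x hx
  obtain ⟨b, hb, h3⟩ := h1 y hy
  have h4 := N.mul_mem (N.mul_mem (N.mul_mem h2 (hN' a ha _ h3)) (hN' b hb _ (N.inv_mem h2))) (N.inv_mem h3)
  convert h4 using 1
  rw [commutatorElement_def]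
  calc x * y * x⁻¹ * y⁻¹ = x * y * b⁻¹ * a⁻¹ * (a * b) * x⁻¹ * y⁻¹ := by group
    _ = _ := by rw [hA a ha b hb]; group

end Abstract

variable {k : Type u} [Field k] {M : Type*} [AddCommGroup M] [Module k M] [FiniteDimensional k M]
variable {G : Subgroup (M →ₗ[k] M)ˣ}

theorem Sigma_RS (h2 : (2 : k) ≠ 0) (h3 : Nat.card k ≠ 3) (hG : NoUnip k G) : RS (quadraticRootSubgroups G) :=
  ⟨fun _ => Sigma_cm, fun _ => Sigma_ne_bot, fun _ hA _ hg => Sigma_rc hA ((iSup₂_le fun _ => Sigma_le : _ ≤ G) hg),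
    fun _ hA _ hB => Sigma_tri h2 h3 hG hA hB, fun _ hA => Sigma_partner h2 h3 hG hA⟩

theorem Sigma_unip (h2 : (2 : k) ≠ 0) (h3 : Nat.card k ≠ 3) {A B : Subgroup (GeneralLinearGroup k M)}
    (hA : A ∈ quadraticRootSubgroups G) (hB : B ∈ quadraticRootSubgroups G) (h : ¬ IsRankOnePair A B) :
    Unip k (A ⊔ B) := by
  obtain ⟨a, ha, rfl⟩ := mem_Sigma.1 hA
  obtain ⟨b, hb, rfl⟩ := mem_Sigma.1 hB
  by_contra hn
  exact h (ha.r1 h2 h3 hb fun e => hn (ha.unip h2 hb e))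

theorem Sigma_normal {g : GeneralLinearGroup k M} (hg : g ∈ G) :
    (⨆ B ∈ quadraticRootSubgroups G, B) ^~ g = ⨆ B ∈ quadraticRootSubgroups G, B :=
  rc_biSup_eq (fun _ hA _ hg => Sigma_rc hA hg) hg

theorem comp_quasisimple (h2 : (2 : k) ≠ 0) (h3 : Nat.card k ≠ 3) (hG : NoUnip k G)
    {A₀ : Subgroup (GeneralLinearGroup k M)} (hA₀ : A₀ ∈ quadraticRootSubgroups G) :
    IsQuasisimple ↥(⨆ B ∈ componentOf (FAdj (quadraticRootSubgroups G)) (quadraticRootSubgroups G) A₀, B) := by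
  have hS := Sigma_RS h2 h3 hG
  set T := componentOf (FAdj (quadraticRootSubgroups G)) (quadraticRootSubgroups G) A₀
  have hT : RS T := hS.component A₀
  set K := ⨆ B ∈ T, B
  have hA₀T : A₀ ∈ T := ⟨hA₀, Relation.ReflTransGen.refl⟩
  have hperf : ∀ A ∈ T, ∀ B ∈ T, IsRankOnePair A B → ⁅A ⊔ B, A ⊔ B⁆ = A ⊔ B := fun A hA B hB h =>
    sp_perfect (Sigma_sp h2 h3 hA.1 hB.1 h).1 (Sigma_sp h2 h3 hA.1 hB.1 h).2.1 (Sigma_sp h2 h3 hA.1 hB.1 h).2.2
  have hK : NoUnip k K :=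
    (hG.normal (iSup₂_le fun _ => Sigma_le) fun _ => Sigma_normal).normal (biSup_mono fun _ hB => hB.1)
      fun g hg => rc_biSup_eq (fun B hB g hg => hS.comp_rc hB hg) hg
  apply quasisimple_of_normal
  · refine le_antisymm (by simpa using Subgroup.commutator_le_sup K K) (iSup₂_le fun A hA => ?_)
    obtain ⟨B, hB, h⟩ := hT.partner A hA
    have hle : A ⊔ B ≤ K := sup_le (le_biSup' hA) (le_biSup' hB)
    exact le_sup_left.trans ((hperf A hA B hB h).symm.le.trans (Subgroup.commutator_mono hle hle))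
  · intro hc
    obtain ⟨B, hB, h⟩ := hT.partner A₀ hA₀T
    exact r1_not_cm h (hc.mono (le_biSup' hA₀T) (le_biSup' hB))
  intro N hN hn
  by_cases h : ∃ A ∈ T, ∃ n ∈ N, IsRankOnePair A (A ^~ n)
  · left
    obtain ⟨A, hA, n, hn', h⟩ := h
    have h1 := le_of_perfect (hT.cm A hA) hn' (fun a ha => hn a (le_biSup' hA ha))
      (hperf A hA _ (hT.rc A hA n (hN hn')) h)
    refine le_antisymm hN (iSup₂_le fun B hB => ?_)
    obtain ⟨g, hg, rfl⟩ := comp_conj' hA hB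
    rw [← hn g hg]; exact rc_mono h1 g
  right
  push Not at h
  refine Cm.symm (cm_iff_le.2 (iSup₂_le fun A hA => cm_iff_le.1 (cm_iff.2 ?_)))
  have hAK : A ≤ K := le_biSup' hA
  have hN' : ∀ a ∈ A, ∀ x ∈ N, a⁻¹ * x * a ∈ N := fun a ha x hx => hn a (hAK ha) ▸ conj_mem_rc hx a
  apply hK.normal hN hn
  · exact Subgroup.le_normalizer_iff_commutator_le_right.1 fun a ha => rc_eq_self_iff_mem_normalizer.1 (hn a (hAK ha))
  · let W := {B | ∃ n ∈ N, B = A ^~ n}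
    have hu : Unip k (⨆ B ∈ W, B) := by
      refine unip_biSup (G := N ⊔ A) ?_ ?_ ?_
      · rintro _ ⟨n, hn, rfl⟩; exact rc_le_of_mem le_sup_right (Subgroup.mem_sup_left hn)
      · rintro _ ⟨n, hn, rfl⟩ _ ⟨m, hm, rfl⟩
        refine Sigma_unip h2 h3 (hT.rc A hA n (hN hn)).1 (hT.rc A hA m (hN hm)).1 fun h1 => ?_
        have := r1_rc h1 n⁻¹
        rw [rc_rc_inv, rc_rc] at this
        exact h A hA _ (N.mul_mem hm (N.inv_mem hn)) this
      · intro B hB g hg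
        refine sup_induction' (P := fun g => ∀ B ∈ W, B ^~ g ∈ W) ?_ ?_ ?_ hg B hB
        · rintro g hg _ ⟨n, hn, rfl⟩; exact ⟨n * g, N.mul_mem hn hg, rc_rc _ _ _⟩
        · rintro g hg _ ⟨n, hn, rfl⟩
          refine ⟨g⁻¹ * n * g, hN' g hg n hn, ?_⟩
          rw [rc_rc, show n * g = g * (g⁻¹ * n * g) by group, ← rc_rc, rc_of_mem hg]
        · intro x y hx hy B hB
          rw [← rc_rc]; exact hy _ (hx B hB)
    refine hu.mono (Subgroup.commutator_le.2 fun a ha n hn => ?_)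
    rw [commutatorElement_def, show a * n * a⁻¹ * n⁻¹ = a * (n⁻¹⁻¹ * a⁻¹ * n⁻¹) by group]
    exact Subgroup.mul_mem _ (le_biSup' (S := W) ⟨1, N.one_mem, (rc_one A).symm⟩ ha)
      (le_biSup' (S := W) ⟨n⁻¹, N.inv_mem hn, rfl⟩ (conj_mem_rc (A.inv_mem ha) _))
  · exact fun g hg => rc_eq_self_iff_mem_normalizer.2 (Subgroup.normalizer_commutator_ge_right _ _ hg)

theorem comp_finite (h2 : (2 : k) ≠ 0) (h3 : Nat.card k ≠ 3) (hG : NoUnip k G) :
    Finite ↥((componentOf (FAdj (quadraticRootSubgroups G)) (quadraticRootSubgroups G)) ''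
      quadraticRootSubgroups G) := by
  have hS := Sigma_RS h2 h3 hG
  have : ∀ T : ↥((componentOf (FAdj (quadraticRootSubgroups G)) (quadraticRootSubgroups G)) ''
      quadraticRootSubgroups G), ∃ (a f : M →ₗ[k] M) (ha : QD G a) (hf : QD G f), MU a f ∧
        T.1 = componentOf (FAdj (quadraticRootSubgroups G)) (quadraticRootSubgroups G) (EE G a ha.sq) ∧
        T.1 = componentOf (FAdj (quadraticRootSubgroups G)) (quadraticRootSubgroups G) (EE G f hf.sq) := by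
    rintro ⟨_, A, hA, rfl⟩
    obtain ⟨a, ha, rfl⟩ := mem_Sigma.1 hA
    obtain ⟨f, hf, mu⟩ := ha.exists_opp h2 h3 hG
    exact ⟨a, f, ha, hf, mu, rfl,
      comp_eq (conn_of_r1 hA hf.EE_mem (ha.r1 h2 h3 hf (by rw [mu.efe]; exact ha.ne)))⟩
  choose a f ha hf mu e1 e2 using this
  have hli : LinearIndependent k a := by
    rw [linearIndependent_iff']
    intro s g hg j hj
    have h1 := congrArg (fun x => x * f j - f j * x) hg
    simp only [Finset.sum_mul, Finset.mul_sum, ← Finset.sum_sub_distrib, smul_mul_assoc, mul_smul_comm, ← smul_sub,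
      zero_mul, mul_zero, sub_zero] at h1
    rw [Finset.sum_eq_single j] at h1
    · refine (smul_eq_zero.1 h1).resolve_right fun h4 => (ha j).ne ?_
      rw [← (mu j).efe, sub_eq_zero.1 h4, mul_assoc, (ha j).sq, mul_zero]
    · intro i _ hij
      rw [(ha i).of_cm (hf j) (hS.cm_of_not_conn (ha i).EE_mem (hf j).EE_mem fun hc => hij
        (Subtype.ext (by rw [e1 i, e2 j, comp_eq hc]))), smul_zero]
    · exact fun h => absurd hj h
  exact hli.finite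

theorem Sigma_decomp (h2 : (2 : k) ≠ 0) (h3 : Nat.card k ≠ 3) (hG : NoUnip k G) :
    ∃ (r : ℕ) (part : Fin r → Set (Subgroup (GeneralLinearGroup k M))),
      (⋃ i, part i) = quadraticRootSubgroups G ∧ (∀ i j, i ≠ j → Disjoint (part i) (part j)) ∧
      (∀ i, (part i).Nonempty) ∧ (∀ i j, i ≠ j → ⁅(⨆ A ∈ part i, A), (⨆ A ∈ part j, A)⁆ = ⊥) ∧
      (∀ i, IsQuasisimple ↥(⨆ A ∈ part i, A) ∧ IsRootSubgroupClass
        ((fun A : Subgroup (GeneralLinearGroup k M) => A.subgroupOf (⨆ B ∈ part i, B)) '' (part i))) := by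
  have hS := Sigma_RS h2 h3 hG
  have := comp_finite h2 h3 hG
  obtain ⟨r, ⟨e⟩⟩ := Finite.exists_equiv_fin ↥((componentOf (FAdj (quadraticRootSubgroups G))
    (quadraticRootSubgroups G)) '' quadraticRootSubgroups G)
  have hnc : ∀ i j, i ≠ j → ∀ A ∈ (e.symm i).1, ∀ B ∈ (e.symm j).1, ¬ Conn (quadraticRootSubgroups G) A B := by
    intro i j hij A hA B hB hc
    apply hij
    apply e.symm.injective
    apply Subtype.ext
    obtain ⟨P, -, hP⟩ := (e.symm i).2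
    obtain ⟨Q, -, hQ⟩ := (e.symm j).2
    rw [← hP] at hA ⊢
    rw [← hQ] at hB ⊢
    exact comp_eq ((Relation.ReflTransGen.trans hA.2 hc).trans (Conn.symm' hB.2))
  have hsub : ∀ i, (e.symm i).1 ⊆ quadraticRootSubgroups G := by
    intro i A hA
    obtain ⟨P, -, hP⟩ := (e.symm i).2
    rw [← hP] at hA
    exact hA.1
  refine ⟨r, fun i => (e.symm i).1, ?_, ?_, ?_, ?_, ?_⟩
  · refine Set.Subset.antisymm (Set.iUnion_subset hsub) fun A hA => Set.mem_iUnion.2 ⟨e ⟨_, A, hA, rfl⟩, ?_⟩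
    rw [Equiv.symm_apply_apply]
    exact ⟨hA, Relation.ReflTransGen.refl⟩
  · intro i j hij
    exact Set.disjoint_left.2 fun A hA hA' => hnc i j hij A hA A hA' Relation.ReflTransGen.refl
  · intro i
    obtain ⟨P, hP, e'⟩ := (e.symm i).2
    refine ⟨P, ?_⟩
    show P ∈ (e.symm i).1
    rw [← e']
    exact ⟨hP, Relation.ReflTransGen.refl⟩
  · intro i j hij
    exact cm_iff.1 (cm_biSup fun A hA B hB => hS.cm_of_not_conn (hsub i hA) (hsub j hB) (hnc i j hij A hA B hB))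
  · intro i
    obtain ⟨P, hP, e'⟩ := (e.symm i).2
    beta_reduce
    rw [← e']
    exact ⟨comp_quasisimple h2 h3 hG hP, hS.comp_class hP⟩

end Cfsg.Agent.H90
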