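import Cfsg.Agent.H90.QP6

/-! Quadratic pairs: the central product decomposition. -/

set_option autoImplicit false

namespace Cfsg.Agent.H90
open Cfsg LinearMap

universe u

variable {k : Type u} [Field k] {M : Type*} [AddCommGroup M] [Module k M] [FiniteDimensional k M]
variable {G : Subgroup (M →ₗ[k] M)ˣ} {a b r u x y : M →ₗ[k] M}

/-- quadratic elements without a minimal opposite -/
structure RR (G : Subgroup (M →ₗ[k] M)ˣ) (r : M →ₗ[k] M) : Prop where
  qe : QE k G r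
  nil : ∀ x, QD G x → x * r * x = 0

theorem RR.conj' (hr : RR G r) (hx : InG G x) (e : x * y = 1) : RR G (x * r * y) := by
  have e' : y * x = 1 := mul_eq_one_comm.1 e
  refine ⟨hr.qe.conj' hx e, fun a ha => ?_⟩
  have := hr.nil _ (ha.conj' (hx.inv e) e')
  calc a * (x * r * y) * a = (x * y) * a * (x * r * y) * a * (x * y) := by simp [e]
    _ = x * (y * a * x * r * (y * a * x)) * y := by noncomm_ring
    _ = 0 := by simp [this]

omit [FiniteDimensional k M] in
theorem RR.smul (hr : RR G r) (c : k) : RR G (c • r) :=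
  ⟨hr.qe.smul c, fun a ha => by simp [hr.nil a ha]⟩

theorem RR.eq_zero (h2 : (2 : k) ≠ 0) (h3 : Nat.card k ≠ 3) (hG : NoUnip k G) (hr : RR G r) (ha : QD G a)
    (h : rk r ≤ rk a) : r = 0 := by
  by_contra h0
  obtain ⟨f, hf, mu⟩ := (ha.of_le hr.qe h0 h).exists_opp h2 h3 hG
  exact hf.ne (mu.fef.symm.trans (hr.nil f hf))

theorem RR.comm (h2 : (2 : k) ≠ 0) (h3 : Nat.card k ≠ 3) (hG : NoUnip k G) (hr : RR G r) (ha : QD G a) :
    r * a = a * r := by
  have h1 := hr.nil a ha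
  obtain ⟨hq, hp⟩ := QE.nil h2 hr.qe ha.qe h1
  have p : RR G (r * a - a * r) := by
    refine ⟨hp, fun x hx => ?_⟩
    have := (hr.conj' ha.qe.one_sub (un a ha.sq).inv_mul).nil x hx
    rw [un_val] at this
    linear_combination (norm := noncomm_ring) this - hr.nil x hx + x * h1 * x
  have q : RR G (r * a * r) := by
    refine ⟨hq, fun x hx => ?_⟩
    have := (p.conj' hr.qe.one_sub (un r hr.qe.sq).inv_mul).nil x hx
    rw [un_val] at this
    have h4 : (2 : k) • (x * (r * a * r) * x) = 0 := by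
      rw [two_smul]
      linear_combination (norm := noncomm_ring) this - p.nil x hx + x * a * hr.qe.sq * x +
        x * hr.qe.sq * a * (1 + r) * x - x * r * a * hr.qe.sq * x
    exact (smul_eq_zero.1 h4).resolve_left h2
  have q0 := q.eq_zero h2 h3 hG ha ((rk_mul_le_left _ _).trans (rk_mul_le_right _ _))
  rw [← sub_eq_zero]
  apply p.eq_zero h2 h3 hG ha
  have d1 := rk_add_le (r * a) (-(a * r))
  have d2 := rk_mul_add r a
  have d3 : rk (-(a * r)) ≤ Module.finrank k ↥(range a ⊓ ker r) := Submodule.finrank_mono (by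
    rw [range_neg]; exact le_inf (range_mul_le _ _) (mul_eq_zero_iff_le.1 (by rw [← mul_assoc, q0])))
  rw [sub_eq_add_neg]; omega

theorem QE.split (h2 : (2 : k) ≠ 0) (h3 : Nat.card k ≠ 3) (hr : QE k G r) (hn : ¬ RR G r) :
    ∃ u, QD G u ∧ QE k G (r - u) ∧ u * (r - u) = 0 ∧ (r - u) * u = 0 ∧ rk (r - u) < rk r := by
  obtain ⟨a, ha, hn⟩ : ∃ a, QD G a ∧ a * r * a ≠ 0 := by
    by_contra h; push Not at h; exact hn ⟨hr, h⟩
  obtain ⟨e, z', h⟩ := fit_exists (k := k) a r
  have he := h.ne_zero h2 ha hr hn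
  have ea := h.left h2 h3 ha hr he
  have ae := comm_z_left ha.sq h.e_mem
  have re := comm_z_right hr.sq h.e_mem
  have rz := comm_z_right hr.sq h.z'_mem
  have hu : QE k G (e * r) := by
    have := (h.qe h2 h3 ha.qe hr (Algebra.self_mem_adjoin_singleton k _)).2
    rwa [← mul_assoc, h.zz] at this
  have h0 : e * r ≠ 0 := fun h0 => hn (by rw [← ea, ← ae, mul_assoc a, h0]; simp)
  have h1 : e * r = r * (a * (z' * r)) := by
    rw [← h.zz]; simp only [add_mul, mul_assoc, e3 rz, hr.sq, mul_zero, zero_add]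
  have p1 : r * (e * r) = 0 := by simp only [e3 re, mul_assoc, hr.sq, mul_zero]
  have p2 : e * r * r = 0 := by simp only [mul_assoc, hr.sq, mul_zero]
  refine ⟨e * r, ha.of_le hu h0 (h1 ▸ (rk_mul_le_right _ _).trans (rk_mul_le_left _ _)), hr.sub hu p1 p2,
    by rw [mul_sub, p2, hu.sq, sub_zero], by rw [sub_mul, p1, hu.sq, sub_zero], ?_⟩
  have d := rk_mul_add (1 - e) r
  have : 0 < Module.finrank k ↥(range r ⊓ ker (1 - e)) := by
    refine lt_of_lt_of_le ?_ (Submodule.finrank_mono (?_ : range (e * r) ≤ _))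
    · rw [pos_iff_ne_zero, Ne, Submodule.finrank_eq_zero, range_eq_bot]; exact h0
    · exact le_inf (h1 ▸ range_mul_le _ _) (mul_eq_zero_iff_le.1 (by rw [← mul_assoc, sub_mul, h.ee]; simp))
  rw [sub_mul, one_mul] at d
  omega

/-- the subgroup generated by the `RR` elements -/
def HR (G : Subgroup (M →ₗ[k] M)ˣ) : Subgroup (M →ₗ[k] M)ˣ :=
  Subgroup.closure {g | RR G ((g : M →ₗ[k] M) - 1)}

omit [FiniteDimensional k M] in
theorem HR_le : HR G ≤ G := (Subgroup.closure_le _).2 fun g hg => InG.mem (by simpa using hg.qe.one_add)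

omit [FiniteDimensional k M] in
theorem RR.un_mem (hr : RR G r) : un r hr.qe.sq ∈ HR G := Subgroup.subset_closure (by simpa using hr)

omit [FiniteDimensional k M] in
theorem RR.qe' (hr : RR G r) : QE k (HR G) r := ⟨hr.qe.sq, fun c => ⟨_, (hr.smul c).un_mem, rfl⟩⟩

theorem HR_cm (h2 : (2 : k) ≠ 0) (h3 : Nat.card k ≠ 3) (hG : NoUnip k G) :
    Cm (HR G) (⨆ A ∈ quadraticRootSubgroups G, A) := by
  refine cm_iff_le.2 ((Subgroup.closure_le _).2 fun g hg => ?_)
  refine cm_iff_le.1 (Cm.symm (cm_iff_le.2 (iSup₂_le fun A hA x hx => ?_))) (Subgroup.mem_zpowers g)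
  obtain ⟨a, ha, rfl⟩ := mem_Sigma.1 hA
  rintro _ ⟨n, rfl⟩
  refine (Commute.zpow_left ?_ n).eq
  apply Units.ext
  by_cases h0 : (x : M →ₗ[k] M) - 1 = 0
  · simp [sub_eq_zero.1 h0]
  · have := RR.comm h2 h3 hG hg (InE.qd ha hx h0)
    simp only [Units.val_mul]
    linear_combination (norm := noncomm_ring) this

omit [FiniteDimensional k M] in
theorem un_split (hr : QE k G r) (hu : QE k G u) (hv : QE k G (r - u)) (h : u * (r - u) = 0) :
    un r hr.sq = un u hu.sq * un (r - u) hv.sq :=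
  Units.ext (by simp only [Units.val_mul, un_val]; linear_combination (norm := noncomm_ring) -h)

theorem QE.un_mem_sup (h2 : (2 : k) ≠ 0) (h3 : Nat.card k ≠ 3) (n : ℕ) : ∀ r (hr : QE k G r), rk r = n →
    un r hr.sq ∈ (⨆ A ∈ quadraticRootSubgroups G, A) ⊔ HR G := by
  induction n using Nat.strong_induction_on with
  | _ n ih =>
  intro r hr hn
  by_cases h : RR G r
  · exact Subgroup.mem_sup_right h.un_mem
  obtain ⟨u, hu, hv, h1, -, h4⟩ := hr.split h2 h3 h
  rw [un_split hr hu.qe hv h1]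
  exact Subgroup.mul_mem _ (Subgroup.mem_sup_left (le_biSup' hu.EE_mem (InE.self hu.qe).un_mem))
    (ih _ (hn ▸ h4) _ hv rfl)

theorem un_sub_one {R : Type*} [Ring R] (g : Rˣ) (h : ((g : R) - 1) * ((g : R) - 1) = 0) :
    un ((g : R) - 1) h = g :=
  Units.ext (by simp)

theorem sup_HR (h2 : (2 : k) ≠ 0) (h3 : Nat.card k ≠ 3) (hG : Subgroup.closure (quadraticElements G) = G) :
    (⨆ A ∈ quadraticRootSubgroups G, A) ⊔ HR G = G := by
  refine le_antisymm (sup_le (iSup₂_le fun _ => Sigma_le) HR_le) (hG.symm.le.trans ((Subgroup.closure_le _).2 ?_))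
  intro g hg
  have h1 := (mem_quadraticElements.1 hg).1
  have := QE.un_mem_sup h2 h3 _ _ h1 rfl
  rwa [un_sub_one] at this

theorem HR_normal {g : (M →ₗ[k] M)ˣ} (hg : g ∈ G) : HR G ^~ g = HR G := by
  have key : ∀ g ∈ G, HR G ^~ g ≤ HR G := by
    intro g hg
    rw [rc_def, conjBy, HR, MonoidHom.map_closure, Subgroup.closure_le]
    rintro _ ⟨x, hx, rfl⟩
    apply Subgroup.subset_closure
    have := RR.conj' hx (InG.of_mem (G.inv_mem hg)) g.inv_mul
    show RR G _
    convert this using 1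
    simp [mul_sub, sub_mul]
  refine le_antisymm (key g hg) ?_
  have := rc_mono (key g⁻¹ (G.inv_mem hg)) g
  rwa [rc_inv_rc] at this

theorem rr_of_HR (h2 : (2 : k) ≠ 0) (h3 : Nat.card k ≠ 3) (hG : NoUnip k G) (hr : QE k (HR G) r) : RR G r := by
  refine ⟨hr.mono HR_le, fun x hx => ?_⟩
  have := congrArg Units.val (HR_cm h2 h3 hG _ hr.un_mem _ (le_biSup' hx.EE_mem (InE.self hx.qe).un_mem))
  simp only [Units.val_mul, un_val] at this
  linear_combination (norm := noncomm_ring) -this * x + r * hx.sq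

/-- a weak form of irreducibility inherited by central factors -/
def Irr' {R : Type*} [Ring R] (H : Subgroup Rˣ) : Prop :=
  ∀ K L : Subgroup Rˣ, Cm K L → K ⊔ L = H → ∀ x ∈ K, ∀ y ∈ L, ((y : R) - 1) * (x - 1) = 0 → x = 1 ∨ y = 1

theorem Irr'.right {R : Type*} [Ring R] {H H₀ H₁ : Subgroup Rˣ} (h : Irr' H) (hc : Cm H₀ H₁) (e : H₀ ⊔ H₁ = H) :
    Irr' H₁ := fun K L hKL e' x hx y hy h0 =>
  h (H₀ ⊔ K) L ((hc.mono le_rfl (e' ▸ le_sup_right)).sup_left hKL) (by rw [sup_assoc, e', e]) x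
    (Subgroup.mem_sup_right hx) y hy h0

omit [FiniteDimensional k M] in
theorem irr'_of_irr (h : IsIrreducibleFor G) : Irr' G := by
  intro K L hKL e x hx y hy h0
  let V : Submodule k M := ⨆ g : K, range ((g.1 : M →ₗ[k] M) * ((x : M →ₗ[k] M) - 1))
  have hV : ∀ g ∈ G, ∀ w ∈ V, (g : M →ₗ[k] M) w ∈ V := by
    intro g hg
    rw [← e] at hg
    refine sup_induction' (P := fun g : (M →ₗ[k] M)ˣ => ∀ w ∈ V, (g : M →ₗ[k] M) w ∈ V) ?_ ?_ ?_ hg
    · intro g hg
      suffices V.map (g : M →ₗ[k] M) ≤ V from fun w hw => this ⟨w, hw, rfl⟩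
      rw [Submodule.map_iSup]
      refine iSup_le fun g' => le_iSup_of_le (⟨g, hg⟩ * g') ?_
      rw [← range_comp]
      exact le_of_eq (by rw [← Module.End.mul_eq_comp, ← mul_assoc]; rfl)
    · intro g hg
      suffices V.map (g : M →ₗ[k] M) ≤ V from fun w hw => this ⟨w, hw, rfl⟩
      rw [Submodule.map_iSup]
      refine iSup_le fun g' => le_iSup_of_le g' ?_
      have h1 := congrArg Units.val (hKL _ g'.2 _ hg)
      have h2 := congrArg Units.val (hKL _ hx _ hg)
      simp only [Units.val_mul] at h1 h2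
      rw [← range_comp, ← Module.End.mul_eq_comp, ← mul_assoc, ← h1, mul_assoc,
        show (g : M →ₗ[k] M) * ((x : M →ₗ[k] M) - 1) = ((x : M →ₗ[k] M) - 1) * g by rw [mul_sub, sub_mul, h2]; simp, ← mul_assoc]
      exact range_mul_le _ _
    · intro g g' hg hg' w hw
      exact hg _ (hg' w hw)
  rcases h.2 V hV with h1 | h1
  · left
    have : range (((1 : K).1 : M →ₗ[k] M) * ((x : M →ₗ[k] M) - 1)) ≤ V := le_iSup_of_le 1 le_rfl
    rw [h1, le_bot_iff, range_eq_bot] at this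
    exact Units.ext (by simpa [sub_eq_zero] using this)
  · right
    have : V ≤ ker ((y : M →ₗ[k] M) - 1) := by
      refine iSup_le fun g => mul_eq_zero_iff_le.1 ?_
      have h1 := congrArg Units.val (hKL _ g.2 _ hy)
      simp only [Units.val_mul] at h1
      linear_combination (norm := noncomm_ring) ((g : (M →ₗ[k] M)ˣ) : M →ₗ[k] M) * h0 - h1 * ((x : M →ₗ[k] M) - 1)
    rw [h1, top_le_iff, ker_eq_top] at this
    exact Units.ext (by simpa [sub_eq_zero] using this)

theorem sup_others {Γ ι : Type*} [Group Γ] {F : ι → Subgroup Γ} (h : ∀ i j, i ≠ j → Cm (F i) (F j)) (i : ι) :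
    Cm (F i) (⨆ j ∈ ({i}ᶜ : Set ι), F j) ∧ F i ⊔ (⨆ j ∈ ({i}ᶜ : Set ι), F j) = ⨆ j, F j := by
  refine ⟨Cm.symm (cm_iff_le.2 (iSup₂_le fun j hj => cm_iff_le.1 (h j i hj))), le_antisymm
    (sup_le (le_iSup F i) (iSup₂_le fun j _ => le_iSup F j)) (iSup_le fun j => ?_)⟩
  by_cases hj : j = i
  · exact hj ▸ le_sup_left
  · exact le_sup_of_le_right (le_iSup₂_of_le j hj le_rfl)

theorem exists_QD (hr : QE k G r) (h0 : r ≠ 0) : ∃ a, QD G a := by
  have : ∀ n, ∀ r, QE k G r → r ≠ 0 → rk r = n → ∃ a, QD G a := by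
    intro n
    induction n using Nat.strong_induction_on with
    | _ n ih =>
    intro r hr h0 hn
    by_cases h : ∀ b, QE k G b → b ≠ 0 → rk r ≤ rk b
    · exact ⟨r, hr, h0, h⟩
    · push Not at h
      obtain ⟨b, hb, hb0, h⟩ := h
      exact ih _ (hn ▸ h) b hb hb0 rfl
  exact this _ r hr h0 rfl

theorem central_decomp (h2 : (2 : k) ≠ 0) (h3 : Nat.card k ≠ 3) (n : ℕ) : ∀ G : Subgroup (M →ₗ[k] M)ˣ,
    (∀ r, QE k G r → r ≠ 0 → Module.finrank k M < rk r + n) → Subgroup.closure (quadraticElements G) = G →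
    NoUnip k G → Irr' G → ∃ (ι : Type) (_ : Finite ι) (F : ι → Subgroup (M →ₗ[k] M)ˣ),
      (∀ i j, i ≠ j → Cm (F i) (F j)) ∧ ⨆ i, F i = G ∧
      (∀ i, IsQuasisimple (F i) ∧ Subgroup.closure (quadraticElements G ∩ F i) = F i) ∧
      quadraticElements G ⊆ ⋃ i, (F i : Set (M →ₗ[k] M)ˣ) := by
  induction n with
  | zero =>
    intro G hn hG _ _
    have : quadraticElements G = ∅ := Set.eq_empty_of_forall_notMem fun g hg => by
      have h1 := hn _ (mem_quadraticElements.1 hg).1 (mem_quadraticElements.1 hg).2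
      have h2 := rk_add_ker ((g : M →ₗ[k] M) - 1)
      omega
    refine ⟨Empty, inferInstance, fun i => i.elim, fun i => i.elim, ?_, fun i => i.elim, by simp [this]⟩
    rw [← hG, this]; simp
  | succ n ih =>
  intro G hn hG hU hI
  have hc := HR_cm h2 h3 hU
  have hs := sup_HR h2 h3 hG
  have hQ : quadraticElements (HR G) ⊆ quadraticElements G := fun g hg =>
    mem_quadraticElements.2 ⟨(mem_quadraticElements.1 hg).1.mono HR_le, (mem_quadraticElements.1 hg).2⟩
  obtain ⟨ι, _, F, f1, f2, f3, f4⟩ := ih (HR G) (by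
      intro r hr h0
      obtain ⟨a, ha⟩ := exists_QD (hr.mono HR_le) h0
      have h1 := hn a ha.qe ha.ne
      have h4 : ¬ rk r ≤ rk a := fun h => h0 ((rr_of_HR h2 h3 hU hr).eq_zero h2 h3 hU ha h)
      omega) (by
      refine le_antisymm ((Subgroup.closure_le _).2 fun g hg => hg.1) ((Subgroup.closure_le _).2 fun g hg => ?_)
      by_cases h0 : (g : M →ₗ[k] M) - 1 = 0
      · rw [show g = 1 from Units.ext (sub_eq_zero.1 h0)]; exact Subgroup.one_mem _
      · exact Subgroup.subset_closure (mem_quadraticElements.2 ⟨RR.qe' hg, h0⟩))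
    (hU.normal HR_le fun _ => HR_normal) (hI.right hc.symm hs)
  obtain ⟨s, part, p1, -, -, p2, p3⟩ := Sigma_decomp h2 h3 hU
  have hp : ∀ i, part i ⊆ quadraticRootSubgroups G := fun i => p1 ▸ Set.subset_iUnion part i
  have hF : ∀ j, F j ≤ HR G := fun j => f2 ▸ le_iSup F j
  have hP : ∀ i, (⨆ A ∈ part i, A) ≤ ⨆ A ∈ quadraticRootSubgroups G, A := fun i => biSup_mono (hp i)
  let F' : Fin s ⊕ ι → Subgroup (M →ₗ[k] M)ˣ := Sum.elim (fun i => ⨆ A ∈ part i, A) F
  have c1 : ∀ i j, i ≠ j → Cm (F' i) (F' j) := by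
    rintro (i | i) (j | j) hij
    · exact cm_iff.2 (p2 i j fun e => hij (by rw [e]))
    · exact hc.symm.mono (hP i) (hF j)
    · exact hc.mono (hF i) (hP j)
    · exact f1 i j fun e => hij (by rw [e])
  have c2 : ⨆ i, F' i = G := by
    rw [iSup_sum, ← hs, ← f2, ← p1, iSup_iUnion]; rfl
  refine ⟨Fin s ⊕ ι, inferInstance, F', c1, c2, ?_, ?_⟩
  · rintro (i | j)
    · refine ⟨(p3 i).1, le_antisymm ((Subgroup.closure_le _).2 fun g hg => hg.2) (iSup₂_le fun A hA g hg => ?_)⟩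
      by_cases h0 : (g : M →ₗ[k] M) - 1 = 0
      · rw [show g = 1 from Units.ext (sub_eq_zero.1 h0)]; exact Subgroup.one_mem _
      · refine Subgroup.subset_closure ⟨?_, le_biSup' hA hg⟩
        obtain ⟨a, ha, rfl⟩ := mem_Sigma.1 (hp i hA)
        exact mem_quadraticElements.2 ⟨hg.qe, h0⟩
    · exact ⟨(f3 j).1, le_antisymm ((Subgroup.closure_le _).2 fun g hg => hg.2)
        ((f3 j).2.symm.le.trans (Subgroup.closure_mono (Set.inter_subset_inter_left _ hQ)))⟩
  have key : ∀ m, ∀ r (hr : QE k G r), r ≠ 0 → rk r = m → ∃ i, un r hr.sq ∈ F' i := by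
    intro m
    induction m using Nat.strong_induction_on with
    | _ m ihm =>
    intro r hr h0 hm
    by_cases h : RR G r
    · obtain ⟨j, hj⟩ := Set.mem_iUnion.1 (f4 (un_mem_quadraticElements h.qe' h0))
      exact ⟨Sum.inr j, hj⟩
    obtain ⟨u, hu, hv, h1, h4, h5⟩ := hr.split h2 h3 h
    obtain ⟨i, hi⟩ := Set.mem_iUnion.1 (p1 ▸ hu.EE_mem)
    have hui : un u hu.sq ∈ F' (Sum.inl i) := le_biSup' hi (InE.self hu.qe).un_mem
    rw [un_split hr hu.qe hv h1]
    by_cases h6 : r - u = 0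
    · exact ⟨Sum.inl i, by rw [un_eq_one.2 h6, mul_one]; exact hui⟩
    obtain ⟨j, hj⟩ := ihm _ (hm ▸ h5) _ hv h6 rfl
    by_cases hij : j = Sum.inl i
    · exact ⟨_, Subgroup.mul_mem _ hui (hij ▸ hj)⟩
    obtain ⟨o1, o2⟩ := sup_others c1 (Sum.inl i)
    rcases hI _ _ o1 (o2.trans c2) _ hui _ (le_iSup₂_of_le (f := fun j (_ : j ∈ ({Sum.inl i}ᶜ : Set _)) => F' j)
      j hij le_rfl hj) (by simpa using h4) with h7 | h7
    · exact absurd (un_eq_one.1 h7) hu.ne
    · exact absurd (un_eq_one.1 h7) h6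
  intro g hg
  obtain ⟨i, hi⟩ := key _ _ (mem_quadraticElements.1 hg).1 (mem_quadraticElements.1 hg).2 rfl
  rw [un_sub_one] at hi
  exact Set.mem_iUnion.2 ⟨i, hi⟩

end Cfsg.Agent.H90
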