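import Cfsg.Agent.H90.RankOne2

/-! Basic properties of sets of abstract root subgroups. -/

set_option autoImplicit false

namespace Cfsg.Agent.H90
open Cfsg

variable {G : Type*} [Group G] {S : Set (Subgroup G)} {A B C D E : Subgroup G}

local notation "R1" => IsRankOnePair

/-- the commutator case in a convenient form -/
structure Sc (S : Set (Subgroup G)) (A B C : Subgroup G) : Prop where
  mem : C ∈ S
  eq : ⁅A, B⁆ = C
  cA : Cm C A
  cB : Cm C B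
  comm : ∀ a ∈ A, ∀ b ∈ B, a⁻¹ * b⁻¹ * a * b ∈ C
  sR : ∀ a ∈ A, a ≠ 1 → ∀ c ∈ C, ∃ b ∈ B, c = a⁻¹ * b⁻¹ * a * b
  sL : ∀ b ∈ B, b ≠ 1 → ∀ c ∈ C, ∃ a ∈ A, c = a⁻¹ * b⁻¹ * a * b

theorem Sc.symm (h : Sc S A B C) : Sc S B A C where
  mem := h.mem
  eq := by rw [Subgroup.commutator_comm, h.eq]
  cA := h.cB
  cB := h.cA
  comm := fun b hb a ha => by
    have := C.inv_mem (h.comm a ha b hb)
    simpa [mul_assoc] using this
  sR := fun b hb hb1 c hc => by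
    obtain ⟨a, ha, e⟩ := h.sL b hb hb1 _ (C.inv_mem hc)
    exact ⟨a, ha, by rw [← inv_inv c, e]; group⟩
  sL := fun a ha ha1 c hc => by
    obtain ⟨b, hb, e⟩ := h.sR a ha ha1 _ (C.inv_mem hc)
    exact ⟨b, hb, by rw [← inv_inv c, e]; group⟩

theorem comm_mem_commutator {a b : G} (ha : a ∈ A) (hb : b ∈ B) : a⁻¹ * b⁻¹ * a * b ∈ ⁅A, B⁆ := by
  have := Subgroup.commutator_mem_commutator (A.inv_mem ha) (B.inv_mem hb)
  simpa [commutatorElement_def] using this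

theorem closure_comm_surj {a : G} (hc : ∀ b ∈ B, ∀ b' ∈ B, b' * (a * b * a⁻¹ * b⁻¹) = (a * b * a⁻¹ * b⁻¹) * b')
    {c : G} (h : c ∈ Subgroup.closure ((fun b : G => a * b * a⁻¹ * b⁻¹) '' (B : Set G))) :
    ∃ b ∈ B, c = a * b * a⁻¹ * b⁻¹ := by
  induction h using Subgroup.closure_induction with
  | mem x hx => obtain ⟨b, hb, rfl⟩ := hx; exact ⟨b, hb, rfl⟩
  | one => exact ⟨1, B.one_mem, by group⟩
  | mul x y _ _ hx hy =>
    obtain ⟨b, hb, rfl⟩ := hx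
    obtain ⟨b', hb', rfl⟩ := hy
    refine ⟨b * b', B.mul_mem hb hb', ?_⟩
    calc a * b * a⁻¹ * b⁻¹ * (a * b' * a⁻¹ * b'⁻¹) = a * b * a⁻¹ * (b⁻¹ * (a * b' * a⁻¹ * b'⁻¹)) := by group
      _ = _ := by rw [hc b' hb' b⁻¹ (B.inv_mem hb)]; group
  | inv x _ hx =>
    obtain ⟨b, hb, rfl⟩ := hx
    refine ⟨b⁻¹, B.inv_mem hb, ?_⟩
    have := hc b⁻¹ (B.inv_mem hb) b hb
    calc (a * b * a⁻¹ * b⁻¹)⁻¹ = (b * (a * b⁻¹ * a⁻¹ * b⁻¹⁻¹)) * b⁻¹ := by group
      _ = _ := by rw [this]; group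

theorem sc_of_rcc (h : RootCommutatorCase S A B) : Sc S A B ⁅A, B⁆ := by
  obtain ⟨h1, h2, h3, h4⟩ := h
  have hm : ∀ a ∈ A, ∀ b ∈ B, a * b * a⁻¹ * b⁻¹ ∈ ⁅A, B⁆ := fun a ha b hb =>
    Subgroup.commutator_mem_commutator ha hb
  refine ⟨h1, rfl, fun c hc a ha => h2 c hc a (Subgroup.mem_sup_left ha),
    fun c hc b hb => h2 c hc b (Subgroup.mem_sup_right hb), fun a ha b hb => comm_mem_commutator ha hb,
    fun a ha ha1 c hc => ?_, fun b hb hb1 c hc => ?_⟩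
  · rw [← h3 a⁻¹ (A.inv_mem ha) (inv_ne_one.2 ha1)] at hc
    obtain ⟨b, hb, e⟩ := closure_comm_surj (fun b hb b' hb' =>
      (h2 _ (hm _ (A.inv_mem ha) b hb) b' (Subgroup.mem_sup_right hb')).symm) hc
    exact ⟨b⁻¹, B.inv_mem hb, by rw [e]; group⟩
  · have hc' := (⁅A, B⁆).inv_mem hc
    have e0 : Subgroup.closure ((fun a : G => b⁻¹ * a * b⁻¹⁻¹ * a⁻¹) '' (A : Set G)) = ⁅A, B⁆ := by
      rw [← h4 b⁻¹ (B.inv_mem hb) (inv_ne_one.2 hb1), ← Subgroup.closure_inv]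
      congr 1
      ext x
      simp only [Set.mem_inv, Set.mem_image]
      constructor
      · rintro ⟨a, ha, e⟩; exact ⟨a, ha, by rw [← inv_inv x, ← e]; group⟩
      · rintro ⟨a, ha, e⟩; exact ⟨a, ha, by rw [← e]; group⟩
    rw [← e0] at hc'
    obtain ⟨a, ha, e⟩ := closure_comm_surj (fun a ha a' ha' => by
      have := (⁅A, B⁆).inv_mem (hm a ha _ (B.inv_mem hb))
      have h5 := h2 _ this a' (Subgroup.mem_sup_left ha')
      have e : (a * b⁻¹ * a⁻¹ * b⁻¹⁻¹)⁻¹ = b⁻¹ * a * b⁻¹⁻¹ * a⁻¹ := by group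
      rw [e] at h5; exact h5.symm) hc'
    exact ⟨a⁻¹, A.inv_mem ha, by rw [← inv_inv c, e]; group⟩

theorem rcc_of_sc (h : Sc S A B C) : RootCommutatorCase S A B := by
  have e := h.eq
  subst e
  refine ⟨h.mem, fun c hc x hx => (comm_sup (fun a ha => (h.cA c hc a ha).symm)
    (fun b hb => (h.cB c hc b hb).symm) x hx).symm, fun a ha ha1 => le_antisymm ?_ ?_,
    fun b hb hb1 => le_antisymm ?_ ?_⟩
  · rw [Subgroup.closure_le]
    rintro _ ⟨b, hb, rfl⟩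
    exact Subgroup.commutator_mem_commutator ha hb
  · intro c hc
    obtain ⟨b, hb, e⟩ := h.sR a⁻¹ (A.inv_mem ha) (inv_ne_one.2 ha1) c hc
    exact Subgroup.subset_closure ⟨b⁻¹, B.inv_mem hb, by rw [e]; group⟩
  · rw [Subgroup.closure_le]
    rintro _ ⟨a, ha, rfl⟩
    exact Subgroup.commutator_mem_commutator ha hb
  · intro c hc
    obtain ⟨a, ha, e⟩ := h.sL b⁻¹ (B.inv_mem hb) (inv_ne_one.2 hb1) c hc
    exact Subgroup.subset_closure ⟨a⁻¹, A.inv_mem ha, by rw [e]; group⟩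

theorem Sc.rc_le (h : Sc S A B C) {a : G} (ha : a ∈ A) : B ^~ a ≤ B ⊔ C := by
  intro x hx
  obtain ⟨b, hb, rfl⟩ := exists_of_mem_rc hx
  have : a⁻¹ * b * a = b * (b⁻¹ * a⁻¹ * b * a) := by group
  rw [this]
  exact Subgroup.mul_mem_sup hb (h.symm.comm b hb a ha)

theorem Sc.rc (hS : IsRootSubgroupSet S) (h : Sc S A B C) (g : G) : Sc S (A ^~ g) (B ^~ g) (C ^~ g) where
  mem := hS.conj_mem _ h.mem _
  eq := by rw [← rc_commutator, h.eq]
  cA := h.cA.rc g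
  cB := h.cB.rc g
  comm := fun a ha b hb => by
    rw [mem_rc] at *
    have := h.comm _ ha _ hb
    convert this using 1; group
  sR := fun a ha ha1 c hc => by
    obtain ⟨a, ha', rfl⟩ := exists_of_mem_rc ha
    obtain ⟨c, hc', rfl⟩ := exists_of_mem_rc hc
    obtain ⟨b, hb, e⟩ := h.sR a ha' (by rintro rfl; simp at ha1) c hc'
    exact ⟨_, conj_mem_rc hb g, by rw [e]; group⟩
  sL := fun b hb hb1 c hc => by
    obtain ⟨b, hb', rfl⟩ := exists_of_mem_rc hb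
    obtain ⟨c, hc', rfl⟩ := exists_of_mem_rc hc
    obtain ⟨a, ha, e⟩ := h.sL b hb' (by rintro rfl; simp at hb1) c hc'
    exact ⟨_, conj_mem_rc ha g, by rw [e]; group⟩

theorem rs_rc (hS : IsRootSubgroupSet S) (hA : A ∈ S) (g : G) : A ^~ g ∈ S := hS.conj_mem A hA _

theorem rs_cm (hS : IsRootSubgroupSet S) (hA : A ∈ S) : Cm A A := cm_self_iff.2 (hS.commutative A hA)

theorem rs_exists_ne_one (hS : IsRootSubgroupSet S) (hA : A ∈ S) : ∃ a ∈ A, a ≠ 1 := by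
  by_contra hn
  push Not at hn
  exact hS.ne_bot A hA ((Subgroup.eq_bot_iff_forall _).2 hn)

theorem rs_tri (hS : IsRootSubgroupSet S) (hA : A ∈ S) (hB : B ∈ S) :
    Cm A B ∨ R1 A B ∨ Sc S A B ⁅A, B⁆ := by
  rcases hS.pair A hA B hB with h | h | h
  · exact Or.inl (cm_iff.2 h)
  · exact Or.inr (Or.inl h)
  · exact Or.inr (Or.inr (sc_of_rcc h))

theorem Sc.not_cm (hS : IsRootSubgroupSet S) (h : Sc S A B C) : ¬ Cm A B := fun hc =>
  hS.ne_bot C h.mem (h.eq.symm.trans (cm_iff.1 hc))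

theorem Sc.cm_rc (hS : IsRootSubgroupSet S) (hB : B ∈ S) (h : Sc S A B C) {a : G} (ha : a ∈ A) :
    Cm B (B ^~ a) :=
  ((rs_cm hS hB).sup_right h.cB.symm).mono le_rfl (h.rc_le ha)

theorem cm_rc_of_not_r1 (hS : IsRootSubgroupSet S) (hA : A ∈ S) (hB : B ∈ S) (h : ¬ R1 A B) {a : G}
    (ha : a ∈ A) : Cm B (B ^~ a) := by
  rcases rs_tri hS hA hB with h1 | h1 | h1
  · rw [h1.symm.rc_eq ha]; exact rs_cm hS hB
  · exact absurd h1 h
  · exact h1.cm_rc hS hB ha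

theorem Sc.not_r1 (hS : IsRootSubgroupSet S) (hB : B ∈ S) (h : Sc S A B C) : ¬ R1 A B := by
  intro h1
  obtain ⟨a, ha, ha1⟩ := r1_exists_ne_one h1
  exact r1_not_cm (r1_rc_self h1 ha ha1) (h.cm_rc hS hB ha)

theorem r1_of_r1_rc (hS : IsRootSubgroupSet S) (hD : D ∈ S) (hE : E ∈ S) {d : G} (hd : d ∈ D)
    (h : R1 E (E ^~ d)) : R1 D E := by
  by_contra hn
  exact r1_not_cm h (cm_rc_of_not_r1 hS hD hE hn hd)

/-- if `d ∈ D` moves `E` to a rank one partner then `D` is a unipotent subgroup of that rank one group -/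
theorem mem_unip_of_r1_rc (hS : IsRootSubgroupSet S) (hD : D ∈ S) (hE : E ∈ S) {d : G} (hd : d ∈ D)
    (h : R1 E (E ^~ d)) : D ∈ unipotentSubgroups E (E ^~ d) := by
  have h1 := r1_of_r1_rc hS hD hE hd h
  rw [unip_unip h1 (right_mem_unip h1) (rc_right_mem_unip h1 hd) h.ne]
  exact left_mem_unip

theorem rs_unip_mem (hS : IsRootSubgroupSet S) (hA : A ∈ S) (hE : E ∈ unipotentSubgroups A B) : E ∈ S := by
  obtain ⟨x, -, rfl⟩ := mem_unip.1 hE
  exact rs_rc hS hA x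

/-- no root element has the form `z a` with `z` centralizing the rank one group -/
theorem rs_no_central_mul (hS : IsRootSubgroupSet S) (hB : B ∈ S) (h : R1 A B) {z a : G}
    (hzA : ∀ x ∈ A, x * z = z * x) (hzB : ∀ x ∈ B, x * z = z * x) (ha : a ∈ A) (ha1 : a ≠ 1)
    (hD : D ∈ S) (hd : z * a ∈ D) : z = 1 := by
  have e : B ^~ (z * a) = B ^~ a := by rw [← rc_rc, rc_of_comm hzB]
  have h1 : R1 B (B ^~ (z * a)) := by rw [e]; exact r1_rc_self h ha ha1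
  have h2 := mem_unip_of_r1_rc hS hD hB hd h1
  rw [e, unip_unip h (right_mem_unip h) (rc_right_mem_unip h ha) (r1_rc_self h ha ha1).ne] at h2
  have hDA : D = A := by
    by_contra hne
    have h3 := unip_r1 h h2 left_mem_unip hne
    have h4 := r1_norm h3 hd (by rw [← rc_rc, rc_of_comm hzA, rc_of_mem ha])
    rw [h4, rc_one] at h1
    exact h1.ne rfl
  rw [hDA] at hd
  have hz : z ∈ A := by simpa using A.mul_mem hd (A.inv_mem ha)
  exact r1_norm h hz (rc_of_comm hzB)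

theorem rs_no_central_mul' (hS : IsRootSubgroupSet S) (hB : B ∈ S) (h : R1 A B) {z a : G}
    (hzA : ∀ x ∈ A, x * z = z * x) (hzB : ∀ x ∈ B, x * z = z * x) (ha : a ∈ A) (ha1 : a ≠ 1)
    (hD : D ∈ S) (hd : a * z ∈ D) : z = 1 :=
  rs_no_central_mul hS hB h hzA hzB ha ha1 hD (by rwa [← hzA a ha])

/-- a non-isolated member meets the other members trivially -/
theorem rs_eq_of_mem (hS : IsRootSubgroupSet S) (hD : D ∈ S) (h : R1 A D) (hB : B ∈ S) {x : G}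
    (hx : x ≠ 1) (hxA : x ∈ A) (hxB : x ∈ B) : A = B := by
  have h1 := r1_rc_self h hxA hx
  have h2 := mem_unip_of_r1_rc hS hB hD hxB h1
  rw [unip_unip h (right_mem_unip h) (rc_right_mem_unip h hxA) h1.ne] at h2
  exact unip_eq_of_mem h left_mem_unip h2 hx hxA hxB

theorem rs_sc_of_mem (hS : IsRootSubgroupSet S) (hA : A ∈ S) (hB : B ∈ S) (hC : ⁅A, B⁆ ∈ S) :
    Sc S A B ⁅A, B⁆ := by
  rcases rs_tri hS hA hB with h | h | h
  · exact absurd (cm_iff.1 h) (hS.ne_bot _ hC)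
  · exfalso
    have hn : ∀ x ∈ A ⊔ B, ⁅A, B⁆ ^~ x = ⁅A, B⁆ := fun x hx =>
      rc_eq_self_iff_mem_normalizer.2 ((sup_le (Subgroup.normalizer_commutator_ge_left _ _)
        (Subgroup.normalizer_commutator_ge_right _ _) : A ⊔ B ≤ _) hx)
    have hle := Subgroup.commutator_le_sup A B
    have hnr : ¬ R1 ⁅A, B⁆ A := fun h1 => by
      obtain ⟨a, ha, ha1⟩ := r1_exists_ne_one h
      exact ha1 (r1_norm (r1_symm h1) ha (hn a (Subgroup.mem_sup_left ha)))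
    have hfix : ∀ c ∈ ⁅A, B⁆, A ^~ c = A := fun c hc =>
      (unip_eq_of_cm h left_mem_unip (unip_rc left_mem_unip (hle hc))
        (cm_rc_of_not_r1 hS hC hA hnr hc)).symm
    obtain ⟨b, hb, hb1⟩ := r1_exists_ne_one (r1_symm h)
    obtain ⟨a, ha, ha1⟩ := r1_exists_ne_one h
    have h1 := hfix _ (comm_mem_commutator ha hb)
    rw [← rc_rc, ← rc_rc, ← rc_rc, rc_of_mem (A.inv_mem ha), rc_eq_iff] at h1
    have h2 := r1_rc_left (r1_symm (r1_rc_left h (B.inv_mem hb))) (b := 1) (one_mem _)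
    have h3 : R1 A (A ^~ b⁻¹) := r1_rc_self (r1_symm h) (B.inv_mem hb) (inv_ne_one.2 hb1)
    exact ha1 (r1_norm h3 ha h1)
  · exact h

section NonIsolated

theorem Sc.comm_ne_one (hS : IsRootSubgroupSet S) (hA : A ∈ S) (hD : D ∈ S) (hAD : R1 A D) (h : Sc S A B C)
    {a b : G} (ha : a ∈ A) (hb : b ∈ B) (e : a * b = b * a) : a = 1 ∨ b = 1 := by
  by_contra hn
  push Not at hn
  have h1 : a ∈ A ^~ b := by rw [mem_rc, ← e]; simpa using ha
  have h2 := rs_eq_of_mem hS hD hAD (rs_rc hS hA b) hn.1 ha h1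
  obtain ⟨c, hc, hc1⟩ := rs_exists_ne_one hS h.mem
  obtain ⟨a', ha', e'⟩ := h.sL b hb hn.2 c hc
  have h3 : c ∈ A := by
    have := conj_mem_rc ha' b
    rw [← h2] at this
    have := A.mul_mem (A.inv_mem ha') this
    rw [e']; simpa [mul_assoc] using this
  have h4 := rs_eq_of_mem hS hD hAD h.mem hc1 h3 hc
  exact h.not_cm hS (h4 ▸ h.cB)

theorem Sc.ne_left (hS : IsRootSubgroupSet S) (h : Sc S A B C) : A ≠ C := by
  rintro rfl
  exact h.not_cm hS h.cB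

theorem Sc.inf_left (hS : IsRootSubgroupSet S) (h : Sc S A B C) {x : G} (ha : x ∈ A) (hc : x ∈ C) : x = 1 := by
  by_contra hx
  obtain ⟨c, hc', hc1⟩ := rs_exists_ne_one hS h.mem
  obtain ⟨b, hb, e⟩ := h.sR x ha hx c hc'
  apply hc1
  rw [e, mul_assoc, mul_assoc, h.cB x hc b hb]; group

theorem Sc.rc_injective (hS : IsRootSubgroupSet S) (h : Sc S A B C) {b : G} (hb : b ∈ B) (e : A ^~ b = A) :
    b = 1 := by
  by_contra hb1
  obtain ⟨c, hc, hc1⟩ := rs_exists_ne_one hS h.mem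
  obtain ⟨a, ha, e'⟩ := h.sL b hb hb1 c hc
  refine hc1 (h.inf_left hS ?_ hc)
  have := conj_mem_rc ha b
  rw [e] at this
  have := A.mul_mem (A.inv_mem ha) this
  rw [e']; simpa [mul_assoc] using this

theorem Sc.rc_ne (hS : IsRootSubgroupSet S) (h : Sc S A B C) {b : G} (hb : b ∈ B) : A ^~ b ≠ C := by
  intro e
  rw [rc_eq_iff, h.cB.rc_eq (B.inv_mem hb)] at e
  exact h.ne_left hS e

theorem mem_sup_of_cm (h : Cm A C) {x : G} (hx : x ∈ A ⊔ C) : ∃ a ∈ A, ∃ c ∈ C, x = a * c := by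
  have hn : C ≤ Subgroup.normalizer (A : Set G) := fun c hc =>
    rc_eq_self_iff_mem_normalizer.1 (h.rc_eq hc)
  have := Subgroup.coe_mul_of_right_le_normalizer_left A C hn
  have hx' : x ∈ ((A ⊔ C : Subgroup G) : Set G) := hx
  rw [this] at hx'
  obtain ⟨a, ha, c, hc, e⟩ := hx'
  exact ⟨a, ha, c, hc, e.symm⟩

/-- every element of `A C` lies in `C` or in a conjugate of `A` under `B` -/
theorem Sc.cover (h : Sc S A B C) {x : G} (hx : x ∈ A ⊔ C) : x ∈ C ∨ ∃ b ∈ B, x ∈ A ^~ b := by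
  obtain ⟨a, ha, c, hc, rfl⟩ := mem_sup_of_cm h.cA.symm hx
  by_cases ha1 : a = 1
  · left; rw [ha1, one_mul]; exact hc
  · right
    obtain ⟨b, hb, e⟩ := h.sR a ha ha1 c hc
    refine ⟨b, hb, ?_⟩
    have : a * c = b⁻¹ * a * b := by rw [e]; group
    rw [this]; exact conj_mem_rc ha b

/-- the members of `S` inside `A C` -/
theorem Sc.points (hS : IsRootSubgroupSet S) (hA : A ∈ S) (hD : D ∈ S) (hAD : R1 A D) (h : Sc S A B C)
    (hE : E ∈ S) (hle : E ≤ A ⊔ C) : E = C ∨ ∃ b ∈ B, E = A ^~ b := by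
  by_cases h1 : ∃ e ∈ E, e ∉ C
  · obtain ⟨e, he, heC⟩ := h1
    obtain ⟨b, hb, h2⟩ := (h.cover (hle he)).resolve_left heC
    refine Or.inr ⟨b, hb, (rs_eq_of_mem hS (rs_rc hS hD b) (r1_rc hAD b) hE ?_ h2 he).symm⟩
    rintro rfl; exact heC C.one_mem
  left
  push Not at h1
  have hnc : ∀ c ∈ C, c ≠ 1 → ¬ ∀ d ∈ D, d * c = c * d := by
    intro c hc hc1 hcd
    obtain ⟨a, ha, ha1⟩ := r1_exists_ne_one hAD
    obtain ⟨b, hb, e⟩ := h.sR a ha ha1 c hc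
    refine hc1 (rs_no_central_mul' hS hD hAD (fun x hx => (h.cA c hc x hx).symm) hcd ha ha1 (rs_rc hS hA b) ?_)
    have : a * c = b⁻¹ * a * b := by rw [e]; group
    rw [this]; exact conj_mem_rc ha b
  obtain ⟨e, he, he1⟩ := rs_exists_ne_one hS hE
  rcases rs_tri hS hD h.mem with h2 | h2 | h2
  · exact absurd (fun d hd => h2 d hd e (h1 e he)) (hnc e (h1 e he) he1)
  · exact (rs_eq_of_mem hS hD (r1_symm h2) hE he1 (h1 e he) he).symm
  · rcases rs_tri hS hD hE with h3 | h3 | h3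
    · exact absurd (fun d hd => h3 d hd e he) (hnc e (h1 e he) he1)
    · exact absurd (h2.symm.cm_rc hS hD (h1 e he)) (r1_not_cm (r1_rc_self (r1_symm h3) he he1))
    · refine le_antisymm h1 fun c hc => ?_
      obtain ⟨d, hd, hd1⟩ := rs_exists_ne_one hS hD
      obtain ⟨d', hd', e1⟩ := h2.sL e (h1 e he) he1 _ (h2.comm d hd c hc)
      obtain ⟨e', he', e2⟩ := h3.sR d hd hd1 _ (h3.comm d' hd' e he)
      have e3 : d * (c * e'⁻¹) = (c * e'⁻¹) * d := by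
        have e4 := e1.trans e2
        calc d * (c * e'⁻¹) = c * d * (d⁻¹ * c⁻¹ * d * c) * e'⁻¹ := by group
          _ = _ := by rw [e4]; group
      rcases h2.comm_ne_one hS hD hA (r1_symm hAD) hd (C.mul_mem hc (C.inv_mem (h1 e' he'))) e3 with h4 | h4
      · exact absurd h4 hd1
      · rw [mul_inv_eq_one.1 h4]; exact he'

end NonIsolated

end Cfsg.Agent.H90
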