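import Cfsg.Agent.H90.Root

/-! Lines and graphs for sets of abstract root subgroups. -/

set_option autoImplicit false

namespace Cfsg.Agent.H90
open Cfsg

variable {G : Type*} [Group G] {S : Set (Subgroup G)} {A B C D E F P : Subgroup G}

local notation "R1" => IsRankOnePair

theorem not_isolated_iff (hA : A ∈ S) : ¬ IsIsolatedIn (FAdj S) S A ↔ ∃ D ∈ S, R1 A D := by
  constructor
  · intro h
    by_contra hn
    push Not at hn
    exact h ⟨hA, fun B => ⟨fun h1 => hn B h1.2.1 h1.2.2, fun h1 => hn B h1.1 (r1_symm h1.2.2)⟩⟩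
  · rintro ⟨D, hD, h⟩ h1
    exact (h1.2 D).1 ⟨hA, hD, h⟩

/-- a subgroup containing all members of `S` is everything -/
theorem rs_eq_top (hS : IsRootSubgroupSet S) {K : Subgroup G} (h : ∀ A ∈ S, A ≤ K) : K = ⊤ := by
  rw [eq_top_iff, ← hS.generates]
  exact iSup₂_le h

theorem rs_mem_of_all (hS : IsRootSubgroupSet S) {K : Subgroup G} (h : ∀ A ∈ S, A ≤ K) (g : G) : g ∈ K := by
  rw [rs_eq_top hS h]; trivial

/-- a property of subgroups preserved by conjugation with root elements is preserved by all conjugations -/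
theorem rs_invariant (hS : IsRootSubgroupSet S) {Q : Subgroup G → Prop}
    (h : ∀ E ∈ S, ∀ e ∈ E, ∀ A, Q A → Q (A ^~ e)) (g : G) {A : Subgroup G} (hA : Q A) : Q (A ^~ g) := by
  let K : Subgroup G :=
    { carrier := {g | ∀ A, Q A ↔ Q (A ^~ g)}
      one_mem' := fun E => by rw [rc_one]
      mul_mem' := fun {g g'} hg hg' E => by rw [← rc_rc, ← hg' _, ← hg _]
      inv_mem' := fun {g} hg E => by rw [hg (E ^~ g⁻¹), rc_inv_rc] }
  have hK : ∀ E ∈ S, E ≤ K := fun E hE e he A => ⟨h E hE e he A, fun h' => by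
    have := h E hE _ (E.inv_mem he) _ h'
    rwa [rc_rc_inv] at this⟩
  exact (rs_mem_of_all hS hK g A).1 hA

/-- `B` is a line partner of `A`, in a convenient form -/
structure Ln (S : Set (Subgroup G)) (A B : Subgroup G) : Prop where
  mem : B ∈ S
  ne : B ≠ A
  cm : Cm A B
  cover : ∀ x ∈ A ⊔ B, x ≠ 1 → ∃ P ∈ S, P ≤ A ⊔ B ∧ x ∈ P
  disj : ∀ P ∈ S, ∀ Q ∈ S, P ≤ A ⊔ B → Q ≤ A ⊔ B → ∀ x, x ≠ 1 → x ∈ P → x ∈ Q → P = Q

theorem ln_iff : B ∈ linePartners S A ↔ Ln S A B := by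
  constructor
  · rintro ⟨⟨h1, h2, h3⟩, -, h5, h6⟩
    refine ⟨h1, h2, cm_iff.2 h3, fun x hx hx1 => ?_, fun P hP Q hQ hP' hQ' x hx1 hxP hxQ => ?_⟩
    · obtain ⟨P, hP, hxP⟩ := h5 x hx hx1
      exact ⟨P, hP.1, hP.2, hxP⟩
    · by_contra hne
      have := h6 P ⟨hP, hP'⟩ Q ⟨hQ, hQ'⟩ hne
      have h7 : x ∈ P ⊓ Q := ⟨hxP, hxQ⟩
      rw [this] at h7
      exact hx1 h7
  · intro h
    refine ⟨⟨h.mem, h.ne, cm_iff.1 h.cm⟩, fun C hC => hC.2, fun x hx hx1 => ?_, fun P hP Q hQ hne => ?_⟩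
    · obtain ⟨P, hP, hle, hxP⟩ := h.cover x hx hx1
      exact ⟨P, ⟨hP, hle⟩, hxP⟩
    · rw [eq_bot_iff]
      intro x hx
      by_contra hx1
      exact hne (h.disj P hP.1 Q hQ.1 hP.2 hQ.2 x hx1 hx.1 hx.2)

theorem Ln.symm (h : Ln S A B) (hA : A ∈ S) : Ln S B A :=
  ⟨hA, h.ne.symm, h.cm.symm, by rw [sup_comm]; exact h.cover, by rw [sup_comm]; exact h.disj⟩

theorem Ln.of_eq (h : Ln S A B) (hS : IsRootSubgroupSet S) (hA : A ∈ S) (hQ : F ∈ S) (hne : F ≠ P)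
    (e : P ⊔ F = A ⊔ B) : Ln S P F := by
  have hc : Cm (A ⊔ B) (A ⊔ B) :=
    ((rs_cm hS hA).sup_left h.cm.symm).sup_right (h.cm.sup_left (rs_cm hS h.mem))
  exact ⟨hQ, hne, hc.mono (e ▸ le_sup_left) (e ▸ le_sup_right), by rw [e]; exact h.cover,
    by rw [e]; exact h.disj⟩

theorem Ln.cm_all (h : Ln S A B) (hS : IsRootSubgroupSet S) (hA : A ∈ S) : Cm (A ⊔ B) (A ⊔ B) :=
  ((rs_cm hS hA).sup_left h.cm.symm).sup_right (h.cm.sup_left (rs_cm hS h.mem))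

theorem Ln.rc (h : Ln S A B) (hS : IsRootSubgroupSet S) (g : G) : Ln S (A ^~ g) (B ^~ g) where
  mem := rs_rc hS h.mem g
  ne := fun e => h.ne (rc_inj e)
  cm := h.cm.rc g
  cover := fun x hx hx1 => by
    rw [← rc_sup] at hx ⊢
    obtain ⟨y, hy, rfl⟩ := exists_of_mem_rc hx
    obtain ⟨P, hP, hle, hyP⟩ := h.cover y hy (by rintro rfl; simp at hx1)
    exact ⟨P ^~ g, rs_rc hS hP g, rc_mono hle g, conj_mem_rc hyP g⟩
  disj := fun P hP Q hQ hP' hQ' x hx1 hxP hxQ => by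
    rw [← rc_sup] at hP' hQ'
    have h1 := rc_mono hP' g⁻¹
    have h2 := rc_mono hQ' g⁻¹
    rw [rc_rc_inv] at h1 h2
    refine rc_inj (h.disj _ (rs_rc hS hP _) _ (rs_rc hS hQ _) h1 h2 _ ?_ (conj_mem_rc hxP g⁻¹) (conj_mem_rc hxQ g⁻¹))
    intro e; apply hx1
    calc x = g⁻¹ * (g⁻¹⁻¹ * x * g⁻¹) * g := by group
      _ = 1 := by rw [e]; group

/-- in the commutator case with `A` not isolated, `A` and `[A, B]` span a line -/
theorem Sc.ln (hS : IsRootSubgroupSet S) (hA : A ∈ S) (hD : D ∈ S) (hAD : R1 A D) (h : Sc S A B C) :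
    Ln S A C where
  mem := h.mem
  ne := (h.ne_left hS).symm
  cm := h.cA.symm
  cover := fun x hx _ => by
    rcases h.cover hx with h1 | ⟨b, hb, h1⟩
    · exact ⟨C, h.mem, le_sup_right, h1⟩
    · exact ⟨_, rs_rc hS hA b, h.symm.rc_le hb, h1⟩
  disj := fun P hP Q hQ hP' hQ' x hx1 hxP hxQ => by
    rcases h.points hS hA hD hAD hP hP' with rfl | ⟨b, -, rfl⟩
    · rcases h.points hS hA hD hAD hQ hQ' with rfl | ⟨b, -, rfl⟩
      · rfl
      · exact (rs_eq_of_mem hS (rs_rc hS hD b) (r1_rc hAD b) hP hx1 hxQ hxP).symm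
    · exact rs_eq_of_mem hS (rs_rc hS hD b) (r1_rc hAD b) hQ hx1 hxP hxQ

theorem Sc.sup_rc (h : Sc S A B C) {b : G} (hb : b ∈ B) (hb1 : b ≠ 1) : A ⊔ A ^~ b = A ⊔ C := by
  refine le_antisymm (sup_le le_sup_left (h.symm.rc_le hb)) (sup_le le_sup_left fun c hc => ?_)
  obtain ⟨a, ha, e⟩ := h.sL b hb hb1 c hc
  have := Subgroup.mul_mem_sup (A.inv_mem ha) (conj_mem_rc ha b)
  rw [e]; simpa [mul_assoc] using this

theorem Sc.ln_rc (hS : IsRootSubgroupSet S) (hA : A ∈ S) (hD : D ∈ S) (hAD : R1 A D) (h : Sc S A B C)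
    {b : G} (hb : b ∈ B) (hb1 : b ≠ 1) : Ln S A (A ^~ b) :=
  (h.ln hS hA hD hAD).of_eq hS hA (rs_rc hS hA b) (fun e => hb1 (h.rc_injective hS hb e)) (h.sup_rc hb hb1)

/-- a point `P` of a line through `A` that is not opposite to `D ∈ Ω_A` is in the commutator case with `D` -/
theorem sc_of_line (hS : IsRootSubgroupSet S) (hA : A ∈ S) (hD : D ∈ S) (hAD : R1 A D) (h : Ln S A B)
    (hP : P ∈ S) (hle : P ≤ A ⊔ B) (hne : P ≠ A) (hn : ¬ R1 P D) : Sc S P D ⁅P, D⁆ := by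
  rcases rs_tri hS hP hD with h1 | h1 | h1
  · exfalso
    obtain ⟨p, hp, hp1⟩ := rs_exists_ne_one hS hP
    obtain ⟨a, ha, ha1⟩ := rs_exists_ne_one hS hA
    have hc := h.cm_all hS hA
    have hap : a * p ≠ 1 := fun e => hne (h.disj P hP A hA hle le_sup_left p hp1 hp
      (by rw [eq_inv_of_mul_eq_one_right e]; exact A.inv_mem ha))
    obtain ⟨Q, hQ, -, hx⟩ := h.cover _ ((A ⊔ B).mul_mem (Subgroup.mem_sup_left ha) (hle hp)) hap
    exact hp1 (rs_no_central_mul' hS hD hAD (fun x hx => hc x (Subgroup.mem_sup_left hx) p (hle hp))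
      (fun x hx => (h1 p hp x hx).symm) ha ha1 hQ hx)
  · exact absurd h1 hn
  · exact h1

/-- if `A` and `C` commute and are both opposite to `B`, a member containing `a c⁻¹` is not opposite to `B` -/
theorem not_r1_of_matched (hAC : Cm A C) {a c b : G} (e1 : A ^~ b = B ^~ a) (e2 : C ^~ b = B ^~ c)
    (hp : a * c⁻¹ ∈ P) (hp1 : a * c⁻¹ ≠ 1) : ¬ R1 P B := by
  intro h
  have h1 := (hAC.rc b).rc c⁻¹
  rw [e1, e2, rc_rc, rc_rc_inv] at h1
  exact r1_not_cm (r1_rc_self h hp hp1) h1.symm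

/-- every line through `A` has a point not opposite to `D ∈ Ω_A` -/
theorem Ln.exists_not_r1 (hS : IsRootSubgroupSet S) (hA : A ∈ S) (hAD : R1 A D) (h : Ln S A B) :
    ∃ P ∈ S, P ≤ A ⊔ B ∧ P ≠ A ∧ ¬ R1 P D := by
  by_cases hB : R1 B D
  · obtain ⟨a, ha, ha1⟩ := r1_exists_ne_one hAD
    obtain ⟨d, hd, hd1, e1⟩ := r1_ex hAD ha ha1
    obtain ⟨c, hc, hc1, e2⟩ := r1_ex (r1_symm hB) hd hd1
    have hac : a * c⁻¹ ≠ 1 := fun e => h.ne (h.disj B h.mem A hA le_sup_right le_sup_left a ha1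
      (by rw [mul_inv_eq_one.1 e]; exact hc) ha)
    obtain ⟨P, hP, hle, hx⟩ := h.cover _ (Subgroup.mul_mem_sup ha (B.inv_mem hc)) hac
    have hn := not_r1_of_matched h.cm e1 e2.symm hx hac
    exact ⟨P, hP, hle, fun e => hn (e ▸ hAD), hn⟩
  · exact ⟨B, h.mem, le_sup_right, h.ne, hB⟩

/-- two commuting members in the commutator case with `B` : no conjugate pair is a rank one pair -/
theorem not_r1_triple (hS : IsRootSubgroupSet S) (hA : A ∈ S) (hAC : Cm A C) (h : Sc S C B F) {b : G}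
    (hb : b ∈ B) (hb1 : b ≠ 1) (hC : C ∈ S) : ¬ R1 (C ^~ b) A := by
  intro h1
  obtain ⟨f, hf, hf1⟩ := rs_exists_ne_one hS h.mem
  obtain ⟨c, hc, e⟩ := h.sL b hb hb1 f hf
  have hc1 : c ≠ 1 := by rintro rfl; apply hf1; rw [e]; group
  have h2 := rs_no_central_mul hS hA h1 (z := c⁻¹) (a := b⁻¹ * c * b)
    (fun x hx => (h.symm.cm_rc hS hC hb _ (C.inv_mem hc) x hx).symm)
    (fun x hx => hAC x hx _ (C.inv_mem hc)) (conj_mem_rc hc b)
    (fun e1 => hc1 (by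
      calc c = b * (b⁻¹ * c * b) * b⁻¹ := by group
        _ = 1 := by rw [e1]; group)) h.mem (by rw [← mul_assoc, ← mul_assoc, ← e]; exact hf)
  exact hc1 (inv_eq_one.1 h2)

end Cfsg.Agent.H90
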