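import Cfsg.Agent.H90.Triple

/-! Unipotent subgroups of the unit group of an algebra. -/

set_option autoImplicit false

namespace Cfsg.Agent.H90
open Cfsg

variable (k : Type*) [Field k] {R : Type*} [Ring R] [Algebra k R]

/-- span of the `g - 1` -/
def nn (H : Subgroup Rˣ) : Submodule k R := Submodule.span k {x | ∃ g ∈ H, x = (g : R) - 1}

/-- unipotent subgroup -/
def Unip (H : Subgroup Rˣ) : Prop := ∃ n, nn k H ^ n = ⊥

variable {k} {H K : Subgroup Rˣ}

theorem mem_nn {g : Rˣ} (hg : g ∈ H) : (g : R) - 1 ∈ nn k H := Submodule.subset_span ⟨g, hg, rfl⟩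

theorem nn_le {N : Submodule k R} : nn k H ≤ N ↔ ∀ g ∈ H, (g : R) - 1 ∈ N := by
  rw [nn, Submodule.span_le]
  exact ⟨fun h g hg => h ⟨g, hg, rfl⟩, by rintro h _ ⟨g, hg, rfl⟩; exact h g hg⟩

theorem nn_mono (h : H ≤ K) : nn k H ≤ nn k K := nn_le.2 fun _ hg => mem_nn (h hg)

theorem nn_mul_le (H : Subgroup Rˣ) : nn k H * nn k H ≤ nn k H := by
  rw [nn, Submodule.span_mul_span, Submodule.span_le]
  rintro _ ⟨_, ⟨g, hg, rfl⟩, _, ⟨h, hh, rfl⟩, rfl⟩
  have : ((g : R) - 1) * ((h : R) - 1) = (((g * h : Rˣ) : R) - 1) - ((g : R) - 1) - ((h : R) - 1) := by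
    rw [Units.val_mul]; noncomm_ring
  show ((g : R) - 1) * ((h : R) - 1) ∈ nn k H
  rw [this]
  exact sub_mem (sub_mem (mem_nn (H.mul_mem hg hh)) (mem_nn hg)) (mem_nn hh)

theorem nn_iSup_le {ι : Sort*} {A : ι → Subgroup Rˣ} {N : Submodule k R} (hN : N * N ≤ N)
    (h : ∀ i, nn k (A i) ≤ N) : nn k (⨆ i, A i) ≤ N := by
  rw [nn_le]
  intro g hg
  induction hg using Subgroup.iSup_induction' with
  | hp i x hx => exact h i (mem_nn hx)
  | h1 => simp
  | hmul x y _ _ hx hy =>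
    have : ((x * y : Rˣ) : R) - 1 = ((x : R) - 1) * ((y : R) - 1) + ((x : R) - 1) + ((y : R) - 1) := by
      rw [Units.val_mul]; noncomm_ring
    rw [this]
    exact add_mem (add_mem (hN (Submodule.mul_mem_mul hx hy)) hx) hy

theorem nn_sup_le {N : Submodule k R} (hN : N * N ≤ N) (h : nn k H ≤ N) (h' : nn k K ≤ N) : nn k (H ⊔ K) ≤ N := by
  rw [sup_eq_iSup]
  apply nn_iSup_le hN
  rintro (_ | _) <;> assumption

theorem unip_of_le {N : Submodule k R} {n : ℕ} (hN : N ^ n = ⊥) (h : nn k H ≤ N) : Unip k H :=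
  ⟨n, eq_bot_iff.2 (hN ▸ pow_le_pow_left' h n)⟩

theorem Unip.of_nn_le (h : Unip k K) (hle : nn k H ≤ nn k K) : Unip k H := by
  obtain ⟨n, hn⟩ := h; exact unip_of_le hn hle

theorem Unip.mono (h : Unip k K) (hle : H ≤ K) : Unip k H := h.of_nn_le (nn_mono hle)

theorem unip_bot : Unip k (⊥ : Subgroup Rˣ) :=
  ⟨1, by rw [pow_one, eq_bot_iff, nn_le]; intro g hg; rw [Subgroup.mem_bot.1 hg]; simp⟩

theorem nn_pow_succ_le (H : Subgroup Rˣ) (i : ℕ) : nn k H ^ (i + 2) ≤ nn k H ^ (i + 1) := by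
  rw [pow_succ, pow_succ, mul_assoc]
  exact mul_le_mul_right (nn_mul_le H) _

theorem nn_pow_mul_mem {i : ℕ} {x : R} (hx : x ∈ nn k H ^ (i + 1)) {g : Rˣ} (hg : g ∈ H) :
    x * g ∈ nn k H ^ (i + 1) := by
  have : x * g = x + x * ((g : R) - 1) := by noncomm_ring
  rw [this]
  refine add_mem hx (nn_pow_succ_le H i ?_)
  rw [pow_succ]
  exact Submodule.mul_mem_mul hx (mem_nn hg)

theorem lcs_mem_nn_pow (H : Subgroup Rˣ) (i : ℕ) :
    ∀ g ∈ H.lowerCentralSeries i, (g : R) - 1 ∈ nn k H ^ (i + 1) := by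
  induction i with
  | zero => intro g hg; rw [zero_add, pow_one]; exact mem_nn hg
  | succ i ih =>
    let K : Subgroup Rˣ :=
      { carrier := {g | g ∈ H ∧ (g : R) - 1 ∈ nn k H ^ (i + 2)}
        one_mem' := ⟨H.one_mem, by simp⟩
        mul_mem' := fun {x y} hx hy => ⟨H.mul_mem hx.1 hy.1, by
          have : ((x * y : Rˣ) : R) - 1 = ((x : R) - 1) * y + ((y : R) - 1) := by
            rw [Units.val_mul]; noncomm_ring
          rw [this]
          exact add_mem (nn_pow_mul_mem hx.2 hy.1) hy.2⟩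
        inv_mem' := fun {x} hx => ⟨H.inv_mem hx.1, by
          have : ((x⁻¹ : Rˣ) : R) - 1 = -(((x : R) - 1) * (x⁻¹ : Rˣ)) := by
            rw [sub_mul, Units.mul_inv]; noncomm_ring
          rw [this]
          exact neg_mem (nn_pow_mul_mem hx.2 (H.inv_mem hx.1))⟩ }
    have : H.lowerCentralSeries (i + 1) ≤ K := by
      rw [Subgroup.lowerCentralSeries_succ, Subgroup.commutator_le]
      intro x hx y hy
      have hxH := Subgroup.lowerCentralSeries_le_self H i hx
      rw [commutatorElement_def]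
      refine ⟨H.mul_mem (H.mul_mem (H.mul_mem hxH hy) (H.inv_mem hxH)) (H.inv_mem hy), ?_⟩
      have : ((x * y * x⁻¹ * y⁻¹ : Rˣ) : R) - 1 =
          (((x : R) - 1) * ((y : R) - 1) - ((y : R) - 1) * ((x : R) - 1)) * ((y * x)⁻¹ : Rˣ) := by
        have e : ((x : R) - 1) * ((y : R) - 1) - ((y : R) - 1) * ((x : R) - 1) =
          ((x * y : Rˣ) : R) - ((y * x : Rˣ) : R) := by simp only [Units.val_mul]; noncomm_ring
        rw [e, sub_mul, Units.mul_inv, ← Units.val_mul, mul_inv_rev, mul_assoc (x * y)]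
      rw [this]
      refine nn_pow_mul_mem (sub_mem ?_ ?_) (H.inv_mem (H.mul_mem hy hxH))
      · rw [pow_succ]; exact Submodule.mul_mem_mul (ih x hx) (mem_nn hy)
      · rw [pow_succ']; exact Submodule.mul_mem_mul (mem_nn hy) (ih x hx)
    exact fun g hg => (this hg).2

theorem Unip.lcs (h : Unip k H) : ∃ n, H.lowerCentralSeries n = ⊥ := by
  obtain ⟨n, hn⟩ := h
  refine ⟨n, eq_bot_iff.2 fun g hg => ?_⟩
  have := lcs_mem_nn_pow (k := k) H n g hg
  rw [pow_succ, hn, Submodule.bot_mul, Submodule.mem_bot, sub_eq_zero] at this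
  exact Subgroup.mem_bot.2 (Units.ext this)

theorem Unip.nilpotent (h : Unip k H) : Group.IsNilpotent H :=
  (Subgroup.isNilpotent_iff_lowerCentralSeries H).2 h.lcs

theorem Unip.sup (hH : Unip k H) (hK : Unip k K) (hn : ∀ g ∈ K, H ^~ g = H) : Unip k (H ⊔ K) := by
  obtain ⟨m, hm⟩ := hH
  obtain ⟨n, hn'⟩ := hK
  set P := nn k H
  set Q := nn k K
  let L : Submodule k R := Submodule.span k {x | ∃ g ∈ K, x = (g : R)}
  have h1L : (1 : R) ∈ L := Submodule.subset_span ⟨1, K.one_mem, rfl⟩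
  have hQL : Q ≤ L := nn_le.2 fun g hg => sub_mem (Submodule.subset_span ⟨g, hg, rfl⟩) h1L
  have hLL : L * L ≤ L := by
    rw [Submodule.span_mul_span, Submodule.span_le]
    rintro _ ⟨_, ⟨g, hg, rfl⟩, _, ⟨h, hh, rfl⟩, rfl⟩
    exact Submodule.subset_span ⟨g * h, K.mul_mem hg hh, rfl⟩
  have hLP : L * P ≤ P * L := by
    rw [Submodule.mul_le]
    intro x hx y hy
    induction hx using Submodule.span_induction with
    | zero => simp
    | add x x' _ _ h1 h2 => rw [add_mul]; exact add_mem h1 h2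
    | smul c x _ h1 => rw [smul_mul_assoc]; exact Submodule.smul_mem _ c h1
    | mem x hx =>
      obtain ⟨g, hg, rfl⟩ := hx
      induction hy using Submodule.span_induction with
      | zero => simp
      | add x x' _ _ h1 h2 => rw [mul_add]; exact add_mem h1 h2
      | smul c x _ h1 => rw [mul_smul_comm]; exact Submodule.smul_mem _ c h1
      | mem y hy =>
        obtain ⟨h, hh, rfl⟩ := hy
        have : (g : R) * ((h : R) - 1) = (((g * h * g⁻¹ : Rˣ) : R) - 1) * g := by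
          rw [sub_mul, ← Units.val_mul, inv_mul_cancel_right, Units.val_mul]; noncomm_ring
        rw [this]
        refine Submodule.mul_mem_mul (mem_nn ?_) (Submodule.subset_span ⟨g, hg, rfl⟩)
        rw [← hn g hg] at hh
        exact mem_rc.1 hh
  have hPP : P * P ≤ P := nn_mul_le H
  have hQQ : Q * Q ≤ Q := nn_mul_le K
  set I := P * L
  have hIL : I * L ≤ I := by rw [mul_assoc]; exact mul_le_mul_right hLL _
  have hLI : L * I ≤ I := by rw [← mul_assoc]; exact (mul_le_mul_left hLP _).trans hIL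
  have hII : I * I ≤ I := by
    calc P * L * I = P * (L * I) := mul_assoc _ _ _
      _ ≤ P * (P * L) := mul_le_mul_right hLI _
      _ = P * P * L := (mul_assoc _ _ _).symm
      _ ≤ I := mul_le_mul_left hPP _
  have hIQ : I * Q ≤ I := (mul_le_mul_right hQL _).trans hIL
  have hQI : Q * I ≤ I := (mul_le_mul_left hQL _).trans hLI
  have hN : (I ⊔ Q) * (I ⊔ Q) ≤ I ⊔ Q := by
    rw [Submodule.mul_sup, Submodule.sup_mul, Submodule.sup_mul]
    exact sup_le (sup_le (hII.trans le_sup_left) (hQI.trans le_sup_left))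
      (sup_le (hIQ.trans le_sup_left) (hQQ.trans le_sup_right))
  have hQp : ∀ j, Q ^ (j + 1) ≤ Q := by
    intro j
    induction j with
    | zero => simp
    | succ j ih => rw [pow_succ]; exact (mul_le_mul_left ih _).trans hQQ
  have h1 : ∀ j, (I ⊔ Q) ^ (j + 1) ≤ I ⊔ Q ^ (j + 1) := by
    intro j
    induction j with
    | zero => simp
    | succ j ih =>
      rw [pow_succ]
      refine (mul_le_mul_left ih _).trans ?_
      rw [Submodule.mul_sup, Submodule.sup_mul, Submodule.sup_mul, ← pow_succ]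
      exact sup_le (sup_le (hII.trans le_sup_left) (((mul_le_mul_left (hQp j) _).trans hQI).trans le_sup_left))
        (sup_le (hIQ.trans le_sup_left) le_sup_right)
  have h2 : ∀ j, I ^ j ≤ P ^ j * L := by
    intro j
    induction j with
    | zero => rw [pow_zero, pow_zero, one_mul, Submodule.one_le]; exact h1L
    | succ j ih =>
      rw [pow_succ, pow_succ]
      refine (mul_le_mul_left ih _).trans ?_
      rw [mul_assoc, mul_assoc]
      exact mul_le_mul_right hLI _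
  refine unip_of_le (N := I ⊔ Q) (n := (n + 1) * m) ?_ (nn_sup_le hN ?_ le_sup_right)
  · have h3 := h1 n
    rw [pow_succ Q, hn', Submodule.bot_mul, sup_bot_eq] at h3
    rw [pow_mul, eq_bot_iff]
    refine (pow_le_pow_left' h3 m).trans ((h2 m).trans ?_)
    rw [hm, Submodule.bot_mul]
  · refine le_trans (fun x hx => ?_) le_sup_left
    simpa using Submodule.mul_mem_mul hx h1L

/-- normalizer condition for conjugation invariant families in a nilpotent group -/
theorem exists_normalizing {G : Type*} [Group G] {U : Subgroup G} (hU : Group.IsNilpotent U) {S D : Set (Subgroup G)}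
    (hS : ∀ A ∈ S, A ≤ U) (hc : ∀ A ∈ S, ∀ u ∈ U, A ^~ u ∈ S) (hD : D ⊆ S)
    (hsat : ∀ A ∈ S, A ≤ ⨆ B ∈ D, B → A ∈ D) {A₀ : Subgroup G} (hA₀ : A₀ ∈ S) (hA₀D : A₀ ∉ D) :
    ∃ A ∈ S, A ∉ D ∧ ∀ a ∈ A, (⨆ B ∈ D, B) ^~ a = ⨆ B ∈ D, B := by
  classical
  set V := ⨆ B ∈ D, B
  have hVU : V ≤ U := iSup₂_le fun B hB => hS B (hD hB)
  have hex : ∃ n, ∃ A ∈ S, A ∉ D ∧ A ≤ V ⊔ Zrel U n := by
    refine ⟨Group.nilpotencyClass U, A₀, hA₀, hA₀D, (hS _ hA₀).trans (le_trans ?_ le_sup_right)⟩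
    rw [Zrel, Subgroup.upperCentralSeries_nilpotencyClass, ← MonoidHom.range_eq_map, Subgroup.range_subtype]
  obtain ⟨A, hA, hAD, hle⟩ := Nat.find_spec hex
  have hmin := fun m => Nat.find_min hex (m := m)
  generalize Nat.find hex = n at hle hmin
  rcases n with _ | n
  · refine absurd (hsat A hA ?_) hAD
    simpa [Zrel] using hle
  have hmin' : ∀ B ∈ S, B ≤ V ⊔ Zrel U n → B ∈ D := fun B hB h => by
    by_contra hBD
    exact hmin n (Nat.lt_succ_self n) ⟨B, hB, hBD, h⟩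
  have hnorm : ∀ x ∈ V ⊔ Zrel U (n + 1), (V ⊔ Zrel U n) ^~ x = V ⊔ Zrel U n := by
    apply rc_eq_of_sup
    · exact fun v hv => rc_of_mem (Subgroup.mem_sup_left hv)
    · have key : ∀ z ∈ Zrel U (n + 1), (V ⊔ Zrel U n) ^~ z ≤ V ⊔ Zrel U n := by
        intro z hz y hy
        obtain ⟨x, hx, rfl⟩ := exists_of_mem_rc hy
        have hxU : x ∈ U := (sup_le hVU (Subgroup.map_subtype_le _) : V ⊔ Zrel U n ≤ U) hx
        obtain ⟨z', hz', rfl⟩ := hz
        have h1 := Subgroup.mem_upperCentralSeries_succ_iff.1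
          ((Subgroup.upperCentralSeries U (n + 1)).inv_mem hz') ⟨x, hxU⟩
        have h2 : (z' : G)⁻¹ * x * z' * x⁻¹ ∈ Zrel U n := ⟨_, h1, by simp [commutatorElement_def]⟩
        have := (V ⊔ Zrel U n).mul_mem (Subgroup.mem_sup_right h2) hx
        simpa using this
      intro z hz
      refine le_antisymm (key z hz) ?_
      have := rc_mono (key _ ((Zrel U (n + 1)).inv_mem hz)) z
      rwa [rc_inv_rc] at this
  have key : ∀ a ∈ A, V ^~ a ≤ V := by
    intro a ha
    have : V ≤ V ^~ a⁻¹ := by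
      refine iSup₂_le fun B hB => ?_
      have h1 : B ^~ a ∈ D := by
        apply hmin' _ (hc B (hD hB) a (hS A hA ha))
        rw [← hnorm a (hle ha)]
        exact rc_mono ((le_iSup₂_of_le B hB le_rfl : B ≤ V).trans le_sup_left) a
      have h2 := rc_mono (le_iSup₂_of_le _ h1 le_rfl : B ^~ a ≤ V) a⁻¹
      rwa [rc_rc_inv] at h2
    have h3 := rc_mono this a
    rwa [rc_inv_rc] at h3
  refine ⟨A, hA, hAD, fun a ha => le_antisymm (key a ha) ?_⟩
  have := rc_mono (key _ (A.inv_mem ha)) a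
  rwa [rc_inv_rc] at this

theorem biSup_insert' {G : Type*} [Group G] (S : Set (Subgroup G)) (A : Subgroup G) :
    (⨆ B ∈ insert A S, B) = (⨆ B ∈ S, B) ⊔ A := by
  rw [iSup_insert, sup_comm]

/-- Baer's theorem for unipotent subgroups -/
theorem unip_biSup [Module.Finite k R] {G : Subgroup Rˣ} {W : Set (Subgroup Rˣ)} (hWG : ∀ A ∈ W, A ≤ G)
    (hWW : ∀ A ∈ W, ∀ B ∈ W, Unip k (A ⊔ B)) (hc : ∀ A ∈ W, ∀ g ∈ G, A ^~ g ∈ W) : Unip k (⨆ A ∈ W, A) := by
  let U : Set (Subgroup Rˣ) → Subgroup Rˣ := fun S => ⨆ A ∈ S, A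
  let μ : Set (Subgroup Rˣ) → ℕ := fun S => Module.finrank k (nn k (U S))
  let Mx : Set (Subgroup Rˣ) → Prop := fun S => S ⊆ W ∧ Unip k (U S) ∧ ∀ A ∈ W, Unip k (U S ⊔ A) → A ∈ S
  have hUmono : ∀ {S T}, S ⊆ T → U S ≤ U T := fun h => biSup_mono h
  have hle : ∀ {S A}, A ∈ S → A ≤ U S := fun {S A} h => le_iSup₂_of_le A h le_rfl
  have hμ : ∀ S, μ S ≤ Module.finrank k R := fun S => Submodule.finrank_le _
  have hsat : ∀ {S}, Mx S → ∀ A ∈ W, nn k A ≤ nn k (U S) → A ∈ S := fun h A hA hn =>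
    h.2.2 A hA (h.2.1.of_nn_le (nn_sup_le (nn_mul_le _) le_rfl hn))
  have hex : ∀ S, S ⊆ W → Unip k (U S) → ∃ T, Mx T ∧ S ⊆ T := by
    intro S hS hU
    obtain ⟨T, ⟨hST, hTW, hT⟩, hmax⟩ := Set.Finite.exists_maximalFor' μ {T | S ⊆ T ∧ T ⊆ W ∧ Unip k (U T)}
      ((Set.finite_Iic (Module.finrank k R)).subset (by rintro _ ⟨T, -, rfl⟩; exact hμ T)) ⟨S, le_rfl, hS, hU⟩
    let T' := {A | A ∈ W ∧ nn k A ≤ nn k (U T)}
    have h1 : nn k (U T') ≤ nn k (U T) :=
      nn_iSup_le (nn_mul_le _) fun A => nn_iSup_le (nn_mul_le _) fun hA => hA.2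
    have hTT' : T ⊆ T' := fun A hA => ⟨hTW hA, nn_mono (hle hA)⟩
    refine ⟨T', ⟨fun A hA => hA.1, hT.of_nn_le h1, fun A hA hu => ⟨hA, ?_⟩⟩, hST.trans hTT'⟩
    have h2 : U (insert A T) ≤ U T' ⊔ A := by
      simp only [U]; rw [biSup_insert']; exact sup_le_sup_right (hUmono hTT') A
    have h3 : nn k (U T) ≤ nn k (U (insert A T)) := nn_mono (hUmono (Set.subset_insert A T))
    have h4 := hmax (j := insert A T) ⟨hST.trans (Set.subset_insert A T), Set.insert_subset hA hTW, hu.mono h2⟩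
      (Submodule.finrank_mono h3)
    rw [Submodule.eq_of_le_of_finrank_le h3 h4]
    exact nn_mono (hle (Set.mem_insert A T))
  have huniq : ∀ m, ∀ S₁ S₂, Mx S₁ → Mx S₂ → Module.finrank k R - μ (S₁ ∩ S₂) = m → S₁ = S₂ := by
    intro m
    induction m using Nat.strong_induction_on with
    | _ m ih =>
    intro S₁ S₂ h₁ h₂ hm
    have step : ∀ {S T}, Mx S → Mx T → S ≠ T → ∃ A ∈ S, A ∉ T ∧ ∀ a ∈ A, U (S ∩ T) ^~ a = U (S ∩ T) := by
      intro S T hS hT hne
      obtain ⟨A₀, hA₀, hA₀T⟩ : ∃ A ∈ S, A ∉ T := by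
        by_contra hc
        push Not at hc
        exact hne (Set.Subset.antisymm hc fun A hA =>
          hS.2.2 A (hT.1 hA) (hT.2.1.mono (sup_le (hUmono hc) (hle hA))))
      obtain ⟨A, hA, hAD, hn⟩ := exists_normalizing hS.2.1.nilpotent (S := S) (D := S ∩ T) (fun A hA => hle hA)
        (fun A hA u hu => hsat hS _ (hc A (hS.1 hA) u ((iSup₂_le fun B hB => hWG B (hS.1 hB) : U S ≤ G) hu))
          (nn_mono (rc_le_of_mem (hle hA) hu))) Set.inter_subset_left
        (fun A hA h => ⟨hA, hsat hT A (hS.1 hA) (nn_mono (h.trans (hUmono Set.inter_subset_right)))⟩)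
        hA₀ (fun h => hA₀T h.2)
      exact ⟨A, hA, fun h => hAD ⟨hA, h⟩, hn⟩
    by_contra hne
    obtain ⟨A₁, hA₁, hA₁', hn₁⟩ := step h₁ h₂ hne
    obtain ⟨A₂, hA₂, hA₂', hn₂⟩ := step h₂ h₁ (Ne.symm hne)
    rw [Set.inter_comm] at hn₂
    have hu : Unip k (U (insert A₂ (insert A₁ (S₁ ∩ S₂)))) := by
      simp only [U]
      rw [biSup_insert', biSup_insert', sup_assoc]
      exact (h₁.2.1.mono (hUmono Set.inter_subset_left)).sup (hWW _ (h₁.1 hA₁) _ (h₂.1 hA₂)) (rc_eq_of_sup hn₁ hn₂)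
    obtain ⟨S₃, h₃, hsub⟩ := hex _ (Set.insert_subset (h₂.1 hA₂) (Set.insert_subset (h₁.1 hA₁)
      (Set.inter_subset_left.trans h₁.1))) hu
    have lt : ∀ {S T A}, Mx S → Mx T → S ∩ T = S₁ ∩ S₂ → A ∈ S → A ∉ T → A ∈ S₃ → S = S₃ := by
      intro S T A hS hT e hA hA' hA3
      refine ih _ ?_ S S₃ hS h₃ rfl
      have h5 : S₁ ∩ S₂ ⊆ S ∩ S₃ := fun B hB =>
        ⟨(e ▸ hB : B ∈ S ∩ T).1, hsub (Or.inr (Or.inr hB))⟩
      have h6 : μ (S₁ ∩ S₂) < μ (S ∩ S₃) := by
        apply Submodule.finrank_lt_finrank_of_lt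
        refine lt_of_le_of_ne (nn_mono (hUmono h5)) fun e' => hA' (hsat hT A (hS.1 hA) ?_)
        refine (nn_mono (hle (S := S ∩ S₃) ⟨hA, hA3⟩)).trans (e'.symm.le.trans (nn_mono (hUmono ?_)))
        rw [← e]; exact Set.inter_subset_right
      have := hμ (S ∩ S₃)
      omega
    exact hne ((lt h₁ h₂ rfl hA₁ hA₁' (hsub (Or.inr (Or.inl rfl)))).trans
      (lt h₂ h₁ (Set.inter_comm _ _) hA₂ hA₂' (hsub (Or.inl rfl))).symm)
  obtain ⟨T, hT, -⟩ := hex ∅ (Set.empty_subset W) (by simpa [U] using unip_bot)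
  refine hT.2.1.mono (hUmono fun A hA => ?_)
  obtain ⟨T', hT', hsub⟩ := hex {A} (Set.singleton_subset_iff.2 hA) (by simpa [U] using hWW A hA A hA)
  rw [huniq _ T T' hT hT' rfl]
  exact hsub rfl

theorem rc_biSup_eq {G : Type*} [Group G] {X : Subgroup G} {W : Set (Subgroup G)}
    (hc : ∀ A ∈ W, ∀ g ∈ X, A ^~ g ∈ W) {g : G} (hg : g ∈ X) : (⨆ A ∈ W, A) ^~ g = ⨆ A ∈ W, A := by
  have key : ∀ g ∈ X, (⨆ A ∈ W, A) ≤ (⨆ A ∈ W, A) ^~ g := by
    intro g hg
    refine iSup₂_le fun B hB => ?_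
    have h2 := rc_mono (le_iSup₂_of_le _ (hc B hB _ (X.inv_mem hg)) le_rfl : B ^~ g⁻¹ ≤ ⨆ A ∈ W, A) g
    rwa [rc_inv_rc] at h2
  refine le_antisymm ?_ (key g hg)
  have := rc_mono (key _ (X.inv_mem hg)) g
  rwa [rc_inv_rc] at this

section End
variable {M : Type*} [AddCommGroup M] [Module k M]

theorem isUnipotentOn_iff' {H : Subgroup (LinearMap.GeneralLinearGroup k M)} : IsUnipotentOn H ↔
    ∃ n : ℕ, ∀ l : List (LinearMap.GeneralLinearGroup k M), (∀ g ∈ l, g ∈ H) → l.length = n →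
      (l.map fun g : LinearMap.GeneralLinearGroup k M => (g : M →ₗ[k] M) - 1).prod = 0 := by
  have : ∀ l : List (LinearMap.GeneralLinearGroup k M), (List.map (fun g : M →ₗ[k] M => g - 1) do
      let a ← l
      pure (a : M →ₗ[k] M)) = l.map fun g : LinearMap.GeneralLinearGroup k M => (g : M →ₗ[k] M) - 1 := by
    intro l
    induction l with
    | nil => rfl
    | cons g l ih => rw [List.map_cons, ← ih]; rfl
  unfold IsUnipotentOn
  simp only [this]

theorem isUnipotentOn_iff {H : Subgroup (LinearMap.GeneralLinearGroup k M)} : IsUnipotentOn H ↔ Unip k H := by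
  rw [isUnipotentOn_iff']
  refine exists_congr fun n => ⟨fun h => ?_, fun h l hl hn => ?_⟩
  · rw [nn, Submodule.span_pow, Submodule.span_eq_bot]
    intro x hx
    obtain ⟨f, rfl⟩ := Set.mem_pow.1 hx
    choose g hg using fun i => (f i).2
    have := h (List.ofFn g) (by simp [hg]) (by simp)
    rw [List.map_ofFn] at this
    rw [← this]
    congr 2
    ext1 i
    exact (hg i).2
  · have : ∀ l : List (LinearMap.GeneralLinearGroup k M), (∀ g ∈ l, g ∈ H) →
        (l.map fun g : LinearMap.GeneralLinearGroup k M => (g : M →ₗ[k] M) - 1).prod ∈ nn k H ^ l.length := by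
      intro l
      induction l with
      | nil => intro _; simp [Submodule.one_le.1 le_rfl]
      | cons g l ih =>
        intro hl
        rw [List.map_cons, List.prod_cons, List.length_cons, pow_succ']
        exact Submodule.mul_mem_mul (mem_nn (hl g (by simp))) (ih fun g hg => hl g (by simp [hg]))
    have h1 := this l hl
    rw [hn, h] at h1
    exact h1

theorem Unip.exists_fixed {H : Subgroup (LinearMap.GeneralLinearGroup k M)} (h : Unip k H) {m₀ : M} (hm : m₀ ≠ 0) :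
    ∃ m : M, m ≠ 0 ∧ ∀ g ∈ H, (g : M →ₗ[k] M) m = m := by
  classical
  have h0 := Nat.find_spec h
  have hmin := fun m => Nat.find_min h (m := m)
  generalize Nat.find h = n at h0 hmin
  rcases n with _ | n
  · exfalso
    have : (1 : M →ₗ[k] M) ∈ nn k H ^ 0 := by simp [Submodule.one_le.1 le_rfl]
    rw [h0, Submodule.mem_bot] at this
    exact hm (by simpa using congrArg (fun f : M →ₗ[k] M => f m₀) this)
  obtain ⟨x, hx, hx0⟩ := (Submodule.ne_bot_iff _).1 (hmin n (Nat.lt_succ_self n))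
  obtain ⟨m, hm⟩ : ∃ m, x m ≠ 0 := by
    by_contra hc; push Not at hc; exact hx0 (LinearMap.ext hc)
  refine ⟨x m, hm, fun g hg => ?_⟩
  have := Submodule.mul_mem_mul (mem_nn (k := k) hg) hx
  rw [← pow_succ', h0, Submodule.mem_bot] at this
  have h2 := congrArg (fun f : M →ₗ[k] M => f m) this
  simpa [sub_eq_zero] using h2

theorem unip_normal_eq_bot {G N : Subgroup (LinearMap.GeneralLinearGroup k M)} (hG : IsIrreducibleFor G)
    (hN : Unip k N) (hn : ∀ g ∈ G, N ^~ g = N) : N = ⊥ := by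
  obtain ⟨⟨m₀, hm₀⟩, hirr⟩ := hG
  obtain ⟨m, hm, hfix⟩ := hN.exists_fixed hm₀
  let W : Submodule k M :=
    { carrier := {v | ∀ g ∈ N, (g : M →ₗ[k] M) v = v}
      zero_mem' := fun g _ => map_zero _
      add_mem' := fun {a b} ha hb g hg => by rw [map_add, ha g hg, hb g hg]
      smul_mem' := fun c a ha g hg => by rw [map_smul, ha g hg] }
  rcases hirr W (fun g hg w hw n hn' => by
    have h1 : g⁻¹ * n * g ∈ N := by rw [← hn g hg]; exact conj_mem_rc hn' g
    have h2 := hw _ h1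
    have : n * g = g * (g⁻¹ * n * g) := by group
    rw [← Module.End.mul_apply, ← Units.val_mul, this, Units.val_mul, Module.End.mul_apply, h2]) with h | h
  · exact absurd ((Submodule.eq_bot_iff W).1 h m hfix) hm
  · rw [eq_bot_iff]
    intro g hg
    rw [Subgroup.mem_bot]
    ext v
    exact (h ▸ Submodule.mem_top : v ∈ W) g hg

end End

end Cfsg.Agent.H90
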